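import Cfsg.Agent.Lib.JTwoType.Ctx

/-!
The quotient by the central involution: the image of the extraspecial subgroup is strongly closed elementary abelian of
order sixteen, and the involutions outside it have centralisers with normal 2-complements.

Blueprint: `blueprint/S1776.md`, part B.
-/

set_option autoImplicit false
set_option linter.unusedSectionVars false

namespace CfsgJTwo

open Cfsg CfsgA8C

universe u

variable {X : Type u} [Group X] [Finite X]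

namespace Ctx

variable (D : Ctx X)

/-- The subgroup of order two. -/
def K : Subgroup X := Subgroup.zpowers (D.ι W.z)

instance K_normal : D.K.Normal :=
  ⟨fun n hn x => by
    obtain ⟨i, rfl⟩ := hn
    show x * D.ι W.z ^ i * x⁻¹ ∈ D.K
    rw [← conj_zpow, D.conj_z]
    exact ⟨i, rfl⟩⟩

theorem z_mul_z : D.ι W.z * D.ι W.z = 1 := by rw [← map_mul, W.z_sq, map_one]

theorem mem_K {x : X} : x ∈ D.K ↔ x = 1 ∨ x = D.ι W.z := by
  constructor
  · intro hx
    obtain ⟨i, hi⟩ := Subgroup.mem_zpowers_iff.mp hx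
    rcases Int.even_or_odd i with ⟨j, rfl⟩ | ⟨j, rfl⟩
    · left
      rw [← hi, ← two_mul, zpow_mul, zpow_two, D.z_mul_z, one_zpow]
    · right
      rw [← hi, zpow_add, zpow_mul, zpow_two, D.z_mul_z, one_zpow, one_mul, zpow_one]
  · rintro (rfl | rfl)
    · exact one_mem _
    · exact Subgroup.mem_zpowers _

/-- The projection. -/
def π : X →* X ⧸ D.K := QuotientGroup.mk' D.K

theorem π_surj : Function.Surjective D.π := QuotientGroup.mk'_surjective D.K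

theorem π_ker : D.π.ker = D.K := QuotientGroup.ker_mk' D.K

theorem π_z : D.π (D.ι W.z) = 1 :=
  (QuotientGroup.eq_one_iff _).mpr (D.mem_K.mpr (Or.inr rfl))

theorem π_eq {x y : X} : D.π x = D.π y ↔ x = y ∨ x = y * D.ι W.z := by
  constructor
  · intro h
    rcases D.mem_K.mp (QuotientGroup.eq.mp (show (y : X ⧸ D.K) = x from h.symm)) with e | e
    · left; exact (inv_mul_eq_one.mp e).symm
    · right; rw [← e, mul_inv_cancel_left]
  · rintro (rfl | rfl)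
    · rfl
    · rw [map_mul, D.π_z, mul_one]

theorem π_ι_eq {a b : W} : D.π (D.ι a) = D.π (D.ι b) ↔ a = b ∨ a = b * W.z := by
  rw [D.π_eq, ← map_mul, D.eq_iff, D.eq_iff]

theorem π_ι_one {a : W} : D.π (D.ι a) = 1 ↔ a = 1 ∨ a = W.z := by
  have h := D.π_ι_eq (a := a) (b := 1)
  rwa [map_one, map_one, one_mul] at h

theorem π_conj (a b : W) : D.π (D.ι a) * D.π (D.ι b) * (D.π (D.ι a))⁻¹ = D.π (D.ι (a * b * a⁻¹)) := by
  rw [← map_inv, ← map_mul, ← map_mul, D.conj_map]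

theorem ker_pGroup : IsPGroup 2 D.π.ker := by
  rw [D.π_ker]
  exact two_elt_isPGroup (k := 1) (by rw [pow_one, pow_two, D.z_mul_z])

theorem ker_central : ∀ k ∈ D.π.ker, ∀ x : X, k * x = x * k := by
  intro k hk x
  rw [D.π_ker, D.mem_K] at hk
  rcases hk with rfl | rfl
  · simp
  · exact (D.zc x).symm

theorem oddCore_bar : oddCore (X ⧸ D.K) = ⊥ := by
  rw [eq_bot_iff]
  intro o ho
  rw [← core_top_eq] at ho
  obtain ⟨o', ho', rfl⟩ := core_lift D.π D.π_surj D.ker_pGroup D.ker_central ho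
  rw [core_top_eq, D.hO, Subgroup.mem_bot] at ho'
  rw [ho', map_one]
  exact one_mem _

theorem core_bar : core (⊤ : Subgroup (X ⧸ D.K)) = ⊥ := by rw [core_top_eq, D.oddCore_bar]

/-- The Sylow subgroup of the quotient. -/
noncomputable def Tb : Sylow 2 (X ⧸ D.K) :=
  haveI := Fact.mk Nat.prime_two
  D.T.mapSurjective D.π_surj

theorem Tb_coe : (D.Tb : Subgroup (X ⧸ D.K)) = (D.T : Subgroup X).map D.π := rfl

theorem mem_Tb (w : W) : D.π (D.ι w) ∈ (D.Tb : Subgroup (X ⧸ D.K)) := ⟨_, D.mem_T w, rfl⟩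

theorem exists_Tb {e : X ⧸ D.K} (he : e ∈ (D.Tb : Subgroup (X ⧸ D.K))) : ∃ w, D.π (D.ι w) = e := by
  obtain ⟨x, hx, rfl⟩ := he
  obtain ⟨w, rfl⟩ := D.exists_pre hx
  exact ⟨w, rfl⟩

/-- The image of the extraspecial subgroup. -/
def Eb : Subgroup (X ⧸ D.K) := (D.sub W.Qs).map D.π

theorem mem_Eb {w : W} : D.π (D.ι w) ∈ D.Eb ↔ W.IsQ w := by
  constructor
  · rintro ⟨_, ⟨q, hq, rfl⟩, e⟩
    rcases D.π_ι_eq.mp e.symm with h | h
    · exact h ▸ hq
    · exact h ▸ W.Q_mul q W.z hq W.z_Q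
  · intro h
    exact ⟨_, D.mem_sub.mpr h, rfl⟩

theorem exists_Eb {e : X ⧸ D.K} (he : e ∈ D.Eb) : ∃ w, W.IsQ w ∧ D.π (D.ι w) = e := by
  obtain ⟨_, ⟨q, hq, rfl⟩, rfl⟩ := he
  exact ⟨q, hq, rfl⟩

theorem Eb_sq : ∀ e ∈ D.Eb, e * e = 1 := by
  intro e he
  obtain ⟨w, hw, rfl⟩ := D.exists_Eb he
  rw [← map_mul, ← map_mul, D.π_ι_one]
  exact W.Q_sq w hw

theorem K_le_Qs : D.K ≤ D.sub W.Qs :=
  Subgroup.zpowers_le.mpr (D.mem_sub.mpr W.z_Q)

theorem card_Eb : Nat.card ↥D.Eb = 16 := by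
  have h := (Subgroup.card_mul_index (D.K.subgroupOf (D.sub W.Qs)))
  rw [Nat.card_congr (Subgroup.subgroupOfEquivOfLe D.K_le_Qs).toEquiv] at h
  have e : D.K.subgroupOf (D.sub W.Qs) = (D.π.comp (D.sub W.Qs).subtype).ker := by
    rw [← MonoidHom.comap_ker, D.π_ker]; rfl
  rw [e, Subgroup.index_ker, MonoidHom.range_comp, Subgroup.range_subtype] at h
  have hK : Nat.card ↥D.K = 2 := by
    rw [K, Nat.card_zpowers]
    exact orderOf_eq_prime (by rw [pow_two, D.z_mul_z]) (D.ne_one W.z_ne)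
  rw [hK, D.card_Qs] at h
  show Nat.card ↥((D.sub W.Qs).map D.π) = 16
  omega

theorem Eb_closed : IsStronglyClosed D.Eb (D.Tb : Subgroup (X ⧸ D.K)) := by
  refine ⟨Subgroup.map_mono (D.sub_le _), ?_⟩
  rintro _ ⟨x, hx, rfl⟩ g hg
  obtain ⟨g, rfl⟩ := D.π_surj g
  obtain ⟨w, hw⟩ := D.exists_Tb hg
  have hT : g * x * g⁻¹ ∈ (D.T : Subgroup X) := by
    rw [← map_inv, ← map_mul, ← map_mul] at hw
    rcases D.π_eq.mp hw.symm with e | e
    · rw [e]; exact D.mem_T w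
    · rw [e]; exact mul_mem (D.mem_T w) (D.mem_T _)
  rw [← map_inv, ← map_mul, ← map_mul]
  exact ⟨_, D.Q_closed.2 x hx g hT, rfl⟩

theorem Eb_cent : ∀ t ∈ (D.Tb : Subgroup (X ⧸ D.K)), (∀ e ∈ D.Eb, t * e = e * t) → t ∈ D.Eb := by
  intro t ht h
  obtain ⟨w, rfl⟩ := D.exists_Tb ht
  refine D.mem_Eb.mpr (W.Q_cent_mod w fun y hy => ?_)
  have h1 := h _ (D.mem_Eb.mpr hy)
  rw [← D.π_ι_eq, ← D.π_conj, h1, mul_inv_cancel_right]

/-- Lifting the normaliser. -/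
theorem norm_lift {g : X} (hg : D.π g ∈ Subgroup.normalizer (D.Eb : Set (X ⧸ D.K))) :
    g ∈ Subgroup.normalizer (D.sub W.Qs : Set X) := by
  refine mem_norm_of fun x hx => ?_
  obtain ⟨y, hy, e⟩ : D.π g * D.π x * (D.π g)⁻¹ ∈ D.Eb := norm_conj hg ⟨x, hx, rfl⟩
  rw [← map_inv, ← map_mul, ← map_mul] at e
  rcases D.π_eq.mp e.symm with h | h
  · exact h ▸ hy
  · exact h ▸ mul_mem hy (D.mem_sub.mpr W.z_Q)

/-! The five points. -/

/-- The images of the five points. -/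
def P (i : Fin 5) : X ⧸ D.K := D.π (D.ι (W.pt i))

theorem P_mem (i : Fin 5) : D.P i ∈ D.Eb := D.mem_Eb.mpr (W.pt_mem i).1

theorem P_inj : Function.Injective D.P := fun i j h => W.pt_inj i j (D.π_ι_eq.mp h)

theorem P_ne_one (i : Fin 5) : D.P i ≠ 1 := fun h => by
  rcases D.π_ι_one.mp h with e | e
  · exact (W.pt_mem i).2.2.1 e
  · exact (W.pt_mem i).2.2.2 e

theorem P_sq (i : Fin 5) : D.P i * D.P i = 1 := D.Eb_sq _ (D.P_mem i)

/-- Conjugation permutes the five points. -/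
theorem P_conj {n : X ⧸ D.K} (hn : n ∈ Subgroup.normalizer (D.Eb : Set (X ⧸ D.K))) (i : Fin 5) :
    ∃ j, n * D.P i * n⁻¹ = D.P j := by
  obtain ⟨g, rfl⟩ := D.π_surj n
  obtain ⟨y, hy, hye⟩ := norm_conj (D.norm_lift hn) (D.mem_sub.mpr (W.pt_mem i).1)
  have hy2 : y * y = 1 := D.inj (by
    rw [map_mul, hye, conj_mul, ← map_mul, (W.pt_mem i).2.1, map_one, mul_one, mul_inv_cancel])
  have he : D.π g * D.P i * (D.π g)⁻¹ = D.π (D.ι y) := by
    rw [hye, map_mul, map_mul, map_inv]; rfl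
  rw [he]
  rcases W.pt_all y hy hy2 with e | e | ⟨j, e⟩
  · rw [e, map_one, map_one, conj_eq_one_iff] at he
    exact absurd he (D.P_ne_one i)
  · rw [e, D.π_z, conj_eq_one_iff] at he
    exact absurd he (D.P_ne_one i)
  · exact ⟨j, D.π_ι_eq.mpr e⟩

theorem Eb_cases {e : X ⧸ D.K} (he : e ∈ D.Eb) :
    e = 1 ∨ (∃ i, e = D.P i) ∨ ∃ i j, i ≠ j ∧ e = D.P i * D.P j := by
  obtain ⟨w, hw, rfl⟩ := D.exists_Eb he
  rcases W.Q_cases w hw with h | h | ⟨i, h⟩ | ⟨i, j, hij, h⟩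
  · left; rw [h, map_one, map_one]
  · left; rw [h, D.π_z]
  · exact Or.inr (Or.inl ⟨i, D.π_ι_eq.mpr h⟩)
  · refine Or.inr (Or.inr ⟨i, j, hij, ?_⟩)
    rw [P, P, ← map_mul, ← map_mul]
    exact D.π_ι_eq.mpr h

theorem P_ne_edge {i j k : Fin 5} (hij : i ≠ j) : D.P i * D.P j ≠ D.P k := by
  rw [P, P, P, ← map_mul, ← map_mul]
  intro h
  obtain ⟨-, -, h1, h2, -⟩ := W.edge_not_pt i j k hij
  rcases D.π_ι_eq.mp h with e | e
  · exact h1 e
  · exact h2 e

theorem edge_ne_one {i j : Fin 5} (hij : i ≠ j) : D.P i * D.P j ≠ 1 := fun h =>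
  hij (D.P_inj ((eq_inv_of_mul_eq_one_left h).trans (invol_inv (D.P_sq j))))

theorem edge_eq {i j k l : Fin 5} (hij : i ≠ j) (hkl : k ≠ l) (h : D.P i * D.P j = D.P k * D.P l) :
    (i = k ∧ j = l) ∨ (i = l ∧ j = k) := by
  rw [P, P, P, P, ← map_mul, ← map_mul, ← map_mul, ← map_mul] at h
  exact W.edge_inj i j k l hij hkl (D.π_ι_eq.mp h)

/-- The five points are fused in the normaliser. -/
theorem P_trans (i : Fin 5) :
    ∃ n ∈ Subgroup.normalizer (D.Eb : Set (X ⧸ D.K)), n * D.P 0 * n⁻¹ = D.P i := by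
  obtain ⟨g, hg⟩ := isConj_iff.mp (D.pt_conj_v i).symm
  have h : D.π g * D.P 0 * (D.π g)⁻¹ = D.P i := by
    rw [P, P, ← map_inv, ← map_mul, ← map_mul, ← hg]
    rfl
  rw [← h]
  exact conj_norm D.Eb_closed (fun a ha b hb => ea_comm_of_sq D.Eb_sq ha hb) (D.P_mem 0) (h ▸ D.P_mem i)

/-! The involutions outside `Eb`. -/

theorem out_syl {u : W} (hu : W.IsOut u) (hA : W.IsA1 u) {P : Subgroup X} (hAP : D.sub W.A1s ≤ P)
    (hPC : P ≤ Subgroup.centralizer ({D.ι u} : Set X)) (hP : IsPGroup 2 P) : P = D.sub W.A1s := by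
  obtain ⟨g, hg⟩ := into_top D.T hP
  obtain ⟨w, hw⟩ := D.exists_pre (hg _ (hAP (D.mem_sub.mpr hA)))
  have hconj : IsConj (D.ι u) (D.ι w) := isConj_iff.mpr ⟨g, hw.symm⟩
  have hw2 : w * w = 1 := D.inj (by
    rw [map_mul, hw, conj_mul, ← map_mul, W.A1_sq u hA, map_one, mul_one, mul_inv_cancel])
  have hwo : W.IsOut w := by
    rcases W.invol_cases w hw2 with e | e | e | e | e
    · have := D.conj_zero (Or.inl e) hconj.symm
      exact absurd (this.trans e) (fun e' => hu.2 (e' ▸ W.W0_one))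
    · have := D.conj_zero (Or.inr e) hconj.symm
      exact absurd (this.trans e) (fun e' => hu.2 (e' ▸ ⟨rfl, rfl, rfl⟩))
    · exact absurd (hconj.trans (D.V_conj e)) (D.not_out_v hu)
    · exact absurd (hconj.trans (D.sig_conj_v e)) (D.not_out_v hu)
    · exact e
  have hle : P.map (MulAut.conj g).toMonoidHom ≤
      (D.T : Subgroup X) ⊓ Subgroup.centralizer ({D.ι w} : Set X) := by
    rintro _ ⟨p, hp, rfl⟩
    refine Subgroup.mem_inf.mpr ⟨hg p hp, ?_⟩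
    rw [hw]
    exact (cent_conj p).mp (hPC hp)
  have h1 := Subgroup.card_le_of_le hle
  rw [Subgroup.card_map_of_injective (MulAut.conj g).injective, D.card_cent, W.card_cent_sig w (Or.inr hwo)] at h1
  exact (Subgroup.eq_of_le_of_card_ge hAP (by rw [D.card_A1s]; exact h1)).symm

theorem out_auto_odd {u : W} (hu : W.IsOut u) (hA : W.IsA1 u) {n : X} (ho : Odd (orderOf n))
    (hnu : n * D.ι u = D.ι u * n) (hnA : ∀ a ∈ D.sub W.A1s, n * a * n⁻¹ ∈ D.sub W.A1s) :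
    ∀ a ∈ D.sub W.A1s, n * a = a * n := by
  -- the two points in `A1` are preserved
  have hV : ∀ a, W.IsV a → ∃ b, W.IsV b ∧ n * D.ι a * n⁻¹ = D.ι b := by
    intro a ha
    obtain ⟨b, hb, hbe⟩ := hnA (D.ι a) (D.mem_sub.mpr (by rcases ha with rfl | rfl <;> exact ⟨rfl, rfl⟩))
    refine ⟨b, ?_, hbe.symm⟩
    rcases D.conj_v_cases ((isConj_iff.mpr ⟨n, hbe.symm⟩).symm.trans (D.V_conj ha)) with e | e
    · exact e
    · exact absurd hb.1 (W.sig_not_T b e)
  have hv : n * D.ι W.v = D.ι W.v * n := by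
    refine odd_comm_of_sq ho ?_
    obtain ⟨b, hb, hbe⟩ := hV W.v (Or.inl rfl)
    rw [← mul_inv_eq_iff_eq_mul,
      show n * n * D.ι W.v * (n * n)⁻¹ = n * (n * D.ι W.v * n⁻¹) * n⁻¹ by group, hbe]
    rcases hb with rfl | rfl
    · rw [hbe]
    · rw [map_mul, ← conj_mul, D.conj_z, hbe, map_mul, mul_assoc, D.z_mul_z, mul_one]
  have hC : ∀ a, W.IsA1 a → (a.a = 0 ∨ a.a = u.a) → n * D.ι a = D.ι a * n := by
    intro a ha h0
    have hzz := D.zc n
    have hc : ∀ {s t : X}, n * s = s * n → n * t = t * n → n * (s * t) = s * t * n := fun hs ht =>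
      (show Commute n _ from hs).mul_right (show Commute n _ from ht)
    rcases W.A1_hyper u a hA hu.2 ha h0 with e | e | e | e | e | e | e | e <;> rw [e] <;>
      (try simp only [map_one, map_mul, mul_one, one_mul])
    · exact hzz
    · exact hv
    · exact hc hv hzz
    · exact hnu
    · exact hc hzz hnu
    · exact hc hv hnu
    · exact hc (hc hv hzz) hnu
  rintro _ ⟨a, ha, rfl⟩
  by_cases h0 : a.a = 0 ∨ a.a = u.a
  · exact hC a ha h0
  push Not at h0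
  refine odd_comm_of_sq ho ?_
  obtain ⟨b, hb, hbe⟩ := hnA (D.ι a) (D.mem_sub.mpr ha)
  have hb0 : ¬ (b.a = 0 ∨ b.a = u.a) := fun h => by
    have h1 := hC b hb h
    have h2 : D.ι a = D.ι b := by
      calc D.ι a = n⁻¹ * D.ι b * n := by rw [hbe]; group
        _ = n⁻¹ * (D.ι b * n) := mul_assoc _ _ _
        _ = D.ι b := by rw [← h1, inv_mul_cancel_left]
    rw [D.eq_iff] at h2
    subst h2
    exact h.elim h0.1 h0.2
  push Not at hb0
  have hu0 : u.a ≠ 0 := fun e => hu.2 ((W.A1_zero u hA).mp e)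
  have hh : n * D.ι (a * b) = D.ι (a * b) * n := hC _ (W.A1_mul a b ha hb) (by
    rw [W.A1_mul_a a b ha]
    exact W.coord_hyper u.a a.a b.a hu0 h0.1 h0.2 hb0.1 hb0.2)
  have hba : D.ι b = D.ι a * D.ι (a * b) := by rw [← map_mul, ← mul_assoc, W.A1_sq a ha, one_mul]
  rw [← mul_inv_eq_iff_eq_mul,
    show n * n * D.ι a * (n * n)⁻¹ = n * (n * D.ι a * n⁻¹) * n⁻¹ by group, ← hbe, hba, ← conj_mul,
    show n * D.ι (a * b) * n⁻¹ = D.ι (a * b) by rw [hh, mul_inv_cancel_right], ← hbe, hba, mul_assoc,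
    ← map_mul, W.A1_sq _ (W.A1_mul a b ha hb), map_one, mul_one]

theorem out_nilp_A1 {u : W} (hu : W.IsOut u) (hA : W.IsA1 u) :
    Nilp (Subgroup.centralizer ({D.ι u} : Set X)) := by
  have hAC : D.sub W.A1s ≤ Subgroup.centralizer ({D.ι u} : Set X) := by
    rintro _ ⟨a, ha, rfl⟩
    exact mem_cent.mpr (D.comm_iff.mpr (W.A_comm a u ha hA))
  refine nilp_of_ctl (D.sub_pGroup W.A1s) (burnside2 hAC ?_ (fun P h1 h2 h3 => (D.out_syl hu hA h1 h2 h3).le) ?_)
  · rintro _ ⟨a, ha, rfl⟩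
    rw [← map_mul, W.A1_sq a ha, map_one]
  · intro n hn hnA a ha
    obtain ⟨x, y, hx, hy, rfl, ⟨k, hk⟩, hyo⟩ := two_odd_split n
    set N := Subgroup.centralizer ({D.ι u} : Set X) ⊓ Subgroup.normalizer (D.sub W.A1s : Set X)
    have hnN : x * y ∈ N := Subgroup.mem_inf.mpr ⟨hn, mem_norm_of hnA⟩
    have hxN : x ∈ N := Subgroup.zpowers_le.mpr hnN hx
    have hyN : y ∈ N := Subgroup.zpowers_le.mpr hnN hy
    have hR : IsPGroup 2 ↥(Subgroup.zpowers x ⊔ D.sub W.A1s) :=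
      IsPGroup.to_sup_of_normal_right' (two_elt_isPGroup hk) (D.sub_pGroup W.A1s)
        (Subgroup.zpowers_le.mpr (Subgroup.mem_inf.mp hxN).2)
    have hxA : x ∈ D.sub W.A1s := D.out_syl hu hA le_sup_right
      (sup_le (Subgroup.zpowers_le.mpr (Subgroup.mem_inf.mp hxN).1) hAC) hR ▸
        Subgroup.mem_sup_left (Subgroup.mem_zpowers x)
    have hcy := D.out_auto_odd hu hA hyo (mem_cent.mp (Subgroup.mem_inf.mp hyN).1)
      (fun a ha => norm_conj (Subgroup.mem_inf.mp hyN).2 ha) a ha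
    have hcx : x * a = a * x := by
      obtain ⟨p, hp, rfl⟩ := hxA
      obtain ⟨q, hq, rfl⟩ := ha
      exact D.comm_iff.mpr (W.A_comm p q hp hq)
    rw [mul_inv_eq_iff_eq_mul]
    exact (show Commute x a from hcx).mul_left (show Commute y a from hcy)

theorem out_nilp {u : W} (hu : W.IsOut u) : Nilp (Subgroup.centralizer ({D.ι u} : Set X)) := by
  rcases hu.1 with h | h
  · exact D.out_nilp_A1 hu h
  · have hA : W.IsA1 (W.σ * u * W.σ⁻¹) := (W.σ_A u).2 h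
    have hW0 : ¬ W.IsW0 (W.σ * u * W.σ⁻¹) := fun h0 => hu.2 (W.inter u (by
      have h3 := (W.σ_A _).2 (W.W0_le _ h0).2.1
      have hσ : W.σ⁻¹ = W.σ := inv_eq_of_mul_eq_one_right W.σ_sq
      rwa [hσ, show W.σ * (W.σ * u * W.σ) * W.σ = (W.σ * W.σ) * u * (W.σ * W.σ) by group, W.σ_sq, one_mul,
        mul_one] at h3) h)
    refine nilp_conj (g := (D.ι W.σ)⁻¹) (fun x => ?_) (D.out_nilp_A1 ⟨Or.inl hA, hW0⟩ hA)
    have e : D.ι u = (D.ι W.σ)⁻¹ * D.ι (W.σ * u * W.σ⁻¹) * (D.ι W.σ)⁻¹⁻¹ := by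
      rw [← D.conj_map]; group
    rw [e]
    exact cent_conj x

/-- The centraliser of an involution outside `Eb` has a normal 2-complement. -/
theorem bar_nilp : ∀ a ∈ (D.Tb : Subgroup (X ⧸ D.K)), a ∉ D.Eb → a * a = 1 →
    Nilp (Subgroup.centralizer ({a} : Set (X ⧸ D.K))) := by
  intro a ha haE ha2
  obtain ⟨w, rfl⟩ := D.exists_Tb ha
  have hwQ : ¬ W.IsQ w := fun h => haE (D.mem_Eb.mpr h)
  rw [← map_mul, ← map_mul, D.π_ι_one] at ha2
  have hout := W.coset_invol w hwQ ha2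
  set C₁ := (Subgroup.centralizer ({D.π (D.ι w)} : Set (X ⧸ D.K))).comap D.π
  have hle : Subgroup.centralizer ({D.ι w} : Set X) ≤ C₁ := fun x hx => mem_cent.mpr (by
    rw [← map_mul, ← map_mul, mem_cent.mp hx])
  have hcases : ∀ x ∈ C₁, x * D.ι w * x⁻¹ = D.ι w ∨ x * D.ι w * x⁻¹ = D.ι w * D.ι W.z := fun x hx => by
    refine D.π_eq.mp ?_
    rw [map_mul, map_mul, map_inv, mem_cent.mp hx, mul_inv_cancel_right]
  have hn : ∀ x ∈ C₁, ∀ y ∈ Subgroup.centralizer ({D.ι w} : Set X),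
      x * y * x⁻¹ ∈ Subgroup.centralizer ({D.ι w} : Set X) := by
    intro x hx y hy
    have h1 := (cent_conj (g := x) y).mp hy
    rcases hcases x hx with e | e <;> rw [e] at h1
    · exact h1
    · refine mem_cent.mpr ?_
      have h2 := mem_cent.mp h1
      rw [← mul_assoc, mul_assoc (D.ι w), ← D.zc (x * y * x⁻¹), ← mul_assoc] at h2
      exact mul_right_cancel h2
  have hsq : ∀ x ∈ C₁, x * x ∈ Subgroup.centralizer ({D.ι w} : Set X) := by
    intro x hx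
    refine mem_cent.mpr ?_
    rw [← mul_inv_eq_iff_eq_mul, show x * x * D.ι w * (x * x)⁻¹ = x * (x * D.ι w * x⁻¹) * x⁻¹ by group]
    rcases hcases x hx with e | e <;> rw [e]
    · rw [e]
    · rw [← conj_mul, e, D.conj_z, mul_assoc, D.z_mul_z, mul_one]
  have h := nilp_map D.π (nilp_of_sq hle hn hsq (D.out_nilp hout))
  rwa [Subgroup.map_comap_eq_self_of_surjective D.π_surj] at h

end Ctx

end CfsgJTwo
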