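import Cfsg.Agent.Lib.JTwoType.CentU
import Cfsg.Agent.S0215

/-!
The plane of an outer involution `u`: central in the centraliser of `u` modulo the core, so cores of centralisers in
the plane are balanced at `u`; balance on `A1` from balance between the centre and the outer involutions.

Blueprint: `blueprint/S1776.md`, part C.
-/

set_option autoImplicit false
set_option linter.unusedSectionVars false
set_option maxRecDepth 100000

namespace CfsgJTwo

open Cfsg CfsgA8C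

universe u

/-- Commuting modulo a subgroup is closed under products. -/
theorem comm_mod_mul {G : Type u} [Group G] {O : Subgroup G} {x h k : G} (hn : ∀ o ∈ O, h * o * h⁻¹ ∈ O)
    (h1 : x * h * x⁻¹ * h⁻¹ ∈ O) (h2 : x * k * x⁻¹ * k⁻¹ ∈ O) : x * (h * k) * x⁻¹ * (h * k)⁻¹ ∈ O := by
  rw [show x * (h * k) * x⁻¹ * (h * k)⁻¹ = x * h * x⁻¹ * h⁻¹ * (h * (x * k * x⁻¹ * k⁻¹) * h⁻¹) by group]
  exact mul_mem h1 (hn _ h2)

/-- An element of odd order of `O⟨a⟩`, `a` an involution normalising `O`, lies in `O`. -/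
theorem odd_mem_of_invol {G : Type u} [Group G] [Finite G] {O : Subgroup G} {a o : G} (ha : a * a = 1)
    (hn : ∀ y ∈ O, a * y * a⁻¹ ∈ O) (ho : o ∈ O) (hodd : Odd (orderOf (a * o))) : a * o ∈ O := by
  have h1 : a * o * (a * o) ∈ O := by
    rw [show a * o * (a * o) = a * o * a⁻¹ * (a * a) * o by group, ha, mul_one]
    exact mul_mem (hn o ho) ho
  exact (Subgroup.zpowers_le.mpr h1) (mem_zpowers_sq hodd)

variable {G : Type u} [Group G] [Finite G] [IsSimpleGroup G] (D : Emb G)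

namespace Emb

/-- The core of the centraliser of `A1`. -/
abbrev R0 : Subgroup G := core (Subgroup.centralizer (D.A : Set G))

theorem R0_comm {x a : G} (hx : x ∈ D.R0) (ha : a ∈ D.A) : a * x = x * a :=
  Subgroup.mem_centralizer_iff.mp (core_le _ hx) a ha

theorem R0_conj {g x : G} (hg : g ∈ Subgroup.normalizer (D.A : Set G)) (hx : x ∈ D.R0) : g * x * g⁻¹ ∈ D.R0 := by
  refine core_conj (fun y => ?_) hx
  simp only [Subgroup.mem_centralizer_iff]
  constructor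
  · intro h a ha
    have h1 := h (g⁻¹ * a * g⁻¹⁻¹) (norm_conj (inv_mem hg) ha)
    calc a * (g * y * g⁻¹) = g * (g⁻¹ * a * g⁻¹⁻¹ * y) * g⁻¹ := by group
      _ = g * (y * (g⁻¹ * a * g⁻¹⁻¹)) * g⁻¹ := by rw [h1]
      _ = g * y * g⁻¹ * a := by group
  · intro h a ha
    have h1 := h (g * a * g⁻¹) (norm_conj hg ha)
    calc a * y = g⁻¹ * (g * a * g⁻¹ * (g * y * g⁻¹)) * g := by group
      _ = g⁻¹ * (g * y * g⁻¹ * (g * a * g⁻¹)) * g := by rw [h1]
      _ = y * a := by group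

/-- The cores of centralisers of the four-group are balanced at the outer involutions of `A1`. -/
def Bal : Prop := ∀ u : W, W.IsA1 u → ¬ W.IsW0 u → ∀ w : W, W.IsW0 w → w ≠ 1 →
  Kc (D.ι w) ⊓ Subgroup.centralizer ({D.ι u} : Set G) ≤ Kc (D.ι u)

variable {D}

theorem A_norm_Kc {a : W} (ha : W.IsA1 a) {x o : G} (hx : x ∈ D.A) (ho : o ∈ Kc (D.ι a)) :
    x * o * x⁻¹ ∈ Kc (D.ι a) :=
  Kc_norm (D.A_comm hx (D.mem_sub.mpr ha)) ho

/-- The elements of `A1` commuting with `x` modulo the core of `C(u)`. -/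
def modCent {u : W} (hu : W.IsA1 u) (x : G) : Subgroup G where
  carrier := {h | h ∈ D.A ∧ x * h * x⁻¹ * h⁻¹ ∈ Kc (D.ι u)}
  one_mem' := ⟨one_mem _, by simp⟩
  mul_mem' := fun {h k} hh hk => ⟨mul_mem hh.1 hk.1, comm_mod_mul (fun o ho => A_norm_Kc hu hh.1 ho) hh.2 hk.2⟩
  inv_mem' := fun {h} hh => by
    have e : h⁻¹ = h := invol_inv (D.A_sq hh.1)
    rw [e]; exact hh

theorem mem_modCent {u : W} {hu : W.IsA1 u} {x h : G} :
    h ∈ D.modCent hu x ↔ h ∈ D.A ∧ x * h * x⁻¹ * h⁻¹ ∈ Kc (D.ι u) := Iff.rfl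

/-- What commutes modulo the core of `C(u)` commutes after a correction in the core. -/
theorem lift_A {u : W} (hu : W.IsA1 u) (x : G) :
    ∃ o ∈ Kc (D.ι u), ∀ h ∈ D.modCent hu x, o * x * h = h * (o * x) :=
  lift_cent (H := D.modCent hu x) ((D.sub_pGroup W.A1s).to_le fun _ hh => hh.1) (Kc_odd _) (fun _ hh o ho => A_norm_Kc hu hh.1 ho)
    fun _ hh => hh.2

theorem Cyc.fix_W0 (h : D.Two) {u : W} {n : G} (c : D.Cyc u n) {w : W} (hw : W.IsW0 w)
    (hn : n * D.ι w = D.ι w * n) : w = 1 := by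
  rw [← mul_inv_eq_iff_eq_mul] at hn
  rcases W.W0_list w hw with e | e | e | e <;> subst e
  · rfl
  · exact absurd (D.inj ((c.nz h).symm.trans hn)) (by decide)
  · exact absurd (D.inj (c.nv.symm.trans hn)) (by decide)
  · exact absurd (D.inj ((c.nvz h).symm.trans hn)) (by decide)

/-- `A1` is the product of the centre and the plane. -/
theorem Cyc.split (h : D.Two) {u : W} {n : G} (c : D.Cyc u n) {a : W} (ha : W.IsA1 a) :
    ∃ w, W.IsW0 w ∧ n * D.ι (a * w) = D.ι (a * w) * n := by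
  obtain ⟨b, hb, e⟩ := conj_A1 c.mem.1 ha
  have hw0 : W.IsW0 (b * a) := (W.A1_eq_mod b a hb ha).mp (same_coset h c.a1 c.out c.mem.1 c.cu a b ha hb e)
  have key : ∀ w w', n * D.ι w * n⁻¹ = D.ι w' → w' * w = b * a → b * w' = a * w →
      n * D.ι (a * w) = D.ι (a * w) * n := fun w w' hw _ e2 => by
    rw [← mul_inv_eq_iff_eq_mul, map_mul, ← conj_mul, e, hw, ← map_mul, e2, map_mul]
  have hb2 : ∀ s, b * a = s → a = b * s := fun s hs => by rw [← hs, ← mul_assoc, W.A1_sq b hb, one_mul]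
  rcases W.W0_list _ hw0 with e0 | e0 | e0 | e0
  · exact ⟨1, W.W0_one, key 1 1 (by simp) (by rw [e0, one_mul]) (by rw [hb2 _ e0]; simp)⟩
  · exact ⟨W.v * W.z, by decide, key _ W.v (c.nvz h) (by rw [e0]; decide)
      (by rw [hb2 _ e0, mul_assoc, show W.z * (W.v * W.z) = W.v by decide])⟩
  · exact ⟨W.z, by decide, key _ (W.v * W.z) (c.nz h) (by rw [e0]; decide) (by rw [hb2 _ e0, mul_assoc])⟩
  · exact ⟨W.v, by decide, key _ W.z c.nv (by rw [e0]; decide)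
      (by rw [hb2 _ e0, mul_assoc, show W.v * W.z * W.v = W.z by decide])⟩

/-- The points of the plane give the same data. -/
theorem Cyc.of_plane (h : D.Two) {u : W} {n : G} (c : D.Cyc u n) {p : W} (hp : W.IsA1 p) (hp1 : p ≠ 1)
    (hn : n * D.ι p = D.ι p * n) : D.Cyc p n :=
  ⟨hp, fun h0 => hp1 (c.fix_W0 h h0 hn), c.mem, hn, c.nv⟩

theorem Cyc.eq_of_coset (h : D.Two) {u : W} {n : G} (c : D.Cyc u n) {p q : W} (hp : W.IsA1 p) (hq : W.IsA1 q)
    (hnp : n * D.ι p = D.ι p * n) (hnq : n * D.ι q = D.ι q * n) (he : p.a = q.a) : p = q := by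
  have h1 : p * q = 1 := c.fix_W0 h ((W.A1_eq_mod p q hp hq).mp he) (by
    rw [map_mul]; exact (show Commute n _ from hnp).mul_right (show Commute n _ from hnq))
  rw [mul_eq_one_iff_eq_inv.mp h1, inv_eq_of_mul_eq_one_right (W.A1_sq q hq)]

/-- The plane is a four-group. -/
theorem Cyc.four (h : D.Two) {u : W} {n : G} (c : D.Cyc u n) {p q : W} (hp : W.IsA1 p) (hq : W.IsA1 q)
    (hnp : n * D.ι p = D.ι p * n) (hnq : n * D.ι q = D.ι q * n) (hp1 : p ≠ 1) (hpu : p ≠ u) :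
    q = 1 ∨ q = u ∨ q = p ∨ q = u * p := by
  have hnup : n * D.ι (u * p) = D.ι (u * p) * n := by
    rw [map_mul]; exact (show Commute n _ from c.cu).mul_right (show Commute n _ from hnp)
  have hup : W.IsA1 (u * p) := W.A1_mul _ _ c.a1 hp
  have hua : u.a ≠ 0 := fun e => c.out ((W.A1_zero u c.a1).mp e)
  have hpa : p.a ≠ 0 := fun e => hp1 (c.fix_W0 h ((W.A1_zero p hp).mp e) hnp)
  have hne : u.a ≠ p.a := fun e => hpu (c.eq_of_coset h c.a1 hp c.cu hnp e).symm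
  have hupa : (u * p).a = u.a + p.a := W.A1_sum u p c.a1 hp
  by_cases hq0 : q.a = 0
  · exact Or.inl (c.fix_W0 h ((W.A1_zero q hq).mp hq0) hnq)
  obtain ⟨h3, h4, h5⟩ := (show ∀ a b : F4, a ≠ 0 → b ≠ 0 → a ≠ b → a + b ≠ 0 ∧ a ≠ a + b ∧ b ≠ a + b by decide)
    _ _ hua hpa hne
  rcases W.three_cosets u.a p.a (u * p).a q.a hua hpa (hupa ▸ h3) hq0 hne (hupa ▸ h4) (hupa ▸ h5) with e | e | e
  · exact Or.inr (Or.inl (c.eq_of_coset h hq c.a1 hnq c.cu e))
  · exact Or.inr (Or.inr (Or.inl (c.eq_of_coset h hq hp hnq hnp e)))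
  · exact Or.inr (Or.inr (Or.inr (c.eq_of_coset h hq hup hnq hnup e)))

/-- The plane is central modulo the core. -/
theorem Cyc.central (h : D.Two) {u : W} {n : G} (c : D.Cyc u n) {p : W} (hp : W.IsA1 p)
    (hn : n * D.ι p = D.ι p * n) {g : G} (hg : g * D.ι u = D.ι u * g) :
    g * D.ι p * g⁻¹ * (D.ι p)⁻¹ ∈ Kc (D.ι u) := by
  haveI := Fact.mk Nat.prime_two
  rcases eq_or_ne p 1 with rfl | hp1
  · simp
  set C := Subgroup.centralizer ({D.ι u} : Set G)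
  have hAC : D.A ≤ C := A_le_cent c.a1
  set S : Sylow 2 C := ((D.sub_pGroup W.A1s).of_equiv (Subgroup.subgroupOfEquivOfLe hAC).symm).toSylow
    (A_index h c.a1 c.out)
  have hmem : ∀ x : C, x ∈ S ↔ (x : G) ∈ D.A := fun x => Iff.rfl
  set q : C := ⟨D.ι p, hAC (D.mem_sub.mpr hp)⟩
  obtain ⟨N, hN, hNo, hNc⟩ := Cfsg.Agent.S0215.result S q
    (orderOf_eq_prime (Subtype.ext (by
      show (D.ι p) ^ 2 = 1
      rw [pow_two, ← map_mul, W.A1_sq p hp, map_one]))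
      fun e => D.ne_one hp1 (congrArg Subtype.val e))
    ((hmem q).mpr (D.mem_sub.mpr hp)) (by
      intro y hy
      obtain ⟨m, hm, hmu, hme⟩ := fusion h c.a1 c.out (mem_cent.mp y.2) (D.mem_sub.mpr hp) ((hmem _).mp hy)
      refine Subtype.ext ?_
      show (y : G) * D.ι p * (y : G)⁻¹ = D.ι p
      rw [← hme, c.plane h hm hmu (D.mem_sub.mpr hp) hn, mul_inv_cancel_right])
  have hle : N ≤ oddCore C := CfsgLib.le_oddCore hNo
  have h1 := inv_mem (hle (hNc ⟨g, mem_cent.mpr hg⟩))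
  refine ⟨_, h1, ?_⟩
  simp [q]
  group

/-- The centraliser of the plane covers the centraliser of `u`. -/
theorem Cyc.cover (h : D.Two) {u : W} {n : G} (c : D.Cyc u n) {x : G} (hx : x * D.ι u = D.ι u * x) :
    ∃ o ∈ Kc (D.ι u), o * x * D.ι u = D.ι u * (o * x) ∧
      ∀ p, W.IsA1 p → n * D.ι p = D.ι p * n → o * x * D.ι p = D.ι p * (o * x) := by
  obtain ⟨o, ho, hc⟩ := D.lift_A c.a1 x
  have hp : ∀ p, W.IsA1 p → n * D.ι p = D.ι p * n → o * x * D.ι p = D.ι p * (o * x) := fun p hp hn =>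
    hc _ ⟨D.mem_sub.mpr hp, c.central h hp hn hx⟩
  exact ⟨o, ho, hp u c.a1 c.cu, hp⟩

/-- An odd subgroup centralising the plane and normalised by its centraliser lies in the core. -/
theorem Cyc.le_Ku (h : D.Two) {u : W} {n : G} (c : D.Cyc u n) {R : Subgroup G} (ho : Odd (Nat.card R))
    (hR : ∀ r ∈ R, ∀ p, W.IsA1 p → n * D.ι p = D.ι p * n → r * D.ι p = D.ι p * r)
    (hn : ∀ g : G, (∀ p, W.IsA1 p → n * D.ι p = D.ι p * n → g * D.ι p = D.ι p * g) → ∀ r ∈ R, g * r * g⁻¹ ∈ R) :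
    R ≤ Kc (D.ι u) := by
  have hu : ∀ r ∈ R, r * D.ι u = D.ι u * r := fun r hr => hR r hr u c.a1 c.cu
  refine le_sup_right.trans (le_Kc (R := Kc (D.ι u) ⊔ R)
    (sup_le (Kc_le _) fun r hr => mem_cent.mpr (hu r hr))
    (odd_sup (Kc_odd _) ho fun r hr k hk => Kc_norm (hu r hr) hk) fun g hg y hy => ?_)
  obtain ⟨r, hr, k, hk, rfl⟩ := mem_normal_sup (fun r hr k hk => Kc_norm (hu r hr) hk)
    (sup_comm (Kc (D.ι u)) R ▸ hy)
  obtain ⟨o, ho', -, hgP⟩ := c.cover h hg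
  have ho1 : o ∈ Kc (D.ι u) ⊔ R := Subgroup.mem_sup_left ho'
  rw [show g * (r * k) * g⁻¹ = o⁻¹ * (o * g * r * (o * g)⁻¹) * o * (g * k * g⁻¹) by group]
  exact mul_mem (mul_mem (mul_mem (inv_mem ho1) (Subgroup.mem_sup_right (hn _ hgP r hr))) ho1)
    (Subgroup.mem_sup_left (Kc_norm hg hk))

/-- Balance inside the plane. -/
theorem Cyc.bal_plane (h : D.Two) {u : W} {n : G} (c : D.Cyc u n) {p : W} (hp : W.IsA1 p) (hp1 : p ≠ 1)
    (hpn : n * D.ι p = D.ι p * n) :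
    Kc (D.ι p) ⊓ Subgroup.centralizer ({D.ι u} : Set G) ≤ Kc (D.ι u) := by
  rcases eq_or_ne p u with rfl | hpu
  · exact inf_le_left
  refine c.le_Ku h (odd_mono inf_le_left (Kc_odd _)) ?_ ?_
  · intro r hr q hq hqn
    have h1 : r * D.ι p = D.ι p * r := Kc_comm hr.1
    have h2 : r * D.ι u = D.ι u * r := mem_cent.mp hr.2
    rcases c.four h hp hq hpn hqn hp1 hpu with e | e | e | e <;> subst e
    · simp
    · exact h2
    · exact h1
    · rw [map_mul]; exact (show Commute r _ from h2).mul_right (show Commute r _ from h1)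
  · intro g hg r hr
    have hgu := hg u c.a1 c.cu
    exact Subgroup.mem_inf.mpr ⟨Kc_norm (hg p hp hpn) hr.1,
      mul_mem (mul_mem (mem_cent.mpr hgu) hr.2) (inv_mem (mem_cent.mpr hgu))⟩

theorem ctl_R0 (h : D.Two) {u : W} (hu : W.IsA1 u) (hu0 : ¬ W.IsW0 u) :
    Ctl (Subgroup.centralizer (D.A : Set G)) D.A := by
  refine burnside2 ?_ (fun a ha => D.A_sq ha) ?_ ?_
  · exact fun a ha => Subgroup.mem_centralizer_iff.mpr fun b hb => D.A_comm hb ha
  · intro P hAP hP hPg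
    exact A_max h hu hu0 hAP
      (hP.trans fun x hx => mem_cent.mpr (Subgroup.mem_centralizer_iff.mp hx _ (D.mem_sub.mpr hu)).symm) hPg
  · exact fun n hn _ a ha => mul_inv_eq_iff_eq_mul.mpr (Subgroup.mem_centralizer_iff.mp hn a ha).symm

/-- An element of odd order of `C(u)` commuting with a complement of the plane. -/
theorem Cyc.odd_mem (h : D.Two) {u : W} {n : G} (c : D.Cyc u n) {x : G} (hx : x * D.ι u = D.ι u * x)
    (ho : Odd (orderOf x)) (hA : ∀ a, W.IsA1 a → ∃ p, W.IsA1 p ∧ n * D.ι p = D.ι p * n ∧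
      x * D.ι (a * p) = D.ι (a * p) * x) : x ∈ Kc (D.ι u) ⊔ D.R0 := by
  obtain ⟨o, ho', hc⟩ := D.lift_A c.a1 x
  have hcA : o * x ∈ Subgroup.centralizer (D.A : Set G) := by
    refine Subgroup.mem_centralizer_iff.mpr ?_
    rintro _ ⟨a, ha, rfl⟩
    obtain ⟨p, hp, hpn, hap⟩ := hA a ha
    refine (hc _ ?_).symm
    have e : D.ι a = D.ι (a * p) * D.ι p := by
      rw [← map_mul, mul_assoc, W.A1_sq p hp, mul_one]
    rw [e]
    refine mul_mem (mem_modCent.mpr ⟨D.mem_sub.mpr (W.A1_mul _ _ ha hp), ?_⟩)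
      ⟨D.mem_sub.mpr hp, c.central h hp hpn hx⟩
    rw [hap, mul_inv_cancel_right, mul_inv_cancel]
    exact one_mem _
  obtain ⟨a, ha, r, hr, e⟩ := ctl_R0 h c.a1 c.out _ hcA
  have hra : ∀ y ∈ Kc (D.ι u) ⊔ D.R0, a * y * a⁻¹ ∈ Kc (D.ι u) ⊔ D.R0 := by
    intro y hy
    have hle : (Kc (D.ι u) ⊔ D.R0).map (MulAut.conj a).toMonoidHom ≤ Kc (D.ι u) ⊔ D.R0 := by
      rw [Subgroup.map_sup]
      refine sup_le_sup ?_ ?_
      · rintro _ ⟨k, hk, rfl⟩; exact A_norm_Kc c.a1 ha hk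
      · rintro _ ⟨k, hk, rfl⟩; exact D.R0_conj (Subgroup.le_normalizer ha) hk
    exact hle ⟨y, hy, rfl⟩
  have hx' : x = a * (a⁻¹ * o⁻¹ * a⁻¹⁻¹ * r) := by
    calc x = o⁻¹ * (o * x) := by group
      _ = o⁻¹ * (a * r) := by rw [e]
      _ = _ := by group
  rw [hx'] at ho ⊢
  exact odd_mem_of_invol (D.A_sq ha) hra
    (mul_mem (Subgroup.mem_sup_left (A_norm_Kc c.a1 (inv_mem ha) (inv_mem ho'))) (Subgroup.mem_sup_right hr)) ho

/-- Balance on the whole of `A1`. -/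
theorem bal_all (h : D.Two) {d : G} (hd : D.IsD d) (hb : D.Bal) {a b : W} (ha : W.IsA1 a) (ha1 : a ≠ 1)
    (hb' : W.IsA1 b) (hb1 : b ≠ 1) : Kc (D.ι a) ⊓ Subgroup.centralizer ({D.ι b} : Set G) ≤ Kc (D.ι b) := by
  by_cases hb0 : W.IsW0 b
  · refine D.le_Kw hb0 hb1 inf_le_right (odd_mono inf_le_left (Kc_odd _)) fun s hs r hr =>
      Subgroup.mem_inf.mpr ⟨A_norm_Kc ha (D.mem_sub.mpr hs) hr.1, ?_⟩
    exact mul_mem (mul_mem (A_le_cent hb' (D.mem_sub.mpr hs)) hr.2) (inv_mem (A_le_cent hb' (D.mem_sub.mpr hs)))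
  by_cases ha0 : W.IsW0 a
  · exact hb b hb' hb0 a ha0 ha1
  obtain ⟨n, c⟩ := exists_cyc hd hb' hb0
  obtain ⟨w, hw, hpn⟩ := c.split h ha
  set p := a * w with hp
  have hp' : W.IsA1 p := W.A1_mul _ _ ha (W.W0_le w hw).1
  rcases eq_or_ne w 1 with rfl | hw1
  · rw [mul_one] at hp
    exact c.bal_plane h ha ha1 (hp ▸ hpn)
  have hap : a = p * w := by rw [hp, mul_assoc, W.A1_sq w (W.W0_le w hw).1, mul_one]
  set C := Subgroup.centralizer ({D.ι b} : Set G)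
  set X : Subgroup G := Subgroup.centralizer ({D.ι b, D.ι p, D.ι w} : Set G)
  have hXc : ∀ {y : G}, y ∈ X → y * D.ι b = D.ι b * y ∧ y * D.ι a = D.ι a * y ∧ y * D.ι w = D.ι w * y := by
    intro y hy
    have h1 := Subgroup.mem_centralizer_iff.mp hy
    refine ⟨(h1 _ (by simp)).symm, ?_, (h1 _ (by simp)).symm⟩
    rw [hap, map_mul]
    exact (show Commute y _ from (h1 _ (by simp)).symm).mul_right (show Commute y _ from (h1 _ (by simp)).symm)
  set R := Kc (D.ι a) ⊓ C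
  have hRK : ∀ r ∈ R, ∀ k ∈ Kc (D.ι b), r * k * r⁻¹ ∈ Kc (D.ι b) := fun r hr k hk =>
    Kc_norm (mem_cent.mp hr.2) hk
  set O := Kc (D.ι b) ⊔ R
  have hX : O ⊓ X ≤ Kc (D.ι b) := by
    have h1 : O ⊓ X ≤ core X := by
      refine le_core inf_le_right (odd_mono inf_le_left (odd_sup (Kc_odd _)
        (odd_mono inf_le_left (Kc_odd _)) hRK)) fun y hy o ho => ?_
      refine Subgroup.mem_inf.mpr ⟨?_, mul_mem (mul_mem hy ho.2) (inv_mem hy)⟩
      obtain ⟨yb, ya, -⟩ := hXc hy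
      have ho1 : o ∈ R ⊔ Kc (D.ι b) := by rw [sup_comm]; exact ho.1
      obtain ⟨r, hr, k, hk, rfl⟩ := mem_normal_sup hRK ho1
      rw [show y * (r * k) * y⁻¹ = y * r * y⁻¹ * (y * k * y⁻¹) by group]
      exact mul_mem (Subgroup.mem_sup_right (Subgroup.mem_inf.mpr ⟨Kc_norm ya hr.1,
        mul_mem (mul_mem (mem_cent.mpr yb) hr.2) (inv_mem (mem_cent.mpr yb))⟩))
        (Subgroup.mem_sup_left (Kc_norm yb hk))
    have h2 : core X ≤ Kc (D.ι w) := by
      refine D.le_Kw hw hw1 ?_ (core_odd _) fun s hs r hr => core_conj_mem ?_ hr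
      · exact fun y hy => mem_cent.mpr (hXc (core_le X hy)).2.2
      · refine Subgroup.mem_centralizer_iff.mpr ?_
        have hsA := D.mem_sub.mpr (show s ∈ W.A1s from hs)
        rintro _ (rfl | rfl | rfl)
        · exact D.A_comm (D.mem_sub.mpr hb') hsA
        · exact D.A_comm (D.mem_sub.mpr hp') hsA
        · exact D.A_comm (D.mem_sub.mpr (W.W0_le w hw).1) hsA
    intro y hy
    exact hb b hb' hb0 w hw hw1 ⟨h2 (h1 hy), mem_cent.mpr (hXc hy.2).1⟩
  intro x hx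
  obtain ⟨o, ho, hc⟩ := D.lift_A hb' x
  have hm : ∀ q, W.IsA1 q → x * D.ι q * x⁻¹ * (D.ι q)⁻¹ ∈ Kc (D.ι b) → o * x * D.ι q = D.ι q * (o * x) :=
    fun q hq hq' => hc _ ⟨D.mem_sub.mpr hq, hq'⟩
  have hpm : x * D.ι p * x⁻¹ * (D.ι p)⁻¹ ∈ Kc (D.ι b) := c.central h hp' hpn (mem_cent.mp hx.2)
  have ham : x * D.ι a * x⁻¹ * (D.ι a)⁻¹ ∈ Kc (D.ι b) := by
    rw [Kc_comm hx.1, mul_inv_cancel_right, mul_inv_cancel]; exact one_mem _
  have hbm : x * D.ι b * x⁻¹ * (D.ι b)⁻¹ ∈ Kc (D.ι b) := by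
    rw [mem_cent.mp hx.2, mul_inv_cancel_right, mul_inv_cancel]; exact one_mem _
  have hwm : o * x * D.ι w = D.ι w * (o * x) := by
    have e : D.ι w = D.ι p * D.ι a := by
      rw [← map_mul, hp, W.A_comm a w ha (W.W0_le w hw).1, mul_assoc, W.A1_sq a ha, mul_one]
    rw [e]
    exact (show Commute (o * x) _ from hm p hp' hpm).mul_right (show Commute (o * x) _ from hm a ha ham)
  have hox : o * x ∈ O ⊓ X := by
    refine ⟨mul_mem (Subgroup.mem_sup_left ho) (Subgroup.mem_sup_right hx), Subgroup.mem_centralizer_iff.mpr ?_⟩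
    rintro _ (rfl | rfl | rfl)
    · exact (hm b hb' hbm).symm
    · exact (hm p hp' hpm).symm
    · exact hwm.symm
  have := mul_mem (inv_mem ho) (hX hox)
  rwa [inv_mul_cancel_left] at this

end Emb

end CfsgJTwo
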