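import Cfsg.Agent.Lib.JTwoType.CentV

/-!
The centraliser of the product of two points is the product of its odd core and the normaliser of the strongly closed
subgroup.

Blueprint: `blueprint/S1776.md`, part B, the second use of lemma A.
-/

set_option autoImplicit false
set_option linter.unusedSectionVars false
set_option maxRecDepth 100000

namespace CfsgJTwo

open Cfsg CfsgA8C Equiv

universe u

set_option synthInstance.maxSize 2000 in
theorem perm5_fix_three : ∀ p : Perm (Fin 5), Perm.sign p = 1 → ∀ a b c : Fin 5, a ≠ b → a ≠ c → b ≠ c →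
    p a = a → p b = b → p c = c → p = 1 := by decide +kernel

theorem fin5_third : ∀ i j : Fin 5, ∃ m, m ≠ i ∧ m ≠ j := by decide +kernel

/-- The subgroup seen inside a larger one. -/
theorem ctl_sub {G : Type u} [Group G] [Finite G] {X Y₀ E : Subgroup G} (hXY : X ≤ Y₀) (hEX : E ≤ X)
    (h : Ctl X (Subgroup.normalizer (E : Set G))) :
    Ctl (X.subgroupOf Y₀) (Subgroup.normalizer ((E.subgroupOf Y₀ : Subgroup Y₀) : Set Y₀)) := by
  intro g hg
  obtain ⟨n, hn, o, ho, e⟩ := h (g : G) hg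
  have hnX : n ∈ X := ctl_mem (N := Subgroup.normalizer (E : Set G)) hg ho e
  refine ⟨⟨n, hXY hnX⟩, mem_norm_of fun x hx => (show n * (x : G) * n⁻¹ ∈ E from norm_conj hn (e := (x : G)) hx), ⟨o, hXY (core_le X ho)⟩, ?_, Subtype.ext e⟩
  refine le_core (X := X.subgroupOf Y₀) (D := (core X).subgroupOf Y₀) (fun x hx => core_le X hx) ?_ ?_ ho
  · rw [Nat.card_congr (Subgroup.subgroupOfEquivOfLe ((core_le X).trans hXY)).toEquiv]
    exact core_odd X
  · exact fun x hx d hd => core_conj_mem (X := X) hx hd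

/-- Transfer: an involution outside a strongly closed subgroup of index two of a Sylow subgroup. -/
theorem transfer_closed {G : Type u} [Group G] [Finite G] (P : Sylow 2 G) {Q : Subgroup G}
    (hQi : Q.relIndex (P : Subgroup G) = 2) (hsc : IsStronglyClosed Q (P : Subgroup G)) {u : G} (hu : u * u = 1)
    (huP : u ∈ (P : Subgroup G)) (huQ : u ∉ Q) : ∃ χ : G →* ℤˣ, χ u = -1 ∧ ∀ x ∈ Q, χ x = 1 := by
  classical
  have hQ2 : (Q.subgroupOf (P : Subgroup G)).index = 2 := hQi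
  let ψ : (P : Subgroup G) →* ℤˣ :=
    { toFun := fun x => if x ∈ Q.subgroupOf (P : Subgroup G) then 1 else -1
      map_one' := by simp [one_mem]
      map_mul' := fun a b => by
        have h := Subgroup.mul_mem_iff_of_index_two hQ2 (a := a) (b := b)
        by_cases ha : a ∈ Q.subgroupOf (P : Subgroup G) <;> by_cases hb : b ∈ Q.subgroupOf (P : Subgroup G) <;>
          simp [ha, hb, h] }
  refine ⟨MonoidHom.transfer ψ, ?_, ?_⟩
  · haveI : Fintype (Quotient (MulAction.orbitRel (Subgroup.zpowers u) (G ⧸ (P : Subgroup G)))) := Fintype.ofFinite _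
    have hodd : Odd (P : Subgroup G).index := by
      rw [Nat.odd_iff, ← Nat.two_dvd_ne_zero]
      exact P.not_dvd_index
    rw [MonoidHom.transfer_eq_prod_quotient_orbitRel_zpowers_quot]
    conv_rhs => rw [← hodd.neg_one_pow (α := ℤˣ), Subgroup.index_eq_sum_minimalPeriod (P : Subgroup G) u,
      ← Finset.prod_pow_eq_pow_sum]
    refine Finset.prod_congr rfl fun o _ => ?_
    have hm : Function.minimalPeriod (u • ·) o.out = 1 ∨ Function.minimalPeriod (u • ·) o.out = 2 := by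
      refine (Nat.dvd_prime Nat.prime_two).mp (Function.IsPeriodicPt.minimalPeriod_dvd ?_)
      show (fun x : G ⧸ (P : Subgroup G) => u • x)^[2] o.out = o.out
      rw [smul_iterate, pow_two, hu]
      exact one_smul G o.out
    have hval : ∀ (m : ℕ) (g₀ : G) (hmem : g₀⁻¹ * u ^ m * g₀ ∈ (P : Subgroup G)), m = 1 ∨ m = 2 →
        ψ ⟨g₀⁻¹ * u ^ m * g₀, hmem⟩ = (-1) ^ m := by
      rintro m g₀ hmem (rfl | rfl)
      · refine (if_neg ?_).trans (pow_one _).symm
        rw [Subgroup.mem_subgroupOf]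
        intro hc
        refine huQ ?_
        have := hsc.2 (g₀⁻¹ * u ^ 1 * g₀) hc g₀ (by simpa [pow_one, mul_assoc] using huP)
        simpa [pow_one, mul_assoc] using this
      · refine (if_pos ?_).trans neg_one_sq.symm
        rw [Subgroup.mem_subgroupOf]
        simp [pow_two, hu, one_mem]
    exact hval _ _ _ hm
  · intro x hx
    haveI : Fintype (Quotient (MulAction.orbitRel (Subgroup.zpowers x) (G ⧸ (P : Subgroup G)))) := Fintype.ofFinite _
    rw [MonoidHom.transfer_eq_prod_quotient_orbitRel_zpowers_quot]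
    refine Finset.prod_eq_one fun o _ => ?_
    refine if_pos ?_
    rw [Subgroup.mem_subgroupOf]
    have key : ∀ (m : ℕ) (g₀ : G), g₀⁻¹ * x ^ m * g₀ ∈ (P : Subgroup G) → g₀⁻¹ * x ^ m * g₀ ∈ Q := fun m g₀ h => by
      have := hsc.2 (x ^ m) (pow_mem hx m) g₀⁻¹ (by simpa using h)
      simpa using this
    exact key _ _ (QuotientGroup.out_conj_pow_minimalPeriod_mem (P : Subgroup G) x o.out)

namespace Ctx

variable {X : Type u} [Group X] [Finite X] (D : Ctx X)

theorem ctl_P (i : Fin 5) : Ctl (Subgroup.centralizer ({D.P i} : Set (X ⧸ D.K))) D.N := by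
  obtain ⟨n, hn, e⟩ := D.P_trans i
  rw [← e]
  exact ctl_conj hn (fun x => cent_conj x) D.ctl_P0

theorem Eb_comm {a b : X ⧸ D.K} (ha : a ∈ D.Eb) (hb : b ∈ D.Eb) : a * b = b * a := ea_comm_of_sq D.Eb_sq ha hb

theorem Eb_le_cent {a : X ⧸ D.K} (ha : a ∈ D.Eb) : D.Eb ≤ Subgroup.centralizer ({a} : Set (X ⧸ D.K)) :=
  fun _ hb => mem_cent.mpr (D.Eb_comm hb ha)

/-- The stabiliser of an edge in the Sylow subgroup. -/
theorem card_edge_le {i j : Fin 5} (hij : i ≠ j) {R : Subgroup (X ⧸ D.K)}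
    (hR : R ≤ (D.Tb : Subgroup (X ⧸ D.K))) (hc : ∀ r ∈ R, r * (D.P i * D.P j) = D.P i * D.P j * r) :
    Nat.card R ≤ 32 := by
  classical
  set S := R.comap D.π
  have hker : D.π.ker ≤ S := fun x hx => by
    show D.π x ∈ R
    rw [D.π.mem_ker.mp hx]; exact one_mem _
  have h := card_map_mul D.π hker
  rw [Subgroup.map_comap_eq_self_of_surjective D.π_surj] at h
  have hST : ∀ x ∈ S, ∃ w, (w * (W.pt i * W.pt j) = W.pt i * W.pt j * w ∨
      w * (W.pt i * W.pt j) = W.pt i * W.pt j * w * W.z) ∧ D.ι w = x := by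
    intro x hx
    obtain ⟨w₀, hw₀⟩ := D.exists_Tb (hR hx)
    obtain ⟨w, rfl⟩ : ∃ w, D.ι w = x := by
      rcases D.π_eq.mp hw₀.symm with e | e
      · exact ⟨w₀, e.symm⟩
      · exact ⟨w₀ * W.z, by rw [map_mul, e]⟩
    refine ⟨w, ?_, rfl⟩
    refine D.π_ι_eq.mp ?_
    have := hc _ hx
    simp only [P, ← map_mul] at this
    exact this
  have hle : Nat.card S ≤ 64 := by
    refine le_trans ?_ (W.edge_stab i j hij)
    rw [← Fintype.card_subtype, ← Nat.card_eq_fintype_card]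
    refine Nat.card_le_card_of_injective (fun x : S => ⟨(hST x x.2).choose, (hST x x.2).choose_spec.1⟩) fun a b e => ?_
    refine Subtype.ext ?_
    have e' := congrArg (fun t : {w // _} => D.ι t.1) e
    simp only [(hST a a.2).choose_spec.2, (hST b b.2).choose_spec.2] at e'
    exact e'
  have hK : Nat.card D.π.ker = 2 := by
    rw [D.π_ker, K, Nat.card_zpowers]
    exact orderOf_eq_prime (by rw [pow_two, D.z_mul_z]) (D.ne_one W.z_ne)
  rw [hK] at h
  omega

theorem perm_edge {n : D.N} {i j : Fin 5} (hij : i ≠ j)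
    (hc : (n : X ⧸ D.K) * (D.P i * D.P j) = D.P i * D.P j * n) :
    (D.perm n i = i ∧ D.perm n j = j) ∨ (D.perm n i = j ∧ D.perm n j = i) := by
  refine D.edge_eq (fun e => hij ((D.perm n).injective e)) hij ?_
  rw [← D.perm_spec, ← D.perm_spec, conj_mul, hc, mul_inv_cancel_right]

/-- Two edges with a common end fix all five points. -/
theorem two_edges {n : D.N} {s i b : Fin 5} (hsi : s ≠ i) (hsb : s ≠ b) (hib : i ≠ b)
    (h₁ : (n : X ⧸ D.K) * (D.P s * D.P i) = D.P s * D.P i * n)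
    (h₂ : (n : X ⧸ D.K) * (D.P s * D.P b) = D.P s * D.P b * n) :
    ∀ e ∈ D.Eb, (n : X ⧸ D.K) * e = e * n := by
  have hsign : Perm.sign (D.perm n) = 1 := by
    rw [← Equiv.Perm.mem_alternatingGroup, ← D.perm_range]; exact ⟨n, rfl⟩
  have h1 := D.perm_edge hsi h₁
  have h2 := D.perm_edge hsb h₂
  have hs : D.perm n s = s := by
    rcases h1 with ⟨a, -⟩ | ⟨a, -⟩
    · exact a
    · rcases h2 with ⟨c, -⟩ | ⟨c, -⟩
      · exact c
      · exact absurd (a.symm.trans c) hib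
  have hi : D.perm n i = i := by
    rcases h1 with ⟨-, a⟩ | ⟨a, -⟩
    · exact a
    · exact absurd (hs.symm.trans a) hsi
  have hb : D.perm n b = b := by
    rcases h2 with ⟨-, a⟩ | ⟨a, -⟩
    · exact a
    · exact absurd (hs.symm.trans a) hsb
  exact D.cent_of_perm (perm5_fix_three _ hsign s i b hsi hsb hib hs hi hb)

theorem two_cent_Eb {P : Subgroup (X ⧸ D.K)} (hP : IsPGroup 2 P) (hEP : D.Eb ≤ P)
    (hc : ∀ p ∈ P, ∀ e ∈ D.Eb, p * e = e * p) : P ≤ D.Eb := by
  obtain ⟨g, hg⟩ := into_top D.Tb hP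
  have hgN : g ∈ Subgroup.normalizer (D.Eb : Set (X ⧸ D.K)) := sc_conj D.Eb_closed fun e he => hg e (hEP he)
  intro p hp
  have h1 : g * p * g⁻¹ ∈ D.Eb := D.Eb_cent _ (hg p hp) fun e he => by
    have he' : g⁻¹ * e * g ∈ D.Eb := by simpa using norm_conj (inv_mem hgN) he
    calc g * p * g⁻¹ * e = g * (p * (g⁻¹ * e * g)) * g⁻¹ := by group
      _ = g * (g⁻¹ * e * g * p) * g⁻¹ := by rw [hc p hp _ he']
      _ = e * (g * p * g⁻¹) := by group
  have h2 := norm_conj (inv_mem hgN) h1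
  simpa [mul_assoc] using h2

/-- The centraliser of an edge and of a second element of `Eb`. -/
theorem ctl_pair {i j : Fin 5} (hij : i ≠ j) {x : X ⧸ D.K} (hx : x ∈ D.Eb) (hx1 : x ≠ 1)
    (hxq : x ≠ D.P i * D.P j) :
    Ctl (Subgroup.centralizer ({D.P i * D.P j} : Set (X ⧸ D.K)) ⊓ Subgroup.centralizer ({x} : Set (X ⧸ D.K)))
      D.N := by
  set q := D.P i * D.P j with hq
  have hqE : q ∈ D.Eb := mul_mem (D.P_mem i) (D.P_mem j)
  have hpt : ∀ k, Ctl (Subgroup.centralizer ({q} : Set (X ⧸ D.K)) ⊓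
      Subgroup.centralizer ({D.P k} : Set (X ⧸ D.K))) D.N := fun k => by
    rw [inf_comm]
    exact (D.ctl_P k).inter D.Eb_sq (fun a ha b hb => D.Eb_comm ha hb) (D.Eb_le_cent (D.P_mem k)) hqE
  rcases D.Eb_cases hx with e | ⟨k, rfl⟩ | ⟨a, b, hab, rfl⟩
  · exact absurd e hx1
  · exact hpt k
  rcases D.Eb_cases (mul_mem hx hqE) with e | ⟨k, hk⟩ | ⟨c, d, hcd, hcde⟩
  · exact absurd ((eq_inv_of_mul_eq_one_left e).trans (invol_inv (D.Eb_sq q hqE))) hxq
  · have e : Subgroup.centralizer ({q} : Set (X ⧸ D.K)) ⊓ Subgroup.centralizer ({D.P a * D.P b} : Set (X ⧸ D.K)) =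
        Subgroup.centralizer ({q} : Set (X ⧸ D.K)) ⊓ Subgroup.centralizer ({D.P k} : Set (X ⧸ D.K)) := by
      have e1 : D.P a * D.P b = D.P k * q := by rw [← hk, mul_assoc, D.Eb_sq q hqE, mul_one]
      ext y
      simp only [Subgroup.mem_inf, mem_cent]
      constructor
      · rintro ⟨h1, h2⟩
        exact ⟨h1, hk ▸ (show Commute y _ from h2).mul_right (show Commute y q from h1)⟩
      · rintro ⟨h1, h2⟩
        exact ⟨h1, e1 ▸ (show Commute y _ from h2).mul_right (show Commute y q from h1)⟩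
    rw [e]; exact hpt k
  · -- the two edges have a common end
    obtain ⟨s, i', b', hsi, hsb, hib, hqe, hxe⟩ : ∃ s i' b', s ≠ i' ∧ s ≠ b' ∧ i' ≠ b' ∧
        q = D.P s * D.P i' ∧ D.P a * D.P b = D.P s * D.P b' := by
      have hswap : ∀ u v, D.P u * D.P v = D.P v * D.P u := fun u v => D.Eb_comm (D.P_mem u) (D.P_mem v)
      by_cases h1 : i = a
      · subst h1
        exact ⟨i, j, b, hij, hab, fun e => hxq (by rw [hq, e]), hq, rfl⟩
      by_cases h2 : i = b
      · subst h2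
        exact ⟨i, j, a, hij, hab.symm, fun e => hxq (by rw [hq, e, hswap]), hq, hswap _ _⟩
      by_cases h3 : j = a
      · subst h3
        exact ⟨j, i, b, hij.symm, hab, fun e => hxq (by rw [hq, e, hswap]), hq.trans (hswap _ _), rfl⟩
      by_cases h4 : j = b
      · subst h4
        exact ⟨j, i, a, hij.symm, hab.symm, fun e => hxq (by rw [hq, e]), hq.trans (hswap _ _), hswap _ _⟩
      exfalso
      obtain ⟨m, hm⟩ := W.edge_disjoint i j a b hij hab h1 h2 h3 h4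
      refine D.P_ne_edge (k := m) hcd ?_
      rw [← hcde, D.Eb_comm hx hqE, hq, P, P, P, P, P, ← map_mul, ← map_mul, ← map_mul, ← map_mul, ← map_mul,
        ← map_mul]
      exact D.π_ι_eq.mpr hm
    set Zx := Subgroup.centralizer ({q} : Set (X ⧸ D.K)) ⊓ Subgroup.centralizer ({D.P a * D.P b} : Set (X ⧸ D.K))
    have hEZ : D.Eb ≤ Zx := le_inf (D.Eb_le_cent hqE) (D.Eb_le_cent hx)
    have hfix : ∀ n ∈ Zx, n ∈ D.N → ∀ e ∈ D.Eb, n * e = e * n := fun n hn hnN => by
      have h1 := mem_cent.mp (Subgroup.mem_inf.mp hn).1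
      have h2 := mem_cent.mp (Subgroup.mem_inf.mp hn).2
      rw [hqe] at h1
      rw [hxe] at h2
      exact D.two_edges (n := ⟨n, hnN⟩) hsi hsb hib h1 h2
    have h := burnside2 hEZ D.Eb_sq
      (fun P h1 h2 h3 => D.two_cent_Eb h3 h1 fun p hp => hfix p (h2 hp) (two_group_le_norm D.Eb_closed h3 h1 hp))
      (fun n hn hnE a ha => by rw [hfix n hn (mem_norm_of hnE) a ha, mul_inv_cancel_right])
    intro g hg
    obtain ⟨n, hn, o, ho, rfl⟩ := h g hg
    exact ⟨n, D.Eb_le_N hn, o, ho, rfl⟩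

/-- A normal subgroup of index at most two of the centraliser of an edge, with Sylow subgroup `Eb`. -/
theorem edge_sub {i j : Fin 5} (hij : i ≠ j) :
    ∃ Z : Subgroup (X ⧸ D.K), Z ≤ Subgroup.centralizer ({D.P i * D.P j} : Set (X ⧸ D.K)) ∧ D.Eb ≤ Z ∧
      (∀ g ∈ Subgroup.centralizer ({D.P i * D.P j} : Set (X ⧸ D.K)), ∀ y ∈ Z, g * y * g⁻¹ ∈ Z) ∧
      (∀ g ∈ Subgroup.centralizer ({D.P i * D.P j} : Set (X ⧸ D.K)), g * g ∈ Z) ∧
      ∀ P : Subgroup (X ⧸ D.K), D.Eb ≤ P → P ≤ Z → IsPGroup 2 P → P = D.Eb := by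
  have := Fact.mk Nat.prime_two
  set q := D.P i * D.P j
  set Zq := Subgroup.centralizer ({q} : Set (X ⧸ D.K))
  have hqE : q ∈ D.Eb := mul_mem (D.P_mem i) (D.P_mem j)
  obtain ⟨R, hER, hRZ, hR, hidx⟩ := exists_sylow_in (X := Zq) (R := D.Eb) (D.Eb_le_cent hqE)
    (D.Tb.2.to_le D.Eb_closed.1)
  by_cases hRE : R = D.Eb
  · subst hRE
    exact ⟨Zq, le_rfl, hRZ, fun g hg y hy => mul_mem (mul_mem hg hy) (inv_mem hg), fun g hg => mul_mem hg hg,
      fun P h1 h2 h3 => syl_max hidx h1 h2 h3⟩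
  obtain ⟨g, hg⟩ := into_top D.Tb hR
  have hgN : g ∈ Subgroup.normalizer (D.Eb : Set (X ⧸ D.K)) := sc_conj D.Eb_closed fun e he => hg e (hER he)
  obtain ⟨r, hr, hrE⟩ := SetLike.exists_of_lt (lt_of_le_of_ne hER (Ne.symm hRE))
  -- the index is two
  have hR32 : Nat.card R ≤ 32 := by
    obtain ⟨i', hi'⟩ := D.P_conj hgN i
    obtain ⟨j', hj'⟩ := D.P_conj hgN j
    have hq' : g * q * g⁻¹ = D.P i' * D.P j' := by rw [← hi', ← hj', conj_mul]
    have h := D.card_edge_le (i := i') (j := j') (R := R.map (MulAut.conj g).toMonoidHom)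
      (fun e => hij (D.P_inj (mul_left_cancel (mul_right_cancel (hi'.trans (e ▸ hj'.symm))))))
      (by rintro _ ⟨p, hp, rfl⟩; exact hg p hp)
      (by
        rintro _ ⟨p, hp, rfl⟩
        rw [← hq']
        exact mem_cent.mp ((cent_conj p).mp (hRZ hp)))
    rwa [Subgroup.card_map_of_injective (MulAut.conj g).injective] at h
  have hrel : D.Eb.relIndex R = 2 := by
    have h1 : Nat.card D.Eb * D.Eb.relIndex R = Nat.card R := by
      have h := (D.Eb.subgroupOf R).card_mul_index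
      rwa [Nat.card_congr (Subgroup.subgroupOfEquivOfLe hER).toEquiv] at h
    rw [D.card_Eb] at h1
    have h2 : D.Eb.relIndex R ≠ 1 := fun h => hrE (Subgroup.relIndex_eq_one.mp h hr)
    have h3 : D.Eb.relIndex R ≠ 0 := fun h => by
      rw [h, mul_zero] at h1
      have := Nat.card_pos (α := R)
      omega
    omega
  -- an involution outside
  obtain ⟨u, huR, huE, hu2⟩ : ∃ u ∈ R, u ∉ D.Eb ∧ u * u = 1 := by
    obtain ⟨y, hy⟩ := D.exists_Tb (hg r hr)
    have hyQ : ¬ W.IsQ y := fun h => hrE (by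
      have h1 : g * r * g⁻¹ ∈ D.Eb := hy ▸ D.mem_Eb.mpr h
      simpa [mul_assoc] using norm_conj (inv_mem hgN) h1)
    obtain ⟨c, hc, -, hyc⟩ := W.coset_out y hyQ
    refine ⟨g⁻¹ * (D.π (D.ι (y * c))) * g, ?_, fun h => ?_, ?_⟩
    · rw [map_mul, map_mul, hy,
        show g⁻¹ * (g * r * g⁻¹ * D.π (D.ι c)) * g = r * (g⁻¹ * D.π (D.ι c) * g⁻¹⁻¹) by group]
      exact mul_mem hr (hER (norm_conj (inv_mem hgN) (D.mem_Eb.mpr hc)))
    · have h1 := norm_conj hgN h
      rw [show g * (g⁻¹ * D.π (D.ι (y * c)) * g) * g⁻¹ = D.π (D.ι (y * c)) by group, D.mem_Eb] at h1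
      exact hyQ (by simpa using W.Q_mul _ _ h1 (W.Q_inv c hc))
    · rw [show g⁻¹ * D.π (D.ι (y * c)) * g * (g⁻¹ * D.π (D.ι (y * c)) * g) =
        g⁻¹ * (D.π (D.ι (y * c)) * D.π (D.ι (y * c))) * g by group, ← map_mul, ← map_mul, hyc, map_one, map_one]
      group
  -- transfer inside the centraliser
  set P' : Sylow 2 Zq := (hR.of_equiv (Subgroup.subgroupOfEquivOfLe hRZ).symm).toSylow hidx
  have hP' : (P' : Subgroup Zq) = R.subgroupOf Zq := rfl
  have hgR : ∀ p ∈ R, g * p * g⁻¹ ∈ (D.Tb : Subgroup (X ⧸ D.K)) := hg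
  obtain ⟨χ, hχu, hχE⟩ := transfer_closed P' (Q := D.Eb.subgroupOf Zq) (u := ⟨u, hRZ huR⟩) (by
      rw [hP', Subgroup.relIndex_subgroupOf hRZ, hrel]) (by
      refine ⟨fun x hx => hER hx, fun x hx c hc => ?_⟩
      have hc' : (c : X ⧸ D.K) * x * (c : X ⧸ D.K)⁻¹ ∈ R := hc
      have h1 := D.Eb_closed.2 x hx (g * c) (by
        have := hgR _ hc'
        simpa [mul_assoc] using this)
      have h2 := norm_conj (inv_mem hgN) h1
      show (c : X ⧸ D.K) * x * (c : X ⧸ D.K)⁻¹ ∈ D.Eb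
      simpa [mul_assoc] using h2)
    (Subtype.ext hu2) huR huE
  refine ⟨χ.ker.map Zq.subtype, Subgroup.map_subtype_le _, ?_, ?_, ?_, ?_⟩
  · intro e he
    exact ⟨⟨e, hRZ (hER he)⟩, hχE _ he, rfl⟩
  · rintro c hc _ ⟨y, hy, rfl⟩
    exact ⟨⟨c, hc⟩ * y * ⟨c, hc⟩⁻¹, (inferInstance : χ.ker.Normal).conj_mem y hy _, rfl⟩
  · intro c hc
    refine ⟨⟨c, hc⟩ * ⟨c, hc⟩, ?_, rfl⟩
    show χ (⟨c, hc⟩ * ⟨c, hc⟩) = 1
    rw [map_mul]
    exact Int.units_mul_self _
  · intro P hEP hPZ hP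
    obtain ⟨m, hm, hmP⟩ := conj_into hRZ hR hidx (hPZ.trans (Subgroup.map_subtype_le _)) hP
    have hle : P.map (MulAut.conj m).toMonoidHom ≤ D.Eb := by
      rintro _ ⟨p, hp, rfl⟩
      simp only [MulEquiv.coe_toMonoidHom, MulAut.conj_apply]
      have hpR := hmP p hp
      obtain ⟨y, hy, rfl⟩ := hPZ hp
      have hk : χ (⟨m, hm⟩ * y * ⟨m, hm⟩⁻¹) = 1 := (inferInstance : χ.ker.Normal).conj_mem y hy _
      by_contra hnE
      have h2 : (D.Eb.subgroupOf R).index = 2 := hrel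
      have hmul : (⟨_, hpR⟩ * ⟨u, huR⟩ : R) ∈ D.Eb.subgroupOf R :=
        (Subgroup.mul_mem_iff_of_index_two h2).mpr (iff_of_false hnE huE)
      have hone : χ (⟨m, hm⟩ * y * ⟨m, hm⟩⁻¹ * ⟨u, hRZ huR⟩) = 1 := hχE _ hmul
      rw [map_mul, hk, hχu, one_mul] at hone
      exact absurd hone (by decide)
    have h1 := Subgroup.card_le_of_le hle
    rw [Subgroup.card_map_of_injective (MulAut.conj m).injective] at h1
    exact (Subgroup.eq_of_le_of_card_ge hEP h1).symm

/-- The centraliser of an edge is factorised over the normaliser of `Eb`. -/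
theorem ctl_edge {i j : Fin 5} (hij : i ≠ j) :
    Ctl (Subgroup.centralizer ({D.P i * D.P j} : Set (X ⧸ D.K))) D.N := by
  classical
  have := Fact.mk Nat.prime_two
  set q := D.P i * D.P j with hq
  set Zq := Subgroup.centralizer ({q} : Set (X ⧸ D.K))
  have hqE : q ∈ D.Eb := mul_mem (D.P_mem i) (D.P_mem j)
  have hq2 : q * q = 1 := D.Eb_sq q hqE
  obtain ⟨Z, hZq, hEZ, hnorm, hsq, hmax⟩ := D.edge_sub hij
  refine ctl_overgroup D.Eb_closed hEZ hZq hnorm (ctl_of_top hEZ ?_)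
  set E' := D.Eb.subgroupOf Z with hE'
  set q' : Z := ⟨q, hEZ hqE⟩ with hq'
  have hq'c : ∀ x : Z, q' * x = x * q' := fun x => Subtype.ext (mem_cent.mp (hZq x.2)).symm
  set L := Subgroup.zpowers q'
  haveI : L.Normal := ⟨fun n hn x => by
    obtain ⟨k, rfl⟩ := hn
    show x * q' ^ k * x⁻¹ ∈ L
    rw [← conj_zpow, ← hq'c, mul_inv_cancel_right]
    exact ⟨k, rfl⟩⟩
  set f := QuotientGroup.mk' L
  have hker : f.ker = L := QuotientGroup.ker_mk' L
  have hLcases : ∀ {x : Z}, x ∈ L → x = 1 ∨ x = q' := fun {x} hx => by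
    obtain ⟨k, rfl⟩ := hx
    have h2 : q' * q' = 1 := Subtype.ext hq2
    rcases Int.even_or_odd k with ⟨t, rfl⟩ | ⟨t, rfl⟩
    · left; show q' ^ (t + t) = 1; rw [← two_mul, zpow_mul, zpow_two, h2, one_zpow]
    · right; show q' ^ (2 * t + 1) = q'; rw [zpow_add, zpow_mul, zpow_two, h2, one_zpow, one_mul, zpow_one]
  have hE'p : IsPGroup 2 E' := (D.Tb.2.to_le D.Eb_closed.1).of_equiv (Subgroup.subgroupOfEquivOfLe hEZ).symm
  have hLE : f.ker ≤ E' := by
    rw [hker]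
    exact Subgroup.zpowers_le.mpr hqE
  have hidx : ¬ 2 ∣ D.Eb.relIndex Z := by
    obtain ⟨P, h1, h2, h3, h4⟩ := exists_sylow_in hEZ (D.Tb.2.to_le D.Eb_closed.1)
    rwa [hmax P h1 h2 h3] at h4
  refine ctl_pull f (QuotientGroup.mk'_surjective L) (hE'p.to_le hLE) ?_ hLE ?_
  · intro k hk x
    rw [hker] at hk
    rcases hLcases hk with rfl | rfl
    · simp
    · exact hq'c x
  set TY : Sylow 2 (↥Z ⧸ L) := (hE'p.toSylow hidx).mapSurjective (QuotientGroup.mk'_surjective L)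
  set E := E'.map f with hE
  have hsqE : ∀ e ∈ E, e * e = 1 := by
    rintro _ ⟨x, hx, rfl⟩
    rw [← map_mul, show x * x = 1 from Subtype.ext (D.Eb_sq _ hx), map_one]
  have hfe : ∀ {x y : Z}, f x = f y → (x : X ⧸ D.K) = y ∨ (x : X ⧸ D.K) = y * q := fun {x y} h => by
    have h1 : y⁻¹ * x ∈ L := by rw [← hker, f.mem_ker, map_mul, map_inv, h, inv_mul_cancel]
    rcases hLcases h1 with e | e
    · left; rw [inv_mul_eq_one] at e; rw [e]
    · right
      have : x = y * q' := by rw [← e, mul_inv_cancel_left]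
      rw [this]; rfl
  have hsc : IsStronglyClosed E (TY : Subgroup (↥Z ⧸ L)) := ⟨le_rfl, fun x _ g h => h⟩
  have he : ∀ e ∈ E, e ≠ 1 →
      Ctl (Subgroup.centralizer ({e} : Set (↥Z ⧸ L))) (Subgroup.normalizer (E : Set (↥Z ⧸ L))) := by
    rintro _ ⟨x, hx, rfl⟩ hne
    have hx1 : (x : X ⧸ D.K) ≠ 1 := fun h => hne (by rw [show x = 1 from Subtype.ext h, map_one])
    have hxq : (x : X ⧸ D.K) ≠ q := fun h => hne (by
      rw [show x = q' from Subtype.ext h, ← f.mem_ker, hker]; exact Subgroup.mem_zpowers _)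
    set C' := (Subgroup.centralizer ({f x} : Set (↥Z ⧸ L))).comap f with hC'
    set X₁ := C'.map Z.subtype
    set X₀ := Z ⊓ Subgroup.centralizer ({(x : X ⧸ D.K)} : Set (X ⧸ D.K))
    have hX0 : Ctl X₀ D.N := by
      refine ctl_restrict (inf_le_inf_right _ hZq) ?_ (D.ctl_pair hij hx hx1 hxq)
      intro y hy
      exact Subgroup.mem_inf.mpr ⟨hsq y (Subgroup.mem_inf.mp hy).1,
        mul_mem (Subgroup.mem_inf.mp hy).2 (Subgroup.mem_inf.mp hy).2⟩
    have hle : X₀ ≤ X₁ := fun y hy => by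
      obtain ⟨hy1, hy2⟩ := Subgroup.mem_inf.mp hy
      refine ⟨⟨y, hy1⟩, ?_, rfl⟩
      show f ⟨y, hy1⟩ ∈ Subgroup.centralizer ({f x} : Set (↥Z ⧸ L))
      rw [mem_cent, ← map_mul, ← map_mul]
      exact congrArg f (Subtype.ext (mem_cent.mp hy2))
    have hE0 : D.Eb ≤ X₀ := fun e he => Subgroup.mem_inf.mpr ⟨hEZ he, mem_cent.mpr (D.Eb_comm he hx)⟩
    have hn : ∀ c ∈ X₁, ∀ y ∈ X₀, c * y * c⁻¹ ∈ X₀ := by
      rintro _ ⟨c, hc, rfl⟩ y hy
      obtain ⟨hy1, hy2⟩ := Subgroup.mem_inf.mp hy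
      refine Subgroup.mem_inf.mpr ⟨mul_mem (mul_mem c.2 hy1) (inv_mem c.2), ?_⟩
      have h1 := (cent_conj (g := (c : X ⧸ D.K)) y).mp hy2
      have hcx : f (c * x * c⁻¹) = f x := by rw [map_mul, map_mul, map_inv, mem_cent.mp hc, mul_inv_cancel_right]
      rcases hfe hcx with e | e <;> push_cast at e <;> rw [e] at h1
      · exact h1
      · refine mem_cent.mpr ?_
        have h2 : Commute ((c : X ⧸ D.K) * y * (c : X ⧸ D.K)⁻¹) ((x : X ⧸ D.K) * q) := mem_cent.mp h1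
        have hq3 : Commute ((c : X ⧸ D.K) * y * (c : X ⧸ D.K)⁻¹) q :=
          mem_cent.mp (hZq (mul_mem (mul_mem c.2 hy1) (inv_mem c.2)))
        have h4 := h2.mul_right hq3.inv_right
        rwa [mul_inv_cancel_right] at h4
    have h1 := ctl_overgroup D.Eb_closed hE0 hle hn hX0
    have h2 := ctl_sub (Y₀ := Z) (Subgroup.map_subtype_le _) (hE0.trans hle) h1
    rw [show X₁.subgroupOf Z = C' from Subgroup.comap_map_eq_self_of_injective Z.subtype_injective C'] at h2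
    have h3 := ctl_map f h2 (N' := Subgroup.normalizer (E : Set (↥Z ⧸ L))) (by
      rintro _ ⟨n, hn, rfl⟩
      refine mem_norm_of ?_
      rintro _ ⟨y, hy, rfl⟩
      exact ⟨n * y * n⁻¹, norm_conj hn hy, by simp⟩)
    rwa [hC', Subgroup.map_comap_eq_self_of_surjective (QuotientGroup.mk'_surjective L)] at h3
  have hcard : 8 ≤ Nat.card E := by
    have h := card_map_mul f hLE
    have hL : Nat.card f.ker = 2 := by
      rw [hker, Nat.card_zpowers, ← Subgroup.orderOf_coe]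
      exact orderOf_eq_prime (by rw [pow_two]; exact hq2) (D.edge_ne_one hij)
    rw [Nat.card_congr (Subgroup.subgroupOfEquivOfLe hEZ).toEquiv, D.card_Eb, hL] at h
    rw [hE]
    omega
  obtain ⟨m, hmi, hmj⟩ := fin5_third i j
  set a : Z := ⟨D.P i, hEZ (D.P_mem i)⟩
  set c : Z := ⟨D.P i * D.P m, hEZ (mul_mem (D.P_mem i) (D.P_mem m))⟩
  have hna : ∀ w : Z, (w : X ⧸ D.K) ≠ 1 → (w : X ⧸ D.K) ≠ q → f w ≠ 1 := fun w h1 h2 h => by
    rw [← f.mem_ker, hker] at h
    rcases hLcases h with e | e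
    · exact h1 (congrArg Subtype.val e)
    · exact h2 (congrArg Subtype.val e)
  refine lemmaA hsc hsqE (fun t ht _ => ht) he hcard (fun y hy hyE _ => absurd hy hyE)
    ⟨f a, f c, hsqE _ ⟨a, D.P_mem i, rfl⟩, hna a (D.P_ne_one i) (fun e => D.P_ne_edge hij e.symm),
      hsqE _ ⟨c, mul_mem (D.P_mem i) (D.P_mem m), rfl⟩,
      hna c (D.edge_ne_one (Ne.symm hmi)) (fun e => by
        rcases D.edge_eq (Ne.symm hmi) hij e with ⟨-, h⟩ | ⟨h, -⟩
        · exact hmj h
        · exact hij h), fun hconj => ?_⟩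
  obtain ⟨g, hg⟩ := isConj_iff.mp hconj
  obtain ⟨g, rfl⟩ := QuotientGroup.mk'_surjective L g
  have h1 : f (g * a * g⁻¹) = f c := by rw [map_mul, map_mul, map_inv, hg]
  have hedge : ∀ k l, k ≠ l → (g : X ⧸ D.K) * D.P i * (g : X ⧸ D.K)⁻¹ ≠ D.P k * D.P l := fun k l hkl e => by
    obtain ⟨n, hn, hne⟩ := conj_norm D.Eb_closed (fun a ha b hb => D.Eb_comm ha hb) (D.P_mem i)
      (e ▸ mul_mem (D.P_mem k) (D.P_mem l))
    obtain ⟨t, ht⟩ := D.P_conj hn i
    exact D.P_ne_edge hkl ((hne.symm.trans ht) |> fun h => e.symm.trans h)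
  rcases hfe h1 with e | e <;> push_cast at e
  · exact hedge i m (Ne.symm hmi) e
  · refine hedge m j hmj (e.trans ?_)
    rw [show (c : X ⧸ D.K) = D.P m * D.P i from D.Eb_comm (D.P_mem i) (D.P_mem m), hq,
      show D.P m * D.P i * (D.P i * D.P j) = D.P m * (D.P i * D.P i) * D.P j by group, D.P_sq, mul_one]

end Ctx

end CfsgJTwo
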