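import Cfsg.Agent.Lib.JTwoType.FieldComm
import Cfsg.Agent.Lib.Bender.GoodAll
import Cfsg.Agent.S0223
import Cfsg.Agent.S1221

/-!
In a core-free group with a Sylow four-group, a proper subgroup containing the normaliser of the four-group and the
centralisers of its involutions forces these centralisers to be the four-group.

Blueprint: `blueprint/S1776.md`, part C.
-/

set_option autoImplicit false
set_option linter.unusedSectionVars false

namespace CfsgJTwo

open Cfsg CfsgA8C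

universe u

variable {Λ : Type u} [Group Λ] [Finite Λ]

theorem four_embedded (hO : oddCore Λ = ⊥) {V : Subgroup Λ} (hV : ∀ a ∈ V, a * a = 1) (hcard : Nat.card V = 4)
    (hidx : ¬ 2 ∣ V.index) {H : Subgroup Λ} (hH : H ≠ ⊤) (hVH : V ≤ H)
    (hN : Subgroup.normalizer (V : Set Λ) ≤ H)
    (hC : ∀ a ∈ V, a ≠ 1 → Subgroup.centralizer ({a} : Set Λ) ≤ H) {a x : Λ} (ha : a ∈ V) (ha1 : a ≠ 1)
    (hx : x * a = a * x) (hxo : Odd (orderOf x)) : x = 1 := by
  haveI := Fact.mk Nat.prime_two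
  have hVp : IsPGroup 2 V := fun b => ⟨1, Subtype.ext (by simpa [pow_two] using hV _ b.2)⟩
  have hidxH : ¬ 2 ∣ (V.subgroupOf H).index := fun h => hidx (h.trans (Subgroup.relIndex_dvd_index_of_le hVH))
  -- an involution of `H` is moved into the four-group inside `H`
  have hinto : ∀ t ∈ H, orderOf t = 2 → ∃ h ∈ H, h * t * h⁻¹ ∈ V ∧ h * t * h⁻¹ ≠ 1 := by
    intro t ht ho
    obtain ⟨h, hh, hhV⟩ := conj_into (X := H) hVH hVp hidxH (R := Subgroup.zpowers t) (Subgroup.zpowers_le.mpr ht)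
      (two_elt_isPGroup (k := 1) (x := t) (by rw [pow_one, ← ho, pow_orderOf_eq_one]))
    refine ⟨h, hh, hhV t (Subgroup.mem_zpowers t), fun e => ?_⟩
    rw [conj_eq_one_iff.mp e, orderOf_one] at ho
    exact absurd ho (by norm_num)
  have heven : Even (Nat.card H) := even_iff_two_dvd.mpr
    ((show 2 ∣ 4 by norm_num).trans (hcard ▸ Subgroup.card_dvd_of_le hVH))
  have hSE : IsStronglyEmbedded H := (Cfsg.Agent.S0223.result H hH heven).mpr ⟨?_, ?_⟩
  rotate_left
  · intro t ht ho y hy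
    obtain ⟨h, hh, hhV, hh1⟩ := hinto t ht ho
    have h1 := hC _ hhV hh1 ((cent_conj (g := h) y).mp hy)
    have h2 := mul_mem (mul_mem (inv_mem hh) h1) hh
    simpa [mul_assoc] using h2
  · intro t ht s hs hto hso hts
    obtain ⟨h₁, hh₁, hV₁, -⟩ := hinto t ht hto
    obtain ⟨h₂, hh₂, hV₂, -⟩ := hinto s hs hso
    obtain ⟨g, hg⟩ := isConj_iff.mp hts
    set g' := h₂ * g * h₁⁻¹
    set b := h₂ * s * h₂⁻¹
    have hgb : g' * (h₁ * t * h₁⁻¹) * g'⁻¹ = b := by
      simp only [g', b, ← hg]; group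
    have hVb : V ≤ Subgroup.centralizer ({b} : Set Λ) := fun c hc => mem_cent.mpr (ea_comm_of_sq hV hc hV₂)
    obtain ⟨c, hc, hcV⟩ := conj_into (X := Subgroup.centralizer ({b} : Set Λ)) hVb hVp
      (fun h => hidx (h.trans (Subgroup.relIndex_dvd_index_of_le hVb)))
      (R := V.map (MulAut.conj g').toMonoidHom) (by
        rintro _ ⟨y, hy, rfl⟩
        refine mem_cent.mpr ?_
        show g' * y * g'⁻¹ * b = b * (g' * y * g'⁻¹)
        rw [← hgb, conj_mul, conj_mul, ea_comm_of_sq hV hy hV₁]) (hVp.map _)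
    have hn : c * g' ∈ H := hN (mem_norm_of fun y hy => by
      have := hcV _ ⟨y, hy, rfl⟩
      simpa [mul_assoc] using this)
    refine ⟨h₂⁻¹ * (c * g') * h₁, mul_mem (mul_mem (inv_mem hh₂) hn) hh₁, ?_⟩
    calc h₂⁻¹ * (c * g') * h₁ * t * (h₂⁻¹ * (c * g') * h₁)⁻¹
        = h₂⁻¹ * (c * (g' * (h₁ * t * h₁⁻¹) * g'⁻¹) * c⁻¹) * h₂ := by group
      _ = h₂⁻¹ * b * h₂ := by rw [hgb, mem_cent.mp hc, mul_inv_cancel_right]
      _ = s := by simp only [b]; group
  have h4 : CfsgLib.Bender.HasFour Λ := by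
    obtain ⟨b, hb, hb1, hba⟩ : ∃ b ∈ V, b ≠ 1 ∧ b ≠ a := by
      by_contra h
      push Not at h
      have h2 := Set.ncard_le_ncard (s := (V : Set Λ)) (t := {1, a})
        (fun c hc => (em (c = 1)).elim Or.inl fun h1 => Or.inr (h c hc h1)) (Set.toFinite _)
      rw [← Nat.card_coe_set_eq, Set.ncard_pair (Ne.symm ha1)] at h2
      change Nat.card V ≤ 2 at h2
      omega
    exact ⟨a, b, ha1, hb1, hba.symm, hV a ha, hV b hb, ea_comm_of_sq hV ha hb⟩
  have hsolv : Group.IsSolvable H :=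
    CfsgLib.Bender.solvable (CfsgLib.Bender.Assembly.benderHyp CfsgLib.Bender.Assembly.goodAll) h4 hSE
  have hOH : oddCore H = ⊥ := by
    have h := Cfsg.Agent.S1221.result H hSE
    rwa [hO, le_bot_iff, Subgroup.map_eq_bot_iff_of_injective _ H.subtype_injective] at h
  have hVH2 : ∀ b ∈ V.subgroupOf H, b * b = 1 := fun b hb => Subtype.ext (hV b hb)
  have hcH : Nat.card (V.subgroupOf H) = 4 := by
    rw [Nat.card_congr (Subgroup.subgroupOfEquivOfLe hVH).toEquiv, hcard]
  haveI hnorm := normal_of_solvable hOH hVH2 hcH hidxH hsolv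
  -- the odd part of the centraliser of `a` centralises the four-group
  have hxH : x ∈ H := hC a ha ha1 (mem_cent.mpr hx)
  refine congrArg Subtype.val (solvable_case (x := (⟨x, hxH⟩ : H)) hOH hVH2 hcH hidxH hsolv ?_
    (by rw [Subgroup.orderOf_mk]; exact hxo))
  intro b hb
  refine Subtype.ext ?_
  show x * (b : Λ) = b * x
  refine odd_comm_of_sq hxo ?_
  have h1 : x * (b : Λ) * x⁻¹ ∈ V := hnorm.conj_mem b hb ⟨x, hxH⟩
  rw [← mul_inv_eq_iff_eq_mul, show x * x * (b : Λ) * (x * x)⁻¹ = x * (x * (b : Λ) * x⁻¹) * x⁻¹ by group]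
  have hbV : (b : Λ) ∈ V := hb
  by_cases hb' : (b : Λ) = 1 ∨ (b : Λ) = a
  · rcases hb' with e | e <;> rw [e]
    · group
    · rw [hx, mul_inv_cancel_right, hx, mul_inv_cancel_right]
  push Not at hb'
  have hlist : ∀ e ∈ V, e = 1 ∨ e = a ∨ e = (b : Λ) ∨ e = a * b := by
    intro e he
    by_contra hne
    push Not at hne
    obtain ⟨e1, e2, e3, e4⟩ := hne
    have hsub : ({1, a, (b : Λ), a * b, e} : Set Λ) ⊆ (V : Set Λ) := by
      simp [Set.insert_subset_iff, ha, hbV, he, mul_mem ha hbV]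
    have h5 := Set.ncard_le_ncard hsub (Set.toFinite _)
    have hab1 : a * (b : Λ) ≠ 1 := fun h => hb'.2 (mul_left_cancel (h.trans (hV a ha).symm))
    have haba : a * (b : Λ) ≠ a := fun h => hb'.1 (mul_eq_left.mp h)
    have habb : a * (b : Λ) ≠ b := fun h => ha1 (mul_eq_right.mp h)
    rw [Set.ncard_insert_of_notMem (by simp [ha1.symm, hb'.1.symm, hab1.symm, e1.symm]),
      Set.ncard_insert_of_notMem (by simp [hb'.2.symm, haba.symm, e2.symm]),
      Set.ncard_insert_of_notMem (by simp [habb.symm, e3.symm]), Set.ncard_pair e4.symm, ← Nat.card_coe_set_eq] at h5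
    change 5 ≤ Nat.card V at h5
    omega
  rcases hlist _ h1 with e | e | e | e
  · exact absurd (conj_eq_one_iff.mp e) hb'.1
  · exfalso
    rw [mul_inv_eq_iff_eq_mul, ← hx] at e
    exact hb'.2 (mul_left_cancel e)
  · rw [e, e]
  · rw [e, ← conj_mul, hx, mul_inv_cancel_right, e, ← mul_assoc, hV a ha, one_mul]

end CfsgJTwo
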