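import Cfsg.Agent.Lib.JTwoType.StarBot
import Cfsg.Agent.Lib.JTwoType.FourEmbedded

/-!
The centraliser of an outer involution modulo its core and the plane: core-free with a Sylow four-group.

Blueprint: `blueprint/S1776.md`, part C.
-/

set_option autoImplicit false
set_option linter.unusedSectionVars false
set_option maxRecDepth 100000

namespace CfsgJTwo

open Cfsg CfsgA8C CfsgLib.Signalizer

universe u

variable {G : Type u} [Group G] [Finite G] [IsSimpleGroup G] {D : Emb G}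

namespace Emb

/-- The core and the plane. -/
def Cyc.ker {u : W} {n : G} (_ : D.Cyc u n) : Subgroup G :=
  Kc (D.ι u) ⊔ D.A ⊓ Subgroup.centralizer ({n} : Set G)

section

variable {u : W} {n : G} (c : D.Cyc u n) (h : D.Two)

theorem Cyc.ker_le : c.ker ≤ Subgroup.centralizer ({D.ι u} : Set G) :=
  sup_le (Kc_le _) (inf_le_left.trans (A_le_cent c.a1))

theorem Cyc.ker_split {x : G} (hx : x ∈ c.ker) :
    ∃ p ∈ D.A, n * p = p * n ∧ ∃ k ∈ Kc (D.ι u), x = p * k := by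
  rw [Cyc.ker, sup_comm] at hx
  obtain ⟨p, hp, k, hk, rfl⟩ := mem_normal_sup (fun p hp k hk => A_norm_Kc c.a1 (Subgroup.mem_inf.mp hp).1 hk) hx
  obtain ⟨hpA, hpn⟩ := Subgroup.mem_inf.mp hp
  exact ⟨p, hpA, (mem_cent.mp hpn).symm, k, hk, rfl⟩

theorem Cyc.A_inf_ker {a : G} (ha : a ∈ D.A) (hx : a ∈ c.ker) : n * a = a * n := by
  obtain ⟨p, hp, hpn, k, hk, rfl⟩ := c.ker_split hx
  have hk1 : k = 1 := eq_one_of_two_odd (D.sub_pGroup _) (Kc_odd _)
    (show k ∈ D.A by simpa using mul_mem (inv_mem hp) ha) hk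
  rwa [hk1, mul_one]

theorem Cyc.odd_ker {x : G} (hx : x ∈ c.ker) (ho : Odd (orderOf x)) : x ∈ Kc (D.ι u) := by
  obtain ⟨p, hp, -, k, hk, rfl⟩ := c.ker_split hx
  exact odd_mem_of_invol (D.A_sq hp) (fun y hy => A_norm_Kc c.a1 hp hy) hk ho

include c h

theorem Cyc.ker_normal : (c.ker.subgroupOf (Subgroup.centralizer ({D.ι u} : Set G))).Normal := ⟨fun x hx g => by
  rw [Subgroup.mem_subgroupOf] at hx ⊢
  push_cast
  obtain ⟨p, hp, hpn, k, hk, e⟩ := c.ker_split hx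
  obtain ⟨q, hq, rfl⟩ := hp
  have hg := mem_cent.mp g.2
  rw [e, show (g : G) * (D.ι q * k) * (g : G)⁻¹ =
    ((g : G) * D.ι q * (g : G)⁻¹ * (D.ι q)⁻¹) * D.ι q * ((g : G) * k * (g : G)⁻¹) by group]
  exact mul_mem (mul_mem (Subgroup.mem_sup_left (c.central h hq hpn hg))
    (Subgroup.mem_sup_right (Subgroup.mem_inf.mpr ⟨D.mem_sub.mpr hq, mem_cent.mpr hpn.symm⟩)))
    (Subgroup.mem_sup_left (Kc_norm hg hk))⟩

theorem Cyc.quot_facts [(c.ker.subgroupOf (Subgroup.centralizer ({D.ι u} : Set G))).Normal] :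
    let C := Subgroup.centralizer ({D.ι u} : Set G)
    let π := QuotientGroup.mk' (c.ker.subgroupOf C)
    let V := (D.A.subgroupOf C).map π
    oddCore (C ⧸ c.ker.subgroupOf C) = ⊥ ∧ (∀ a ∈ V, a * a = 1) ∧ Nat.card V = 4 ∧ ¬ 2 ∣ V.index := by
  intro C π V
  haveI := Fact.mk Nat.prime_two
  have hAC : D.A ≤ C := A_le_cent c.a1
  have hidx : ¬ 2 ∣ (D.A.subgroupOf C).index := A_index h c.a1 c.out
  refine ⟨?_, ?_, ?_, fun h2 => hidx (h2.trans ((D.A.subgroupOf C).index_map_dvd (QuotientGroup.mk'_surjective _)))⟩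
  · set R₀ := (oddCore (C ⧸ c.ker.subgroupOf C)).comap π with hR₀
    set R := R₀.map C.subtype with hR
    have hRC : R ≤ C := Subgroup.map_subtype_le _
    have hmemR : ∀ {x : G} (hx : x ∈ C), x ∈ R → π ⟨x, hx⟩ ∈ oddCore (C ⧸ c.ker.subgroupOf C) := by
      rintro x hx ⟨y, hy, e⟩
      have : y = ⟨x, hx⟩ := Subtype.ext e
      exact this ▸ hy
    have hRA : ∀ {a : G}, a ∈ D.A → a ∈ R → n * a = a * n := by
      intro a ha haR
      refine c.A_inf_ker ha ?_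
      have h1 : π ⟨a, hAC ha⟩ = 1 := eq_one_of_odd_sq
        (by rw [← map_mul, show (⟨a, hAC ha⟩ : C) * ⟨a, hAC ha⟩ = 1 from Subtype.ext (D.A_sq ha), map_one])
        (odd_orderOf CfsgLib.odd_card_oddCore (hmemR (hAC ha) haR))
      exact Subgroup.mem_subgroupOf.mp ((QuotientGroup.eq_one_iff (⟨a, hAC ha⟩ : C)).mp h1)
    set P := D.A ⊓ Subgroup.centralizer ({n} : Set G)
    have hPR : P ≤ R := fun p hp => by
      obtain ⟨hpA, -⟩ := Subgroup.mem_inf.mp hp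
      refine ⟨⟨p, hAC hpA⟩, ?_, rfl⟩
      show π ⟨p, hAC hpA⟩ ∈ oddCore (C ⧸ c.ker.subgroupOf C)
      rw [show π ⟨p, hAC hpA⟩ = 1 from (QuotientGroup.eq_one_iff _).mpr
        (Subgroup.mem_subgroupOf.mpr (Subgroup.mem_sup_right hp))]
      exact one_mem _
    have hRn : ∀ g ∈ C, ∀ x ∈ R, g * x * g⁻¹ ∈ R := by
      rintro g hg _ ⟨x, hx, rfl⟩
      exact ⟨⟨g, hg⟩ * x * ⟨g, hg⟩⁻¹, (inferInstance : R₀.Normal).conj_mem x hx _, rfl⟩
    have hctl : Ctl R P := by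
      refine burnside2 hPR (fun p hp => D.A_sq (Subgroup.mem_inf.mp hp).1) ?_ ?_
      · intro P' hPP hP'R hP'
        obtain ⟨m, hm, hmA⟩ := conj_into (X := C) hAC (D.sub_pGroup _) hidx (hP'R.trans hRC) hP'
        have hle : P'.map (MulAut.conj m).toMonoidHom ≤ P := by
          rintro _ ⟨x, hx, rfl⟩
          exact Subgroup.mem_inf.mpr ⟨hmA x hx, mem_cent.mpr (hRA (hmA x hx) (hRn m hm x (hP'R hx))).symm⟩
        exact le_of_eq (Subgroup.eq_of_le_of_card_ge hPP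
          ((Subgroup.card_map_of_injective (MulAut.conj m).injective).symm.le.trans
            (Nat.le_of_dvd Nat.card_pos (Subgroup.card_dvd_of_le hle)))).symm
      · intro g hg hgn p hp
        obtain ⟨hpA, hpn⟩ := Subgroup.mem_inf.mp hp
        obtain ⟨q, hq, rfl⟩ := hpA
        rw [← mul_inv_eq_one]
        exact eq_one_of_two_odd (D.sub_pGroup W.A1s) (Kc_odd _)
          (mul_mem (Subgroup.mem_inf.mp (hgn _ hp)).1 (inv_mem (D.mem_sub.mpr hq)))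
          (c.central h hq (mem_cent.mp hpn).symm (mem_cent.mp (hRC hg)))
    have hcore : core R ≤ Kc (D.ι u) := le_Kc ((core_le R).trans hRC) (core_odd R) fun g hg o ho =>
      core_conj (fun x => ⟨fun hx => hRn g (mem_cent.mpr hg) x hx, fun hx => by
        simpa [mul_assoc] using hRn g⁻¹ (inv_mem (mem_cent.mpr hg)) _ hx⟩) ho
    rw [eq_bot_iff]
    intro q hq
    obtain ⟨x, rfl⟩ := QuotientGroup.mk'_surjective _ q
    obtain ⟨p, hp, o, ho, e⟩ := hctl x ⟨x, hq, rfl⟩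
    rw [Subgroup.mem_bot]
    refine (QuotientGroup.eq_one_iff _).mpr (Subgroup.mem_subgroupOf.mpr ?_)
    rw [e]
    exact mul_mem (Subgroup.mem_sup_right hp) (Subgroup.mem_sup_left (hcore ho))
  · rintro _ ⟨a, ha, rfl⟩
    rw [← map_mul, show a * a = 1 from Subtype.ext (D.A_sq (Subgroup.mem_subgroupOf.mp ha)), map_one]
  · have hWC : D.sub W.W0s ≤ C := D.W0_le_A.trans hAC
    set f : ↥(D.sub W.W0s) →* C ⧸ c.ker.subgroupOf C := π.comp (Subgroup.inclusion hWC)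
    have hrange : f.range = V := by
      refine le_antisymm ?_ ?_
      · rintro _ ⟨w, rfl⟩
        exact ⟨⟨w, hWC w.2⟩, Subgroup.mem_subgroupOf.mpr (D.W0_le_A w.2), rfl⟩
      · rintro _ ⟨⟨x, hx⟩, ha, rfl⟩
        obtain ⟨a, ha1, rfl⟩ := Subgroup.mem_subgroupOf.mp ha
        obtain ⟨w, hw, hn⟩ := c.split h ha1
        refine ⟨⟨D.ι w, D.mem_sub.mpr hw⟩, ?_⟩
        show π ⟨D.ι w, _⟩ = π ⟨D.ι a, hx⟩
        refine (QuotientGroup.eq).mpr (Subgroup.mem_subgroupOf.mpr (Subgroup.mem_sup_right ?_))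
        push_cast
        have hwA := (W.W0_le w hw).1
        rw [show (D.ι w)⁻¹ * D.ι a = D.ι (a * w) by
          rw [← map_inv, ← map_mul, inv_eq_of_mul_eq_one_right (W.A1_sq w hwA), W.A_comm w a hwA ha1]]
        exact Subgroup.mem_inf.mpr ⟨D.mem_sub.mpr (W.A1_mul _ _ ha1 hwA), mem_cent.mpr hn.symm⟩
    have hinj : Function.Injective f := by
      refine (injective_iff_map_eq_one f).mpr fun w hw => ?_
      have h1 := c.A_inf_ker (D.W0_le_A w.2) (Subgroup.mem_subgroupOf.mp ((QuotientGroup.eq_one_iff (⟨w, hWC w.2⟩ : C)).mp hw))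
      refine Subtype.ext ?_
      show (w : G) = 1
      by_contra hne
      obtain ⟨v, hv, hv1, e⟩ := D.mem_W0 w.2 hne
      rw [← e] at h1
      exact hv1 (c.fix_W0 h hv h1)
    rw [← hrange, ← Nat.card_congr (MonoidHom.ofInjective hinj).toEquiv, D.card_W0]

/-- An odd element centralising `A1` is centralised by the automiser modulo the core. -/
theorem Cyc.field {x : G} (hx : x * D.ι u = D.ι u * x) (hA : ∀ a ∈ D.A, x * a = a * x) (ho : Odd (orderOf x))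
    (ho' : Odd (orderOf (n * x * n⁻¹ * x⁻¹))) : n * x * n⁻¹ * x⁻¹ ∈ Kc (D.ι u) := by
  haveI := c.ker_normal h
  obtain ⟨hO, hV, hcard, hidx⟩ := c.quot_facts h
  set C := Subgroup.centralizer ({D.ι u} : Set G)
  set π := QuotientGroup.mk' (c.ker.subgroupOf C)
  have h1 := field_comm hO hV hcard hidx (n := π ⟨n, mem_cent.mpr c.cu⟩) (x := π ⟨x, mem_cent.mpr hx⟩) (mem_norm_of ?_)
    ?_ ((by rw [Subgroup.orderOf_mk]; exact ho : Odd (orderOf (⟨x, mem_cent.mpr hx⟩ : C))).of_dvd_nat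
      (orderOf_map_dvd π _))
  rotate_left
  · rintro _ ⟨a, ha, rfl⟩
    refine ⟨⟨n, mem_cent.mpr c.cu⟩ * a * ⟨n, mem_cent.mpr c.cu⟩⁻¹, Subgroup.mem_subgroupOf.mpr ?_,
      by rw [map_mul, map_mul, map_inv]⟩
    exact norm_conj c.mem.1 (Subgroup.mem_subgroupOf.mp ha)
  · rintro _ ⟨a, ha, rfl⟩
    rw [← map_mul, ← map_mul]
    exact congrArg π (Subtype.ext (hA _ (Subgroup.mem_subgroupOf.mp ha)))
  rw [← mul_inv_eq_one, ← map_inv, ← map_inv, ← map_mul, ← map_mul, ← map_mul] at h1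
  exact c.odd_ker (Subgroup.mem_subgroupOf.mp ((QuotientGroup.eq_one_iff _).mp h1)) ho'

/-- A subgroup with the centralisers of the four-group in `C(u)` that is proper there forces balance. -/
theorem Cyc.embedded {M : Subgroup G} (hA : D.A ≤ M) (hK : Kc (D.ι u) ≤ M)
    (hN : ∀ g : G, g * D.ι u = D.ι u * g → g ∈ Subgroup.normalizer (D.A : Set G) → g ∈ M)
    (hC : ∀ w : W, W.IsW0 w → w ≠ 1 → ∀ g : G, g * D.ι u = D.ι u * g → g * D.ι w = D.ι w * g → g ∈ M)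
    (hM : ¬ Subgroup.centralizer ({D.ι u} : Set G) ≤ M) {w : W} (hw : W.IsW0 w) (hw1 : w ≠ 1) :
    Kc (D.ι w) ⊓ Subgroup.centralizer ({D.ι u} : Set G) ≤ Kc (D.ι u) := by
  haveI := c.ker_normal h
  obtain ⟨hO, hV, hcard, hidx⟩ := c.quot_facts h
  set C := Subgroup.centralizer ({D.ι u} : Set G)
  set π := QuotientGroup.mk' (c.ker.subgroupOf C)
  set V := (D.A.subgroupOf C).map π
  have hAC : D.A ≤ C := A_le_cent c.a1
  have hkM : c.ker ≤ M := sup_le hK (inf_le_left.trans hA)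
  set H := (M.subgroupOf C).map π
  have hback : ∀ y : C, π y ∈ H → (y : G) ∈ M := by
    rintro y ⟨m, hm, e⟩
    have h1 : (m : G)⁻¹ * y ∈ c.ker := by simpa [Subgroup.mem_subgroupOf] using QuotientGroup.eq.mp e
    simpa using mul_mem (Subgroup.mem_subgroupOf.mp hm) (hkM h1)
  have hH : H ≠ ⊤ := fun e => hM fun y hy => hback ⟨y, hy⟩ (e ▸ Subgroup.mem_top _)
  have hVH : V ≤ H := Subgroup.map_mono fun a ha => Subgroup.mem_subgroupOf.mpr (hA (Subgroup.mem_subgroupOf.mp ha))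
  have hsame : ∀ {a : W} (ha : W.IsA1 a), ∃ b, W.IsW0 b ∧ ∃ hb : D.ι b ∈ C,
      π ⟨D.ι b, hb⟩ = π ⟨D.ι a, hAC (D.mem_sub.mpr ha)⟩ := by
    intro a ha
    obtain ⟨b, hb, hn⟩ := c.split h ha
    have hbA := (W.W0_le b hb).1
    refine ⟨b, hb, hAC (D.mem_sub.mpr hbA), QuotientGroup.eq.mpr (Subgroup.mem_subgroupOf.mpr
      (Subgroup.mem_sup_right ?_))⟩
    push_cast
    rw [show (D.ι b)⁻¹ * D.ι a = D.ι (a * b) by
      rw [← map_inv, ← map_mul, inv_eq_of_mul_eq_one_right (W.A1_sq b hbA), W.A_comm b a hbA ha]]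
    exact Subgroup.mem_inf.mpr ⟨D.mem_sub.mpr (W.A1_mul _ _ ha hbA), mem_cent.mpr hn.symm⟩
  have hcH : ∀ a ∈ V, a ≠ 1 → Subgroup.centralizer ({a} : Set (C ⧸ c.ker.subgroupOf C)) ≤ H := by
    rintro _ ⟨⟨a, haC⟩, ha, rfl⟩ ha1 q hq
    obtain ⟨a, ha', rfl⟩ := Subgroup.mem_subgroupOf.mp ha
    obtain ⟨b, hb, hbC, e⟩ := hsame ha'
    obtain ⟨y, rfl⟩ := QuotientGroup.mk'_surjective _ q
    have hb1 : b ≠ 1 := fun e' => ha1 (e.symm.trans (by
      rw [show (⟨D.ι b, hbC⟩ : C) = 1 from Subtype.ext (show D.ι b = 1 by rw [e', map_one]), map_one]))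
    have h1 : (y : G) * D.ι b * (y : G)⁻¹ * (D.ι b)⁻¹ ∈ c.ker := by
      have h2 := mem_cent.mp hq
      rw [← e, ← mul_inv_eq_iff_eq_mul, ← mul_inv_eq_one, ← map_inv, ← map_inv, ← map_mul, ← map_mul, ← map_mul] at h2
      exact Subgroup.mem_subgroupOf.mp ((QuotientGroup.eq_one_iff _).mp h2)
    obtain ⟨p, hp, hpn, k, hk, e1⟩ := c.ker_split h1
    set O := Kc (D.ι u)
    have hO' : ∀ t ∈ D.A, ∀ o ∈ O, t * o * t⁻¹ ∈ O := fun t ht o ho => A_norm_Kc c.a1 ht ho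
    have hbA : D.ι b ∈ D.A := D.mem_sub.mpr (W.W0_le b hb).1
    -- the conjugate of `b` is congruent to an involution of `A1`
    obtain ⟨o, ho, ho2⟩ := conj_of_mod (Kc_odd (D.ι u)) (s := (y : G) * D.ι b * (y : G)⁻¹) (t := p * D.ι b)
      (by rw [conj_mul, D.A_sq hbA, mul_one, mul_inv_cancel]) (D.A_sq (mul_mem hp hbA))
      (fun o ho => hO' _ (mul_mem hp hbA) o ho) (by
        rw [show (p * D.ι b)⁻¹ * ((y : G) * D.ι b * (y : G)⁻¹) =
          (D.ι b)⁻¹ * (p⁻¹ * ((y : G) * D.ι b * (y : G)⁻¹ * (D.ι b)⁻¹)) * (D.ι b)⁻¹⁻¹ by group, e1,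
          inv_mul_cancel_left]
        exact hO' _ (inv_mem hbA) _ hk)
    have hoy : (o * (y : G)) * D.ι u = D.ι u * (o * (y : G)) :=
      (show Commute o (D.ι u) from Kc_comm ho).mul_left (show Commute (y : G) (D.ι u) from mem_cent.mp y.2)
    have e2 : o * (y : G) * D.ι b * (o * (y : G))⁻¹ = p * D.ι b := by rw [← ho2]; group
    obtain ⟨m, hm, hmu, hmb⟩ := fusion h c.a1 c.out hoy hbA (e2 ▸ mul_mem hp hbA)
    have h3 : m⁻¹ * (o * (y : G)) ∈ M := by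
      refine hC b hb hb1 _ ((show Commute m (D.ι u) from hmu).inv_left.mul_left
        (show Commute _ (D.ι u) from hoy)) ?_
      rw [← mul_inv_eq_iff_eq_mul, show m⁻¹ * (o * (y : G)) * D.ι b * (m⁻¹ * (o * (y : G)))⁻¹ =
        m⁻¹ * (o * (y : G) * D.ι b * (o * (y : G))⁻¹) * m by group, ← hmb]
      group
    refine ⟨y, Subgroup.mem_subgroupOf.mpr ?_, rfl⟩
    have h4 := mul_mem (inv_mem (hK ho)) (mul_mem (hN m hmu hm) h3)
    simpa [mul_assoc] using h4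
  have hNH : Subgroup.normalizer (V : Set (C ⧸ c.ker.subgroupOf C)) ≤ H := by
    intro q hq
    obtain ⟨y, rfl⟩ := QuotientGroup.mk'_surjective _ q
    have hmem : ∀ a ∈ D.A, (y : G) * a * (y : G)⁻¹ ∈ D.A ⊔ Kc (D.ι u) := by
      intro a ha
      obtain ⟨⟨b, hbC⟩, hb, e⟩ := norm_conj hq ⟨⟨a, hAC ha⟩, Subgroup.mem_subgroupOf.mpr ha, rfl⟩
      rw [← map_inv, ← map_mul, ← map_mul] at e
      have h1 : b⁻¹ * ((y : G) * a * (y : G)⁻¹) ∈ c.ker := by
        simpa [Subgroup.mem_subgroupOf] using QuotientGroup.eq.mp e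
      have h2 : c.ker ≤ D.A ⊔ Kc (D.ι u) := sup_le le_sup_right (inf_le_left.trans le_sup_left)
      rw [show (y : G) * a * (y : G)⁻¹ = b * (b⁻¹ * ((y : G) * a * (y : G)⁻¹)) by group]
      exact mul_mem (Subgroup.mem_sup_left (Subgroup.mem_subgroupOf.mp hb)) (h2 h1)
    obtain ⟨o, ho, hon⟩ := lift_norm (D.sub_pGroup W.A1s) (Kc_odd _) (fun t ht o ho => A_norm_Kc c.a1 ht ho) hmem
    refine ⟨y, Subgroup.mem_subgroupOf.mpr ?_, rfl⟩
    have h4 := mul_mem (inv_mem (hK ho)) (hN (o * (y : G))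
      ((show Commute o (D.ι u) from Kc_comm ho).mul_left (show Commute (y : G) (D.ι u) from mem_cent.mp y.2))
      (mem_norm_of hon))
    simpa [mul_assoc] using h4
  intro x hx
  obtain ⟨hxK, hxC⟩ := Subgroup.mem_inf.mp hx
  have hwC : D.ι w ∈ C := hAC (D.mem_sub.mpr (W.W0_le w hw).1)
  have hw1' : π ⟨D.ι w, hwC⟩ ≠ 1 := fun e => hw1 (c.fix_W0 h hw
    (c.A_inf_ker (D.mem_sub.mpr (W.W0_le w hw).1) (Subgroup.mem_subgroupOf.mp ((QuotientGroup.eq_one_iff _).mp e))))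
  have hxo := odd_orderOf (Kc_odd _) hxK
  have h1 := four_embedded hO hV hcard hidx hH hVH hNH hcH
    (⟨⟨D.ι w, hwC⟩, Subgroup.mem_subgroupOf.mpr (D.mem_sub.mpr (W.W0_le w hw).1), rfl⟩ : π ⟨D.ι w, hwC⟩ ∈ V) hw1'
    (x := π ⟨x, hxC⟩) (by rw [← map_mul, ← map_mul]; exact congrArg π (Subtype.ext (Kc_comm hxK)))
    (Odd.of_dvd_nat (by rw [Subgroup.orderOf_mk]; exact hxo) (orderOf_map_dvd π _))
  exact c.odd_ker (Subgroup.mem_subgroupOf.mp ((QuotientGroup.eq_one_iff _).mp h1)) hxo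

end

end Emb

end CfsgJTwo
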