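import Cfsg.Agent.Lib.JTwoType.GCent

/-!
Two classes of involutions: the centraliser of an involution `u` outside the centre in `A1`. The plane through `u`
fixed by the automiser is central modulo the core.

Blueprint: `blueprint/S1776.md`, part C.
-/

set_option autoImplicit false
set_option linter.unusedSectionVars false
set_option maxRecDepth 100000

namespace CfsgJTwo

open Cfsg CfsgA8C

universe u

namespace W

theorem A1_sum : ∀ a b : W, IsA1 a → IsA1 b → (a * b).a = a.a + b.a := fun a b ha _ => A1_mul_a a b ha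
theorem f4_perm : ∀ a b c : F4, a + b = c → a ≠ 0 → b ≠ 0 → c ≠ 0 → a ≠ b ∧ a ≠ c ∧ b ≠ c := by decide

end W

variable {G : Type u} [Group G] [Finite G] [IsSimpleGroup G] (D : Emb G)

namespace Emb

/-- The first elementary abelian subgroup of order sixteen. -/
abbrev A : Subgroup G := D.sub W.A1s

theorem A_sq {a : G} (ha : a ∈ D.A) : a * a = 1 := by
  obtain ⟨w, hw, rfl⟩ := ha
  rw [← map_mul, W.A1_sq w hw, map_one]

theorem A_comm {a b : G} (ha : a ∈ D.A) (hb : b ∈ D.A) : a * b = b * a :=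
  ea_comm_of_sq (fun _ h => D.A_sq h) ha hb

/-- The involutions of `A1` outside the centre are not fused to `z`. -/
def Two : Prop := ∀ u : W, W.IsA1 u → ¬ W.IsW0 u → ¬ IsConj (D.ι u) (D.ι W.z)

variable {D}

theorem out_class (h : D.Two) {w : W} (hw : w * w = 1) (hw1 : w ≠ 1) (hz : ¬ IsConj (D.ι w) (D.ι W.z)) :
    W.IsOut w := by
  rcases W.invol_cases w hw with e | e | e | e | e
  · exact absurd e hw1
  · exact absurd (e ▸ IsConj.refl _) hz
  · exact absurd ((D.v_conj_vz e).symm.trans D.z_conj_v.symm) hz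
  · exact absurd (D.sig_conj_z e) hz
  · exact e

theorem A_le_cent {u : W} (hu : W.IsA1 u) : D.A ≤ Subgroup.centralizer ({D.ι u} : Set G) := fun a ha =>
  mem_cent.mpr (D.A_comm ha (D.mem_sub.mpr hu))

/-- `A1` is a Sylow subgroup of the centraliser of an outer involution. -/
theorem A_index (h : D.Two) {u : W} (hu : W.IsA1 u) (hu0 : ¬ W.IsW0 u) :
    ¬ 2 ∣ D.A.relIndex (Subgroup.centralizer ({D.ι u} : Set G)) := by
  obtain ⟨w, hw2, hconj, hext⟩ := D.exists_ext u (W.A1_sq u hu)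
  have hw1 : w ≠ 1 := fun e => hu0 (by
    rw [e, map_one, isConj_one_left] at hconj
    rw [D.inj (hconj.trans (map_one D.ι).symm)]; exact W.W0_one)
  have hout : W.IsOut w := out_class h hw2 hw1 fun e => h u hu hu0 (hconj.trans e)
  obtain ⟨g, hg⟩ := isConj_iff.mp hconj
  set C₁ := Subgroup.centralizer ({D.ι u} : Set G)
  set C₂ := Subgroup.centralizer ({D.ι w} : Set G)
  have hC : C₁.map (MulAut.conj g).toMonoidHom = C₂ := by
    ext y
    constructor
    · rintro ⟨x, hx, rfl⟩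
      show g * x * g⁻¹ ∈ C₂
      have := (cent_conj (g := g) x).mp hx
      rwa [hg] at this
    · intro hy
      refine ⟨g⁻¹ * y * g, (cent_conj (g := g) _).mpr ?_, by simp [mul_assoc]⟩
      rw [hg, show g * (g⁻¹ * y * g) * g⁻¹ = y by group]; exact hy
  have hcard : Nat.card C₁ = Nat.card C₂ := by
    rw [← hC, Subgroup.card_map_of_injective (f := (MulAut.conj g).toMonoidHom) (MulAut.conj g).injective]
  intro h2
  refine hext ?_
  have e1 := (D.A.subgroupOf C₁).card_mul_index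
  have e2 := (((D.T : Subgroup G) ⊓ C₂).subgroupOf C₂).card_mul_index
  rw [Nat.card_congr (Subgroup.subgroupOfEquivOfLe (A_le_cent hu)).toEquiv, D.card_A1s] at e1
  rw [Nat.card_congr (Subgroup.subgroupOfEquivOfLe inf_le_right).toEquiv, D.card_cent,
    W.card_cent_sig w (Or.inr hout), ← hcard, ← e1] at e2
  show 2 ∣ _
  unfold Subgroup.relIndex
  rw [Nat.eq_of_mul_eq_mul_left (by norm_num) e2]
  exact h2

theorem A_max (h : D.Two) {u : W} (hu : W.IsA1 u) (hu0 : ¬ W.IsW0 u) {P : Subgroup G} (hAP : D.A ≤ P)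
    (hPC : P ≤ Subgroup.centralizer ({D.ι u} : Set G)) (hP : IsPGroup 2 P) : P ≤ D.A :=
  (syl_max (A_index h hu hu0) hAP hPC hP).le

/-- Fusion in `A1` inside the centraliser of an outer involution is controlled by the normaliser. -/
theorem fusion (h : D.Two) {u : W} (hu : W.IsA1 u) (hu0 : ¬ W.IsW0 u) {g a : G} (hg : g * D.ι u = D.ι u * g)
    (ha : a ∈ D.A) (hga : g * a * g⁻¹ ∈ D.A) :
    ∃ m ∈ Subgroup.normalizer (D.A : Set G), m * D.ι u = D.ι u * m ∧ m * a * m⁻¹ = g * a * g⁻¹ := by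
  set b := g * a * g⁻¹ with hb
  set X := Subgroup.centralizer ({D.ι u} : Set G) ⊓ Subgroup.centralizer ({b} : Set G)
  have hAX : D.A ≤ X := le_inf (A_le_cent hu) fun x hx => mem_cent.mpr (D.A_comm hx hga)
  have hidx : ¬ 2 ∣ D.A.relIndex X := fun h2 => A_index h hu hu0
    (h2.trans (Dvd.intro _ (Subgroup.relIndex_mul_relIndex _ _ _ hAX inf_le_left)))
  obtain ⟨c, hc, hcA⟩ := conj_into (X := X) hAX (D.sub_pGroup _) hidx (R := D.A.map (MulAut.conj g).toMonoidHom) (by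
    rintro _ ⟨x, hx, rfl⟩
    refine Subgroup.mem_inf.mpr ⟨?_, ?_⟩
    · exact mul_mem (mul_mem (mem_cent.mpr hg) (A_le_cent hu hx)) (inv_mem (mem_cent.mpr hg))
    · rw [hb]; exact (cent_conj x).mp (mem_cent.mpr (D.A_comm hx ha))) ((D.sub_pGroup _).map _)
  refine ⟨c * g, mem_norm_of fun x hx => ?_, ?_, ?_⟩
  · have := hcA _ ⟨x, hx, rfl⟩
    simpa [mul_assoc] using this
  · exact (show Commute c (D.ι u) from mem_cent.mp hc.1).mul_left (show Commute g (D.ι u) from hg)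
  · rw [show c * g * a * (c * g)⁻¹ = c * b * c⁻¹ by rw [hb]; group, mem_cent.mp hc.2, mul_inv_cancel_right]

theorem conj_W0 (h : D.Two) {g : G} (hg : g ∈ Subgroup.normalizer (D.A : Set G)) {a : W} (ha : W.IsW0 a) :
    ∃ b, W.IsW0 b ∧ g * D.ι a * g⁻¹ = D.ι b := by
  obtain ⟨b, hb, e⟩ := norm_conj hg (D.mem_sub.mpr (show a ∈ W.A1s from (W.W0_le a ha).1))
  refine ⟨b, ?_, e.symm⟩
  by_contra h0
  refine h b hb h0 ?_
  have hb1 : b ≠ 1 := fun e1 => h0 (e1 ▸ W.W0_one)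
  have ha1 : a ≠ 1 := fun e1 => hb1 (D.inj (by rw [e, e1]; simp))
  exact (isConj_iff.mpr ⟨g, e.symm⟩ : IsConj (D.ι a) (D.ι b)).symm.trans (D.W0_conj_z ha ha1)

theorem conj_A1 {g : G} (hg : g ∈ Subgroup.normalizer (D.A : Set G)) {a : W} (ha : W.IsA1 a) :
    ∃ b, W.IsA1 b ∧ g * D.ι a * g⁻¹ = D.ι b := by
  obtain ⟨b, hb, e⟩ := norm_conj hg (D.mem_sub.mpr (show a ∈ W.A1s from ha))
  exact ⟨b, hb, e.symm⟩

/-- The elements of `N(A1)` fixing the outer involution act trivially on `A1` modulo the centre. -/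
theorem same_coset (h : D.Two) {u : W} (hu : W.IsA1 u) (hu0 : ¬ W.IsW0 u) {g : G}
    (hg : g ∈ Subgroup.normalizer (D.A : Set G)) (hgu : g * D.ι u = D.ι u * g) :
    ∀ a b : W, W.IsA1 a → W.IsA1 b → g * D.ι a * g⁻¹ = D.ι b → b.a = a.a := by
  obtain ⟨p, y, hp, hy, hpy, ⟨k, hk⟩, hyo⟩ := two_odd_split g
  have hgN := Subgroup.zpowers_le.mpr hg
  have hgC := Subgroup.zpowers_le.mpr (mem_cent.mpr hgu)
  have hpA : p ∈ D.A := by
    refine A_max h hu hu0 le_sup_right (sup_le (Subgroup.zpowers_le.mpr (hgC hp)) (A_le_cent hu))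
      (IsPGroup.to_sup_of_normal_right' (two_elt_isPGroup hk) (D.sub_pGroup _)
        (Subgroup.zpowers_le.mpr (hgN hp))) (Subgroup.mem_sup_left (Subgroup.mem_zpowers p))
  have hy2N : y * y ∈ Subgroup.normalizer (D.A : Set G) := mul_mem (hgN hy) (hgN hy)
  have hyu : y * D.ι u * y⁻¹ = D.ι u := mul_inv_eq_iff_eq_mul.mpr (mem_cent.mp (hgC hy))
  -- the elements with trivial action on the cosets
  let S : Subgroup G :=
    { carrier := {x | x ∈ Subgroup.normalizer (D.A : Set G) ∧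
        ∀ a b : W, W.IsA1 a → W.IsA1 b → x * D.ι a * x⁻¹ = D.ι b → b.a = a.a}
      one_mem' := ⟨one_mem _, fun a b _ _ e => by rw [one_mul, inv_one, mul_one] at e; rw [D.inj e]⟩
      mul_mem' := fun {x x'} hx hx' => ⟨mul_mem hx.1 hx'.1, fun a b ha hb e => by
        obtain ⟨c, hc, ec⟩ := conj_A1 hx'.1 ha
        have h1 := hx.2 c b hc hb (by rw [← ec, ← e]; group)
        rw [h1, hx'.2 a c ha hc ec]⟩
      inv_mem' := fun {x} hx => ⟨inv_mem hx.1, fun a b ha hb e => (hx.2 b a hb ha (by rw [← e]; group)).symm⟩ }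
  have hsq : y * y ∈ S := by
    refine ⟨hy2N, fun a b ha hb e => ?_⟩
    have hyN := hgN hy
    obtain ⟨c, hc, ec⟩ := conj_A1 hyN ha
    have eb : y * D.ι c * y⁻¹ = D.ι b := by rw [← ec, ← e]; group
    -- the two steps preserve the coset of `u` and permute the other two
    have key : ∀ s t : W, W.IsA1 s → W.IsA1 t → y * D.ι s * y⁻¹ = D.ι t → (s.a = 0 ↔ t.a = 0) ∧
        (s.a = u.a ↔ t.a = u.a) := by
      intro s t hs ht est
      have hiff : ∀ r r' : W, W.IsA1 r → W.IsA1 r' → y * D.ι r * y⁻¹ = D.ι r' → (W.IsW0 r ↔ W.IsW0 r') := by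
        intro r r' hr hr' er
        constructor
        · intro h0
          obtain ⟨q, hq, eq⟩ := conj_W0 h hyN h0
          exact D.inj (eq.symm.trans er) ▸ hq
        · intro h0
          obtain ⟨q, hq, eq⟩ := conj_W0 h (inv_mem hyN) h0
          have : q = r := D.inj (by rw [← eq, ← er]; group)
          exact this ▸ hq
      refine ⟨by rw [W.A1_zero s hs, W.A1_zero t ht]; exact hiff s t hs ht est, ?_⟩
      rw [W.A1_eq_mod s u hs hu, W.A1_eq_mod t u ht hu]
      exact hiff _ _ (W.A1_mul _ _ hs hu) (W.A1_mul _ _ ht hu) (by rw [map_mul, map_mul, ← conj_mul, est, hyu])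
    have k1 := key a c ha hc ec
    have k2 := key c b hc hb eb
    by_cases h0 : a.a = 0
    · rw [h0, (k2.1.mp (k1.1.mp h0))]
    by_cases h1 : a.a = u.a
    · rw [h1, (k2.2.mp (k1.2.mp h1))]
    have hc0 : c.a ≠ 0 := fun e0 => h0 (k1.1.mpr e0)
    have hc1 : c.a ≠ u.a := fun e0 => h1 (k1.2.mpr e0)
    have hb0 : b.a ≠ 0 := fun e0 => hc0 (k2.1.mpr e0)
    have hb1 : b.a ≠ u.a := fun e0 => hc1 (k2.2.mpr e0)
    by_cases hca : c.a = a.a
    · -- a fixed coset stays fixed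
      have h3 : W.IsW0 (c * a) := (W.A1_eq_mod c a hc ha).mp hca
      obtain ⟨q, hq, eq⟩ := conj_W0 h hyN h3
      have e3 : b * c = q := D.inj (by rw [← eq, map_mul, map_mul, ← conj_mul, eb, ec])
      rw [(W.A1_eq_mod b c hb hc).mpr (e3 ▸ hq), hca]
    · by_cases hba : b.a = a.a
      · exact hba
      · exfalso
        have hua : u.a ≠ 0 := fun e0 => hu0 ((W.A1_zero u hu).mp e0)
        rcases W.three_cosets u.a a.a c.a b.a hua h0 hc0 hb0 (Ne.symm h1) (Ne.symm hc1) (Ne.symm hca) with e0 | e0 | e0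
        · exact hb1 e0
        · exact hba e0
        · -- `b` and `c` in one coset, so `c` and `a` too
          have h3 : W.IsW0 (b * c) := (W.A1_eq_mod b c hb hc).mp e0
          obtain ⟨q, hq, eq⟩ := conj_W0 h (inv_mem hyN) h3
          have e3 : c * a = q := D.inj (by rw [← eq, map_mul, map_mul, ← eb, ← ec]; group)
          exact hca ((W.A1_eq_mod c a hc ha).mpr (e3 ▸ hq))
  have hyS : y ∈ S := (Subgroup.zpowers_le.mpr hsq) (mem_zpowers_sq hyo)
  intro a b ha hb e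
  obtain ⟨c, hc, ec⟩ := conj_A1 hyS.1 ha
  have hbc : D.ι b = D.ι c := by
    rw [← e, hpy, show p * y * D.ι a * (p * y)⁻¹ = p * (y * D.ι a * y⁻¹) * p⁻¹ by group, ec,
      D.A_comm hpA (D.mem_sub.mpr hc), mul_inv_cancel_right]
  rw [D.inj hbc]
  exact hyS.2 a c ha hc ec

/-- Such an element fixing the centre pointwise centralises `A1`. -/
theorem cent_A (h : D.Two) {u : W} (hu : W.IsA1 u) (hu0 : ¬ W.IsW0 u) {g : G}
    (hg : g ∈ Subgroup.normalizer (D.A : Set G)) (hgu : g * D.ι u = D.ι u * g)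
    (hgW : ∀ w, W.IsW0 w → g * D.ι w = D.ι w * g) : ∀ a ∈ D.A, g * a = a * g := by
  obtain ⟨p, y, hp, hy, hpy, ⟨k, hk⟩, hyo⟩ := two_odd_split g
  have hgN := Subgroup.zpowers_le.mpr hg
  have hgC := Subgroup.zpowers_le.mpr (mem_cent.mpr hgu)
  have hpA : p ∈ D.A := by
    refine A_max h hu hu0 le_sup_right (sup_le (Subgroup.zpowers_le.mpr (hgC hp)) (A_le_cent hu))
      (IsPGroup.to_sup_of_normal_right' (two_elt_isPGroup hk) (D.sub_pGroup _)
        (Subgroup.zpowers_le.mpr (hgN hp))) (Subgroup.mem_sup_left (Subgroup.mem_zpowers p))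
  rintro _ ⟨a, ha, rfl⟩
  have hya : y * D.ι a = D.ι a * y := by
    obtain ⟨c, hc, ec⟩ := conj_A1 (hgN hy) ha
    have hw0 : W.IsW0 (c * a) := (W.A1_eq_mod c a hc ha).mp
      (same_coset h hu hu0 (hgN hy) (mem_cent.mp (hgC hy)) a c ha hc ec)
    have hyw : ∀ {w : W}, W.IsW0 w → y * D.ι w * y⁻¹ = D.ι w := fun {w} hw =>
      mul_inv_eq_iff_eq_mul.mpr (mem_cent.mp ((Subgroup.zpowers_le.mpr (mem_cent.mpr (hgW w hw))) hy))
    refine odd_comm_of_sq hyo ?_
    rw [← mul_inv_eq_iff_eq_mul, show y * y * D.ι a * (y * y)⁻¹ = y * (y * D.ι a * y⁻¹) * y⁻¹ by group, ec,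
      show c = c * a * a by rw [mul_assoc, W.A1_sq a ha, mul_one], map_mul, ← conj_mul, hyw hw0, ec, ← map_mul]
    congr 1
    rw [mul_assoc, W.A_comm a c ha hc, ← mul_assoc, W.A1_sq c hc, one_mul]
  have hpa : p * D.ι a = D.ι a * p := D.A_comm hpA (D.mem_sub.mpr ha)
  rw [hpy]
  exact (show Commute p (D.ι a) from hpa).mul_left (show Commute y (D.ι a) from hya)

theorem fix_v (h : D.Two) {u : W} (hu : W.IsA1 u) (hu0 : ¬ W.IsW0 u) {g : G}
    (hg : g ∈ Subgroup.normalizer (D.A : Set G)) (hgu : g * D.ι u = D.ι u * g)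
    (hgz : g * D.ι W.z = D.ι W.z * g) : ∀ w, W.IsW0 w → g * D.ι w = D.ι w * g := by
  obtain ⟨p, y, hp, hy, hpy, ⟨k, hk⟩, hyo⟩ := two_odd_split g
  have hgN := Subgroup.zpowers_le.mpr hg
  have hgC := Subgroup.zpowers_le.mpr (mem_cent.mpr hgu)
  have hpA : p ∈ D.A := by
    refine A_max h hu hu0 le_sup_right (sup_le (Subgroup.zpowers_le.mpr (hgC hp)) (A_le_cent hu))
      (IsPGroup.to_sup_of_normal_right' (two_elt_isPGroup hk) (D.sub_pGroup _)
        (Subgroup.zpowers_le.mpr (hgN hp))) (Subgroup.mem_sup_left (Subgroup.mem_zpowers p))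
  have hyz : y * D.ι W.z = D.ι W.z * y :=
    mem_cent.mp ((Subgroup.zpowers_le.mpr (mem_cent.mpr hgz)) hy)
  have hyv : y * D.ι W.v = D.ι W.v * y := by
    refine odd_comm_of_sq hyo ?_
    have hv : W.IsW0 W.v := by decide
    obtain ⟨b, hb, e⟩ := conj_W0 h (hgN hy) hv
    rw [← mul_inv_eq_iff_eq_mul, show y * y * D.ι W.v * (y * y)⁻¹ = y * (y * D.ι W.v * y⁻¹) * y⁻¹ by group, e]
    rcases W.W0_list b hb with e1 | e1 | e1 | e1
    · subst e1; exact absurd (conj_eq_one_iff.mp (by rw [e, map_one])) (D.ne_one W.v_ne)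
    · subst e1
      exact absurd (D.inj (mul_left_cancel (mul_right_cancel (e.trans
        (mul_inv_eq_iff_eq_mul.mpr hyz).symm)))) W.v_ne_z
    · subst e1; exact e
    · subst e1
      rw [map_mul, ← conj_mul, e, mul_inv_eq_iff_eq_mul.mpr hyz, map_mul, mul_assoc, ← map_mul D.ι W.z, W.z_sq,
        map_one, mul_one]
  intro w hw
  have hyw : y * D.ι w = D.ι w * y := by
    rcases W.W0_list w hw with e | e | e | e <;> subst e
    · simp
    · exact hyz
    · exact hyv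
    · rw [map_mul]; exact (show Commute y _ from hyv).mul_right (show Commute y _ from hyz)
  rw [hpy]
  exact (show Commute p (D.ι w) from D.A_comm hpA (D.mem_sub.mpr (W.W0_le w hw).1)).mul_left
    (show Commute y (D.ι w) from hyw)

variable (D) in
/-- An element of `N(A1)` fixing `u` and moving `v` to `z`. -/
structure Cyc (u : W) (n : G) : Prop where
  a1 : W.IsA1 u
  out : ¬ W.IsW0 u
  mem : n ∈ D.NA
  cu : n * D.ι u = D.ι u * n
  nv : n * D.ι W.v * n⁻¹ = D.ι W.z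

theorem exists_cyc {d : G} (hd : D.IsD d) {u : W} (hu : W.IsA1 u) (hu0 : ¬ W.IsW0 u) : ∃ n, D.Cyc u n := by
  obtain ⟨k, hk, hkv⟩ := D.exists_k
  obtain ⟨u', hu', hu'0, e⟩ := D.NA_out hk hu hu0
  obtain ⟨g, hg, hge⟩ := hd.cyc u' hu' hu'0 u hu hu0
  have hgNA : g ∈ D.NA ⊓ Subgroup.centralizer ({D.ι W.z} : Set G) := by
    refine (sup_le ?_ (Subgroup.zpowers_le.mpr (Subgroup.mem_inf.mpr ⟨hd.mem, mem_cent.mpr hd.cz⟩))) hg
    rintro _ ⟨t, ht, rfl⟩
    exact ⟨D.T_NA ht, mem_cent.mpr (D.comm_iff.mpr (W.z_central t).symm)⟩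
  refine ⟨g * k, hu, hu0, mul_mem hgNA.1 hk, ?_, ?_⟩
  · rw [← mul_inv_eq_iff_eq_mul, show g * k * D.ι u * (g * k)⁻¹ = g * (k * D.ι u * k⁻¹) * g⁻¹ by group, e, hge]
  · rw [show g * k * D.ι W.v * (g * k)⁻¹ = g * (k * D.ι W.v * k⁻¹) * g⁻¹ by group, hkv, mem_cent.mp hgNA.2,
      mul_inv_cancel_right]

theorem Cyc.nz (h : D.Two) {u : W} {n : G} (c : D.Cyc u n) : n * D.ι W.z * n⁻¹ = D.ι (W.v * W.z) := by
  obtain ⟨b, hb, e⟩ := conj_W0 h c.mem.1 (show W.IsW0 W.z by decide)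
  rw [e]
  rcases W.W0_list b hb with e1 | e1 | e1 | e1
  · subst e1; exact absurd (conj_eq_one_iff.mp (by rw [e, map_one])) (D.ne_one W.z_ne)
  · subst e1; exact absurd (D.inj (mul_left_cancel (mul_right_cancel (e.trans c.nv.symm)))) W.v_ne_z.symm
  · subst e1
    exfalso
    -- a transposition
    have hn2 : ∀ w, W.IsW0 w → n * n * D.ι w = D.ι w * (n * n) := by
      refine fix_v h c.a1 c.out (mul_mem c.mem.1 c.mem.1)
        ((show Commute n _ from c.cu).mul_left (show Commute n _ from c.cu)) ?_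
      rw [← mul_inv_eq_iff_eq_mul, show n * n * D.ι W.z * (n * n)⁻¹ = n * (n * D.ι W.z * n⁻¹) * n⁻¹ by group, e, c.nv]
    obtain ⟨p, y, hp, hy, hpy, ⟨k, hk⟩, hyo⟩ := two_odd_split n
    have hpA : p ∈ D.A := by
      refine A_max h c.a1 c.out le_sup_right
        (sup_le (Subgroup.zpowers_le.mpr ((Subgroup.zpowers_le.mpr (mem_cent.mpr c.cu)) hp)) (A_le_cent c.a1))
        (IsPGroup.to_sup_of_normal_right' (two_elt_isPGroup hk) (D.sub_pGroup _)
          (Subgroup.zpowers_le.mpr ((Subgroup.zpowers_le.mpr c.mem.1) hp)))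
        (Subgroup.mem_sup_left (Subgroup.mem_zpowers p))
    obtain ⟨b', hb', e'⟩ := conj_W0 h ((Subgroup.zpowers_le.mpr c.mem.1) hy) (show W.IsW0 W.z by decide)
    have hyv : y * D.ι W.z * y⁻¹ = D.ι W.v := by
      rw [← e, hpy, show p * y * D.ι W.z * (p * y)⁻¹ = p * (y * D.ι W.z * y⁻¹) * p⁻¹ by group, e',
        D.A_comm hpA (D.mem_sub.mpr (W.W0_le b' hb').1), mul_inv_cancel_right]
    have hyv' : y * D.ι W.v * y⁻¹ = D.ι W.z := by
      have h2 := c.nv
      obtain ⟨b'', hb'', e''⟩ := conj_W0 h ((Subgroup.zpowers_le.mpr c.mem.1) hy) (show W.IsW0 W.v by decide)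
      rwa [hpy, show p * y * D.ι W.v * (p * y)⁻¹ = p * (y * D.ι W.v * y⁻¹) * p⁻¹ by group, e'',
        D.A_comm hpA (D.mem_sub.mpr (W.W0_le b'' hb'').1), mul_inv_cancel_right, ← e''] at h2
    have h3 : y * D.ι W.z = D.ι W.z * y := odd_comm_of_sq hyo (by
      rw [← mul_inv_eq_iff_eq_mul, show y * y * D.ι W.z * (y * y)⁻¹ = y * (y * D.ι W.z * y⁻¹) * y⁻¹ by group, hyv,
        hyv'])
    rw [mul_inv_eq_iff_eq_mul.mpr h3] at hyv
    exact W.v_ne_z (D.inj hyv).symm
  · rw [e1]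

theorem Cyc.nvz (h : D.Two) {u : W} {n : G} (c : D.Cyc u n) : n * D.ι (W.v * W.z) * n⁻¹ = D.ι W.v := by
  rw [map_mul, ← conj_mul, c.nv, c.nz h, ← map_mul]
  exact congrArg D.ι (by decide)

/-- Every element of `N(A1)` fixing `u` commutes with the plane of `u`. -/
theorem Cyc.plane (h : D.Two) {u : W} {n : G} (c : D.Cyc u n) {g : G} (hg : g ∈ Subgroup.normalizer (D.A : Set G))
    (hgu : g * D.ι u = D.ι u * g) {a : G} (ha : a ∈ D.A) (hna : n * a = a * n) : g * a = a * g := by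
  have hcase : ∀ g' : G, g' ∈ Subgroup.normalizer (D.A : Set G) → g' * D.ι u = D.ι u * g' →
      g' * D.ι W.z = D.ι W.z * g' → g' * a = a * g' :=
    fun g' h1 h2 h3 => cent_A h c.a1 c.out h1 h2 (fix_v h c.a1 c.out h1 h2 h3) a ha
  obtain ⟨b, hb, e⟩ := conj_W0 h hg (show W.IsW0 W.z by decide)
  have hback : ∀ m : G, m * a = a * m → m * g * a = a * (m * g) → g * a = a * g := fun m hm hmg => by
    have := (show Commute m a from hm).inv_left.mul_left (show Commute (m * g) a from hmg)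
    rwa [inv_mul_cancel_left] at this
  rcases W.W0_list b hb with e1 | e1 | e1 | e1 <;> subst e1
  · exact absurd (conj_eq_one_iff.mp (by rw [e, map_one])) (D.ne_one W.z_ne)
  · exact hcase g hg hgu (mul_inv_eq_iff_eq_mul.mp e)
  · refine hback n hna (hcase _ (mul_mem c.mem.1 hg) ((show Commute n _ from c.cu).mul_left
      (show Commute g _ from hgu)) ?_)
    rw [← mul_inv_eq_iff_eq_mul, show n * g * D.ι W.z * (n * g)⁻¹ = n * (g * D.ι W.z * g⁻¹) * n⁻¹ by group, e, c.nv]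
  · refine hback (n * n) ((show Commute n a from hna).mul_left (show Commute n a from hna))
      (hcase _ (mul_mem (mul_mem c.mem.1 c.mem.1) hg) (((show Commute n _ from c.cu).mul_left
      (show Commute n _ from c.cu)).mul_left (show Commute g _ from hgu)) ?_)
    rw [← mul_inv_eq_iff_eq_mul, show n * n * g * D.ι W.z * (n * n * g)⁻¹ =
      n * (n * (g * D.ι W.z * g⁻¹) * n⁻¹) * n⁻¹ by group, e, c.nvz h, c.nv]

end Emb

end CfsgJTwo
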