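import Cfsg.Agent.Lib.JTwoType.Points

/-!
The centraliser of a point is the product of its odd core and the normaliser of the strongly closed subgroup.

Blueprint: `blueprint/S1776.md`, part B, the first use of lemma A.
-/

set_option autoImplicit false
set_option linter.unusedSectionVars false

namespace CfsgJTwo

open Cfsg CfsgA8C

universe u v

/-- A 2-subgroup of odd relative index is maximal. -/
theorem syl_max {G : Type u} [Group G] [Finite G] {U P Y : Subgroup G} (hidx : ¬ 2 ∣ U.relIndex Y) (hUP : U ≤ P)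
    (hPY : P ≤ Y) (hP : IsPGroup 2 P) : P = U := by
  have := Fact.mk Nat.prime_two
  refine (Subgroup.relIndex_eq_one.mp ?_).antisymm hUP
  obtain ⟨n, hn⟩ := IsPGroup.iff_card.mp hP
  have h1 : U.relIndex P ∣ 2 ^ n := by
    rw [← hn]; exact Subgroup.index_dvd_card _
  obtain ⟨j, -, hj⟩ := (Nat.dvd_prime_pow Nat.prime_two).mp h1
  rcases Nat.eq_zero_or_pos j with rfl | hj0
  · simpa using hj
  · refine absurd ?_ hidx
    refine ((dvd_pow_self 2 hj0.ne').trans (dvd_of_eq hj.symm)).trans ?_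
    rw [← Subgroup.relIndex_mul_relIndex U P Y hUP hPY]
    exact Dvd.intro _ rfl

/-- An element of odd order in an image has a preimage of odd order. -/
theorem odd_lift {G : Type u} {H : Type v} [Group G] [Finite G] [Group H] (f : G →* H) (g : G)
    (ho : Odd (orderOf (f g))) : ∃ y : G, y ∈ Subgroup.zpowers g ∧ f y = f g ∧ Odd (orderOf y) := by
  obtain ⟨x, y, hx, hy, e, ⟨k, hk⟩, hyo⟩ := two_odd_split g
  refine ⟨y, hy, ?_, hyo⟩
  have h1 : orderOf (f x) ∣ 2 ^ k := orderOf_dvd_of_pow_eq_one (by rw [← map_pow, hk, map_one])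
  obtain ⟨i, rfl⟩ := Subgroup.mem_zpowers_iff.mp hx
  have h2 : orderOf (f (g ^ i)) ∣ orderOf (f g) := by
    rw [map_zpow]
    refine orderOf_dvd_of_pow_eq_one ?_
    rw [← zpow_natCast, ← zpow_mul, mul_comm, zpow_mul, zpow_natCast, pow_orderOf_eq_one, one_zpow]
  have h3 := Nat.dvd_gcd h1 h2
  rw [Nat.Coprime.pow_left k (Nat.coprime_two_left.mpr ho)] at h3
  have h4 : f g = f (g ^ i) * f y := by rw [← map_mul, ← e]
  rw [h4, orderOf_eq_one_iff.mp (Nat.dvd_one.mp h3), one_mul]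

/-- The order of an image of a subgroup containing the kernel. -/
theorem card_map_mul {G : Type u} {H : Type v} [Group G] [Finite G] [Group H] (f : G →* H) {S : Subgroup G}
    (hS : f.ker ≤ S) : Nat.card f.ker * Nat.card ↥(S.map f) = Nat.card S := by
  have h := Subgroup.card_mul_index (f.ker.subgroupOf S)
  rw [Nat.card_congr (Subgroup.subgroupOfEquivOfLe hS).toEquiv] at h
  have e : f.ker.subgroupOf S = (f.comp S.subtype).ker := rfl
  rwa [e, Subgroup.index_ker, MonoidHom.range_comp, Subgroup.range_subtype] at h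

theorem f4_fix : ∀ k a : F4, a ≠ 0 → k * a = a → k = 1 := by decide
theorem f4_cancel : ∀ k : F4, ∀ a : F4, a * k = a → a ≠ 0 → k = 1 := by decide
theorem f4_pow : ∀ k k₀ : F4, k ≠ 0 → k₀ ≠ 0 → k₀ ≠ 1 → k * 1 = 1 ∨ k * k₀ = 1 ∨ k * (k₀ * k₀) = 1 := by decide
theorem f4_eq : ∀ a b : F4, a + b = 0 → b = a := by decide
theorem f4_inv : ∀ k l : F4, k * l = 1 → k = 1 → l = 1 := by decide

/-- A 2-element with an odd power in a subgroup lies in it. -/
theorem two_mem_of_odd_pow {G : Type u} [Group G] {H : Subgroup G} {x : G} {j m : ℕ} (hx : x ^ 2 ^ j = 1)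
    (hm : Odd m) (h : x ^ m ∈ H) : x ∈ H := by
  have hc : Nat.Coprime (2 ^ j) m := Nat.Coprime.pow_left j (Nat.coprime_two_left.mpr hm)
  have hbez : ((2 ^ j : ℕ) : ℤ) * Nat.gcdA (2 ^ j) m + (m : ℤ) * Nat.gcdB (2 ^ j) m = 1 := by
    rw [← Nat.gcd_eq_gcd_ab, hc.gcd_eq_one, Nat.cast_one]
  have e : x = (x ^ m) ^ Nat.gcdB (2 ^ j) m := by
    rw [← zpow_natCast, ← zpow_mul]
    conv_lhs => rw [← zpow_one x, ← hbez, zpow_add, zpow_mul, zpow_natCast, hx, one_zpow, one_mul]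
  rw [e]
  exact zpow_mem h _

/-- An element of the odd core normalising a 2-subgroup centralises its elements in the group. -/
theorem comm_of_odd_two {G : Type u} [Group G] [Finite G] {X P : Subgroup G} {g q : G} (hP : IsPGroup 2 P)
    (hg : g ∈ Subgroup.normalizer (P : Set G)) (hq : q ∈ P) (hqX : q ∈ X) (hgc : g ∈ core X) : g * q = q * g := by
  have := Fact.mk Nat.prime_two
  obtain ⟨n, hn⟩ := IsPGroup.iff_card.mp hP
  have hc1 : g * (q * g⁻¹ * q⁻¹) ∈ P := by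
    rw [← mul_assoc, ← mul_assoc]
    exact mul_mem (norm_conj hg hq) (inv_mem hq)
  have hc2 : g * (q * g⁻¹ * q⁻¹) ∈ core X := mul_mem hgc (core_conj_mem hqX (inv_mem hgc))
  have h1 := Nat.dvd_gcd (hn ▸ Subgroup.orderOf_dvd_natCard _ hc1) (Subgroup.orderOf_dvd_natCard _ hc2)
  rw [Nat.Coprime.pow_left n (Nat.coprime_two_left.mpr (core_odd X))] at h1
  have h2 := orderOf_eq_one_iff.mp (Nat.dvd_one.mp h1)
  rw [mul_eq_one_iff_eq_inv] at h2
  calc g * q = (q * g⁻¹ * q⁻¹)⁻¹ * q := by rw [← h2]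
    _ = q * g := by group

namespace Ctx

variable {X : Type u} [Group X] [Finite X] (D : Ctx X)

/-- The centraliser of `v`. -/
def C0 : Subgroup X := Subgroup.centralizer ({D.ι W.v} : Set X)

theorem mem_C0 {x : X} : x ∈ D.C0 ↔ x * D.ι W.v = D.ι W.v * x := mem_cent

theorem Ts_le_C0 : D.sub W.Ts ≤ D.C0 := by
  rintro _ ⟨x, hx, rfl⟩
  exact D.mem_C0.mpr (D.comm_iff.mpr ((W.cent_v W.v x (Or.inl rfl)).mpr hx))

theorem inf_eq_Ts : (D.T : Subgroup X) ⊓ D.C0 = D.sub W.Ts := by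
  refine le_antisymm ?_ (le_inf (D.sub_le _) D.Ts_le_C0)
  rintro x ⟨hx, hxc⟩
  obtain ⟨y, rfl⟩ := D.exists_pre hx
  exact D.mem_sub.mpr ((W.cent_v W.v y (Or.inl rfl)).mp (D.comm_iff.mp (mem_cent.mp hxc)))

theorem Ts_index : ¬ 2 ∣ (D.sub W.Ts).relIndex D.C0 := by
  rw [← D.inf_eq_Ts]; exact D.ext_v

theorem Ts_max {P : Subgroup X} (h1 : D.sub W.Ts ≤ P) (h2 : P ≤ D.C0) (hP : IsPGroup 2 P) : P = D.sub W.Ts :=
  syl_max D.Ts_index h1 h2 hP

theorem two_mem_Ts {n : X} (hn : n ∈ D.C0) (hN : n ∈ Subgroup.normalizer (D.sub W.Ts : Set X)) {k : ℕ}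
    (h : n ^ 2 ^ k = 1) : n ∈ D.sub W.Ts := by
  have := Fact.mk Nat.prime_two
  have hR : IsPGroup 2 ↥(Subgroup.zpowers n ⊔ D.sub W.Ts) :=
    IsPGroup.to_sup_of_normal_right' (two_elt_isPGroup h) (D.sub_pGroup W.Ts) (Subgroup.zpowers_le.mpr hN)
  exact D.Ts_max le_sup_right (sup_le (Subgroup.zpowers_le.mpr hn) D.Ts_le_C0) hR ▸
    Subgroup.mem_sup_left (Subgroup.mem_zpowers n)

/-- The action on the unitriangular part modulo its centre. -/
def Act (n : X) (k l : F4) : Prop :=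
  ∀ w, W.IsT w → ∃ w', W.IsT w' ∧ n * D.ι w * n⁻¹ = D.ι w' ∧ w'.a = k * w.a ∧ w'.b = l * w.b

theorem Act.mul {n n' : X} {k l k' l' : F4} (h : D.Act n k l) (h' : D.Act n' k' l') :
    D.Act (n * n') (k * k') (l * l') := by
  intro w hw
  obtain ⟨w₁, h1, e1, ha1, hb1⟩ := h' w hw
  obtain ⟨w₂, h2, e2, ha2, hb2⟩ := h w₁ h1
  refine ⟨w₂, h2, ?_, by rw [ha2, ha1, mul_assoc], by rw [hb2, hb1, mul_assoc]⟩
  rw [← e2, ← e1]; group

theorem act_Ts {x : X} (hx : x ∈ D.sub W.Ts) : D.Act x 1 1 := by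
  obtain ⟨y, hy, rfl⟩ := hx
  intro w hw
  exact ⟨y * w * y⁻¹, W.T_mul _ _ (W.T_mul _ _ hy hw) (W.T_inv _ hy), D.conj_map y w,
    by rw [(W.T_act y w hy hw).1, one_mul], by rw [(W.T_act y w hy hw).2, one_mul]⟩

theorem act_one : D.Act 1 1 1 := D.act_Ts (one_mem _)

theorem fix_W0 {n : X} (hn : n ∈ D.C0) {w : W} (hw : W.IsW0 w) : n * D.ι w = D.ι w * n := by
  have hv := D.mem_C0.mp hn
  rcases W.W0_list w hw with rfl | rfl | rfl | rfl
  · simp
  · exact D.zc n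
  · exact hv
  · rw [map_mul]
    exact (show Commute n _ from hv).mul_right (show Commute n _ from D.zc n)

theorem act_odd {n : X} (hn : n ∈ D.C0) (ho : Odd (orderOf n))
    (hN : n ∈ Subgroup.normalizer (D.sub W.Ts : Set X)) : ∃ k l : F4, k * l = 1 ∧ D.Act n k l := by
  have hsq : ∀ (H : Subgroup W), (∀ a ∈ H, W.IsT a ∧ a * a = 1) → Nat.card ↥(D.sub H) = 16 →
      (D.sub H).map (MulAut.conj n).toMonoidHom = D.sub W.A1s ∨
        (D.sub H).map (MulAut.conj n).toMonoidHom = D.sub W.A2s := fun H hH hc =>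
    D.E16_cases (by
      rintro _ ⟨_, ⟨b, hb, rfl⟩, rfl⟩
      simp only [MulEquiv.coe_toMonoidHom, MulAut.conj_apply]
      exact D.sub_le _ (norm_conj hN (D.mem_sub.mpr (hH b hb).1))) (by
      rintro _ ⟨_, ⟨b, hb, rfl⟩, rfl⟩
      rw [← map_mul, ← map_mul, (hH b hb).2, map_one, map_one]) (by
      rw [Subgroup.card_map_of_injective (MulAut.conj n).injective, hc])
  have hne : D.sub W.A1s ≠ D.sub W.A2s := fun e => by
    have h : D.ι ⟨.e, 0, 0, false⟩ ∈ D.sub W.A2s := e ▸ D.mem_sub.mpr (show W.IsA1 _ from ⟨rfl, rfl⟩)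
    exact absurd (D.mem_sub.mp h).2 (by decide)
  set f := (MulAut.conj n).toMonoidHom with hf
  have hinj : Function.Injective (Subgroup.map f) := Subgroup.map_injective (MulAut.conj n).injective
  have hA : (D.sub W.A1s).map f = D.sub W.A1s ∧ (D.sub W.A2s).map f = D.sub W.A2s := by
    have h1 := hsq W.A1s (fun a ha => ⟨ha.1, W.A1_sq a ha⟩) D.card_A1s
    have h2 := hsq W.A2s (fun a ha => ⟨ha.1, W.A2_sq a ha⟩) D.card_A2s
    have hfix : ∀ B : Subgroup X, (B.map f).map f = B → B.map f = B := fun B hB => by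
      refine Subgroup.eq_of_le_of_card_ge ?_ (Subgroup.card_map_of_injective (MulAut.conj n).injective).ge
      rintro _ ⟨b, hb, rfl⟩
      have hnn : n * n ∈ Subgroup.normalizer (B : Set X) := mem_norm_of fun e he => by
        have : n * (n * e * n⁻¹) * n⁻¹ ∈ (B.map f).map f := ⟨_, ⟨e, he, rfl⟩, rfl⟩
        rw [hB] at this
        simpa [mul_assoc] using this
      exact norm_conj (Subgroup.zpowers_le.mpr hnn (mem_zpowers_sq ho)) hb
    rcases h1 with e1 | e1 <;> rcases h2 with e2 | e2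
    · exact absurd (hinj (e1.trans e2.symm)) hne
    · exact ⟨e1, e2⟩
    · exact ⟨hfix _ (by rw [e1, e2]), hfix _ (by rw [e2, e1])⟩
    · exact absurd (hinj (e1.trans e2.symm)) hne
  have hA1 : ∀ p, W.IsA1 p → ∃ p', W.IsA1 p' ∧ n * D.ι p * n⁻¹ = D.ι p' := fun p hp => by
    have h : n * D.ι p * n⁻¹ ∈ (D.sub W.A1s).map f := ⟨D.ι p, D.mem_sub.mpr hp, rfl⟩
    rw [hA.1] at h
    obtain ⟨p', hp', e⟩ := h
    exact ⟨p', hp', e.symm⟩
  have hA2 : ∀ p, W.IsA2 p → ∃ p', W.IsA2 p' ∧ n * D.ι p * n⁻¹ = D.ι p' := fun p hp => by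
    have h : n * D.ι p * n⁻¹ ∈ (D.sub W.A2s).map f := ⟨D.ι p, D.mem_sub.mpr hp, rfl⟩
    rw [hA.2] at h
    obtain ⟨p', hp', e⟩ := h
    exact ⟨p', hp', e.symm⟩
  have hval : ∀ p q p' q', W.IsA1 p → W.IsA2 q → W.IsA1 p' → W.IsA2 q' →
      n * D.ι p * n⁻¹ = D.ι p' → n * D.ι q * n⁻¹ = D.ι q' → p'.a * q'.b = p.a * q.b := by
    intro p q p' q' hp hq hp' hq' ep eq
    have h : D.ι (p' * q' * p'⁻¹ * q'⁻¹) = n * D.ι (p * q * p⁻¹ * q⁻¹) * n⁻¹ := by
      simp only [map_mul, map_inv, ← ep, ← eq]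
      group
    rw [W.comm_value p q hp hq, W.comm_value p' q' hp' hq', D.fix_W0 hn (by exact ⟨rfl, rfl, rfl⟩),
      mul_inv_cancel_right, D.eq_iff] at h
    exact congrArg W.c h
  set p₁ : W := ⟨.e, 0, 0, false⟩
  set q₁ : W := ⟨0, .e, 0, false⟩
  obtain ⟨p₁', hp₁', ep₁⟩ := hA1 p₁ ⟨rfl, rfl⟩
  obtain ⟨q₁', hq₁', eq₁⟩ := hA2 q₁ ⟨rfl, rfl⟩
  have hkl : p₁'.a * q₁'.b = 1 := hval p₁ q₁ p₁' q₁' ⟨rfl, rfl⟩ ⟨rfl, rfl⟩ hp₁' hq₁' ep₁ eq₁
  refine ⟨p₁'.a, q₁'.b, hkl, fun w hw => ?_⟩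
  obtain ⟨p, q, hp, hq, rfl⟩ := W.T_mem hw
  obtain ⟨p', hp', ep⟩ := hA1 p hp
  obtain ⟨q', hq', eq⟩ := hA2 q hq
  refine ⟨p' * q', W.T_mul _ _ hp'.1 hq'.1, by rw [map_mul, map_mul, ← conj_mul, ep, eq], ?_, ?_⟩
  · have h1 := hval p q₁ p' q₁' hp ⟨rfl, rfl⟩ hp' hq₁' ep eq₁
    rw [show q₁.b = 1 from rfl, mul_one] at h1
    rw [W.A1_mul_a _ _ hp', W.A1_mul_a _ _ hp, hq'.2, hq.2, add_zero, add_zero]
    calc p'.a = p'.a * (p₁'.a * q₁'.b) := by rw [hkl, mul_one]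
      _ = p₁'.a * (p'.a * q₁'.b) := by ring
      _ = p₁'.a * p.a := by rw [h1]
  · have h1 := hval p₁ q p₁' q' ⟨rfl, rfl⟩ hq hp₁' hq' ep₁ eq
    rw [show p₁.a = 1 from rfl, one_mul] at h1
    have hb : ∀ x y : W, W.IsA1 x → (x * y).b = y.b := fun x y hx => by
      rw [W.mul_def]
      show x.b + W.phB x.s y = y.b
      rw [hx.2, hx.1, zero_add]
      rfl
    rw [hb _ _ hp', hb _ _ hp]
    calc q'.b = q'.b * (p₁'.a * q₁'.b) := by rw [hkl, mul_one]
      _ = q₁'.b * (p₁'.a * q'.b) := by ring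
      _ = q₁'.b * q.b := by rw [h1]

theorem act_trivial {n : X} (hn : n ∈ D.C0) (ho : Odd (orderOf n)) (h : D.Act n 1 1) :
    ∀ x ∈ D.sub W.Ts, n * x = x * n := by
  rintro _ ⟨w, hw, rfl⟩
  obtain ⟨w', hw', e, ha, hb⟩ := h w hw
  set c := w⁻¹ * w' with hc
  have hc0 : W.IsW0 c := by
    refine ⟨W.T_mul _ _ (W.T_inv _ hw) hw', ?_, ?_⟩ <;>
      rw [hc, W.mul_def, W.inv_def, show w.s = false from hw]
    · show w.a + w'.a = 0
      rw [ha, one_mul, F4.add_self]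
    · show w.b + w'.b = 0
      rw [hb, one_mul, F4.add_self]
  have hfix := D.fix_W0 hn hc0
  have e' : n * D.ι w * n⁻¹ = D.ι w * D.ι c := by rw [e, ← map_mul, hc, mul_inv_cancel_left]
  have hiter : ∀ m : ℕ, n ^ m * D.ι w * (n ^ m)⁻¹ = D.ι w * D.ι c ^ m := by
    intro m
    induction m with
    | zero => simp
    | succ m ih =>
      have hcm : n * D.ι c ^ m * n⁻¹ = D.ι c ^ m := by
        rw [(show Commute n (D.ι c) from hfix).pow_right m, mul_inv_cancel_right]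
      rw [pow_succ' n, show n * n ^ m * D.ι w * (n * n ^ m)⁻¹ = n * (n ^ m * D.ι w * (n ^ m)⁻¹) * n⁻¹ by
        simp only [mul_inv_rev, mul_assoc], ih, ← conj_mul, e', hcm, mul_assoc, ← pow_succ']
  have h2 := hiter (orderOf n)
  rw [pow_orderOf_eq_one, invol_pow (show D.ι c * D.ι c = 1 by
    rw [← map_mul, W.A1_sq c (W.W0_le c hc0).1, map_one]) _ ho, one_mul, inv_one, mul_one] at h2
  rw [← mul_inv_eq_iff_eq_mul, e', ← h2]

theorem W0_le_C0 : D.sub W.W0s ≤ D.C0 :=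
  (Subgroup.map_mono fun x (hx : x ∈ W.W0s) => (W.W0_le x hx).2.2).trans D.Ts_le_C0

theorem W0_normal : ((D.sub W.W0s).subgroupOf D.C0).Normal := ⟨fun x hx g => by
  rw [Subgroup.mem_subgroupOf] at hx ⊢
  obtain ⟨w, hw, e⟩ := hx
  push_cast
  rw [← e, D.fix_W0 g.2 hw, mul_inv_cancel_right]
  exact D.mem_sub.mpr hw⟩

/-- The centraliser of `v` is factorised over the normaliser of the unitriangular part. -/
theorem ctl_C0 : Ctl D.C0 (Subgroup.normalizer (D.sub W.Ts : Set X)) := by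
  classical
  have := Fact.mk Nat.prime_two
  have := D.W0_normal
  set K₀ := (D.sub W.W0s).subgroupOf D.C0 with hK₀
  set U' := (D.sub W.Ts).subgroupOf D.C0 with hU'
  refine ctl_of_top D.Ts_le_C0 ?_
  set f := QuotientGroup.mk' K₀ with hf
  have hker : f.ker = K₀ := QuotientGroup.ker_mk' K₀
  have hW0T : D.sub W.W0s ≤ D.sub W.Ts := Subgroup.map_mono fun x (hx : x ∈ W.W0s) => (W.W0_le x hx).2.2
  have hKU : f.ker ≤ U' := by rw [hker]; exact fun x hx => hW0T hx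
  have hU'p : IsPGroup 2 U' := (D.sub_pGroup W.Ts).of_equiv (Subgroup.subgroupOfEquivOfLe D.Ts_le_C0).symm
  refine ctl_pull f (QuotientGroup.mk'_surjective K₀) (hU'p.to_le hKU) ?_ hKU ?_
  · intro k hk x
    rw [hker] at hk
    obtain ⟨w, hw, e⟩ := hk
    refine Subtype.ext ?_
    show (k : X) * x = x * k
    rw [show (k : X) = D.ι w from e.symm]
    exact (D.fix_W0 x.2 hw).symm
  set TY : Sylow 2 (↥D.C0 ⧸ K₀) := (hU'p.toSylow D.Ts_index).mapSurjective (QuotientGroup.mk'_surjective K₀)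
  set E := U'.map f with hE
  have hTY : (TY : Subgroup (↥D.C0 ⧸ K₀)) = E := rfl
  have hEeq : ∀ x : D.C0, f x ∈ E ↔ (x : X) ∈ D.sub W.Ts := fun x => by
    refine ⟨?_, fun h => ⟨x, h, rfl⟩⟩
    rintro ⟨y, hy, e⟩
    have h1 : y⁻¹ * x ∈ f.ker := by rw [f.mem_ker, map_mul, map_inv, e, inv_mul_cancel]
    have h2 := mul_mem hy (hKU h1)
    rwa [mul_inv_cancel_left] at h2
  have hsq : ∀ e ∈ E, e * e = 1 := by
    rintro _ ⟨x, ⟨w, hw, e⟩, rfl⟩
    rw [← map_mul, ← f.mem_ker, hker, hK₀, Subgroup.mem_subgroupOf]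
    push_cast
    rw [show (x : X) = D.ι w from e.symm, ← map_mul]
    exact D.mem_sub.mpr (W.T_sq w hw)
  have hsc : IsStronglyClosed E (TY : Subgroup (↥D.C0 ⧸ K₀)) := ⟨le_rfl, fun x _ g h => h⟩
  -- odd normalising elements act through the pair of scalars
  have hlift : ∀ n ∈ Subgroup.normalizer (E : Set (↥D.C0 ⧸ K₀)), Odd (orderOf n) →
      ∃ g : D.C0, f g = n ∧ ∃ k l : F4, k * l = 1 ∧ D.Act g k l ∧ Odd (orderOf (g : X)) := by
    intro n hn hno
    obtain ⟨g, rfl⟩ := QuotientGroup.mk'_surjective K₀ n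
    obtain ⟨y, -, hye, hyo⟩ := odd_lift f g hno
    refine ⟨y, hye, ?_⟩
    have hy' : Odd (orderOf (y : X)) := by rwa [Subgroup.orderOf_coe]
    have hyN : (y : X) ∈ Subgroup.normalizer (D.sub W.Ts : Set X) := mem_norm_of fun e he => by
      have h1 : f (y * ⟨e, D.Ts_le_C0 he⟩ * y⁻¹) ∈ E := by
        rw [map_mul, map_mul, map_inv, hye]
        exact norm_conj hn ((hEeq _).mpr he)
      exact (hEeq _).mp h1
    obtain ⟨k, l, hkl, hact⟩ := D.act_odd y.2 hy' hyN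
    exact ⟨k, l, hkl, hact, hy'⟩
  have htwo : ∀ n ∈ Subgroup.normalizer (E : Set (↥D.C0 ⧸ K₀)), (∃ k, n ^ 2 ^ k = 1) → n ∈ E := by
    rintro n hn ⟨k, hk⟩
    have hR : IsPGroup 2 ↥(Subgroup.zpowers n ⊔ E) :=
      IsPGroup.to_sup_of_normal_right' (two_elt_isPGroup hk) TY.2 (Subgroup.zpowers_le.mpr hn)
    have h := TY.is_maximal' hR (le_sup_right : E ≤ _)
    exact (h ▸ Subgroup.mem_sup_left (Subgroup.mem_zpowers n) : n ∈ (TY : Subgroup (↥D.C0 ⧸ K₀)))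
  have he : ∀ e ∈ E, e ≠ 1 →
      Ctl (Subgroup.centralizer ({e} : Set (↥D.C0 ⧸ K₀))) (Subgroup.normalizer (E : Set (↥D.C0 ⧸ K₀))) := by
    intro e hee he1
    have hAC : E ≤ Subgroup.centralizer ({e} : Set (↥D.C0 ⧸ K₀)) := fun a ha =>
      mem_cent.mpr (ea_comm_of_sq hsq ha hee)
    have h := burnside2 hAC hsq (fun P h1 _ h3 => (TY.is_maximal' h3 h1).le) (fun n hn hnE a ha => by
      have hnN : n ∈ Subgroup.normalizer (E : Set (↥D.C0 ⧸ K₀)) := mem_norm_of hnE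
      obtain ⟨x, y, hx, hy, rfl, hx2, hyo⟩ := two_odd_split n
      set NN := Subgroup.centralizer ({e} : Set (↥D.C0 ⧸ K₀)) ⊓ Subgroup.normalizer (E : Set (↥D.C0 ⧸ K₀))
      have hxyN : x * y ∈ NN := Subgroup.mem_inf.mpr ⟨hn, hnN⟩
      have hxE : x ∈ E := htwo x (Subgroup.mem_inf.mp (Subgroup.zpowers_le.mpr hxyN hx)).2 hx2
      obtain ⟨hye, hyN⟩ := Subgroup.mem_inf.mp (Subgroup.zpowers_le.mpr hxyN hy)
      obtain ⟨g, rfl, k, l, hkl, hact, hgo⟩ := hlift y hyN hyo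
      obtain ⟨ge, ⟨w, hw, hwe⟩, rfl⟩ := hee
      obtain ⟨w', hw', e1, ha', hb'⟩ := hact w hw
      -- `g` fixes `w` modulo the centre
      have h0 : W.IsW0 (w⁻¹ * w') := by
        have h1 : ge⁻¹ * (g * ge * g⁻¹) ∈ f.ker := by
          rw [f.mem_ker, map_mul, map_mul, map_mul, map_inv, map_inv, mem_cent.mp hye, mul_inv_cancel_right,
            inv_mul_cancel]
        rw [hker, hK₀, Subgroup.mem_subgroupOf] at h1
        push_cast at h1
        rw [show (ge : X) = D.ι w from hwe.symm, e1, ← map_inv, ← map_mul] at h1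
        exact D.mem_sub.mp h1
      have hab : w.a + k * w.a = 0 ∧ w.b + l * w.b = 0 := by
        obtain ⟨-, h2, h3⟩ := h0
        rw [W.mul_def, W.inv_def, show w.s = false from hw] at h2 h3
        exact ⟨ha' ▸ h2, hb' ▸ h3⟩
      have hk : k = 1 := by
        by_cases hwa : w.a = 0
        · by_cases hwb : w.b = 0
          · refine absurd (f.mem_ker.mp ?_) he1
            rw [hker, hK₀, Subgroup.mem_subgroupOf, show (ge : X) = D.ι w from hwe.symm]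
            exact D.mem_sub.mpr ⟨hw, hwa, hwb⟩
          · have hl : l = 1 := f4_fix l w.b hwb (f4_eq _ _ hab.2)
            rwa [hl, mul_one] at hkl
        · exact f4_fix k w.a hwa (f4_eq _ _ hab.1)
      subst hk
      have hl : l = 1 := by rwa [one_mul] at hkl
      subst hl
      have hcy : ∀ a ∈ E, f g * a = a * f g := by
        rintro _ ⟨b, hb, rfl⟩
        rw [← map_mul, ← map_mul]
        exact congrArg f (Subtype.ext (D.act_trivial g.2 hgo hact (b : X) hb))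
      rw [mul_inv_eq_iff_eq_mul]
      exact (show Commute x a from ea_comm_of_sq hsq hxE ha).mul_left (show Commute (f g) a from hcy a ha))
    intro g hg
    obtain ⟨n, hn, o, ho, rfl⟩ := h g hg
    exact ⟨n, Subgroup.le_normalizer hn, o, ho, rfl⟩
  set e₁ : D.C0 := ⟨D.ι ⟨.e, 0, 0, false⟩, D.Ts_le_C0 (D.mem_sub.mpr rfl)⟩
  set e₂ : D.C0 := ⟨D.ι ⟨0, .e, 0, false⟩, D.Ts_le_C0 (D.mem_sub.mpr rfl)⟩
  have hcard : 8 ≤ Nat.card E := by
    have h := card_map_mul f hKU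
    rw [Nat.card_congr (Subgroup.subgroupOfEquivOfLe D.Ts_le_C0).toEquiv, D.card_Ts, hker,
      Nat.card_congr (Subgroup.subgroupOfEquivOfLe D.W0_le_C0).toEquiv] at h
    have h4 : Nat.card ↥(D.sub W.W0s) = 4 := by
      haveI : DecidablePred (· ∈ W.W0s) := fun x => inferInstanceAs (Decidable (W.IsW0 x))
      rw [D.card_sub]
      convert W.card_W0 using 3
      exact Iff.rfl
    rw [h4] at h
    rw [hE]
    omega
  refine lemmaA hsc hsq (fun t ht _ => ht) he hcard (fun a ha haE _ => absurd ha haE) ⟨f e₁, f e₂, ?_⟩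
  have hm : ∀ e : D.C0, (e : X) ∈ D.sub W.Ts → (e : X) ∉ D.sub W.W0s → f e * f e = 1 ∧ f e ≠ 1 := fun e h1 h2 =>
    ⟨hsq _ ⟨e, h1, rfl⟩, fun h => h2 (by rw [← f.mem_ker, hker] at h; exact h)⟩
  have hne1 : (e₁ : X) ∉ D.sub W.W0s := fun h => absurd (D.mem_sub.mp h).2.1 (by decide)
  have hne2 : (e₂ : X) ∉ D.sub W.W0s := fun h => absurd (D.mem_sub.mp h).2.2 (by decide)
  have he₁ : f e₁ ∈ E := (hEeq _).mpr (D.mem_sub.mpr rfl)
  have he₂ : f e₂ ∈ E := (hEeq _).mpr (D.mem_sub.mpr rfl)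
  refine ⟨(hm e₁ (D.mem_sub.mpr rfl) hne1).1, (hm e₁ (D.mem_sub.mpr rfl) hne1).2,
    (hm e₂ (D.mem_sub.mpr rfl) hne2).1, (hm e₂ (D.mem_sub.mpr rfl) hne2).2, fun hconj => ?_⟩
  obtain ⟨c, hc⟩ := isConj_iff.mp hconj
  obtain ⟨n, hn, hne⟩ := conj_norm hsc (fun a ha b hb => ea_comm_of_sq hsq ha hb) he₁ (hc ▸ he₂)
  rw [hc] at hne
  obtain ⟨x, y, hx, hy, rfl, hx2, hyo⟩ := two_odd_split n
  have hxE : x ∈ E := htwo x (Subgroup.zpowers_le.mpr hn hx) hx2
  have hyN := Subgroup.zpowers_le.mpr hn hy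
  rw [show x * y * f e₁ * (x * y)⁻¹ = x * (y * f e₁ * y⁻¹) * x⁻¹ by group,
    ea_comm_of_sq hsq hxE (norm_conj hyN he₁), mul_inv_cancel_right] at hne
  obtain ⟨g, rfl, k, l, hkl, hact, -⟩ := hlift y hyN hyo
  obtain ⟨w', hw', e1, ha', hb'⟩ := hact ⟨.e, 0, 0, false⟩ rfl
  have h1 : (g * e₁ * g⁻¹)⁻¹ * e₂ ∈ f.ker := by
    rw [f.mem_ker, map_mul, map_inv, map_mul, map_mul, map_inv, hne, inv_mul_cancel]
  rw [hker, hK₀, Subgroup.mem_subgroupOf] at h1
  push_cast at h1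
  rw [e1, ← map_inv, ← map_mul] at h1
  obtain ⟨-, -, h3⟩ := D.mem_sub.mp h1
  rw [W.mul_def, W.inv_def, show w'.s = false from hw'] at h3
  simp only [if_false, Bool.false_eq_true, hb', mul_zero] at h3
  exact absurd (show (0 : F4) + F4.e = 0 from h3) (by decide)

/-- The centraliser of `v` is factorised over the normaliser of `Qs`. -/
theorem ctl_C0_Qs : Ctl D.C0 (Subgroup.normalizer (D.sub W.Qs : Set X)) := by
  have := Fact.mk Nat.prime_two
  set M := (Subgroup.normalizer (D.sub W.Qs : Set X) ⊓ D.C0) ⊔ core D.C0 with hM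
  suffices h : D.C0 ≤ M from ctl_of_sup h
  have hTM : D.sub W.Ts ≤ M := fun x hx => Subgroup.mem_sup_left
    (Subgroup.mem_inf.mpr ⟨sylow_le_norm D.Q_closed (D.sub_le _ hx), D.Ts_le_C0 hx⟩)
  have hcore : core D.C0 ≤ M := le_sup_right
  have hvT : D.ι W.v ∈ D.sub W.Ts := D.mem_sub.mpr W.v_T
  have hCU : Subgroup.centralizer (D.sub W.Ts : Set X) ≤ D.C0 := fun x hx =>
    D.mem_C0.mpr (Subgroup.mem_centralizer_iff.mp hx _ hvT).symm
  have hCUcore := core_cent_le hCU D.ctl_C0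
  have hW0T : D.sub W.W0s ≤ D.sub W.Ts := Subgroup.map_mono fun x (hx : x ∈ W.W0s) => (W.W0_le x hx).2.2
  have hW0sq : ∀ a ∈ D.sub W.W0s, a * a = 1 := by
    rintro _ ⟨w, hw, rfl⟩
    rw [← map_mul, W.A1_sq w (W.W0_le w hw).1, map_one]
  have hsplit : Ctl (Subgroup.centralizer (D.sub W.Ts : Set X)) (D.sub W.W0s) := by
    refine burnside2 ?_ hW0sq ?_ ?_
    · rintro _ ⟨w, hw, rfl⟩
      refine Subgroup.mem_centralizer_iff.mpr ?_
      rintro _ ⟨y, hy, rfl⟩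
      exact (D.comm_iff.mpr (W.W0_comm_T w y hw hy)).symm
    · intro P _ hPC hP
      have hR : IsPGroup 2 ↥(P ⊔ D.sub W.Ts) := IsPGroup.to_sup_of_normal_right' hP (D.sub_pGroup W.Ts)
        (hPC.trans (Subgroup.centralizer_le_normalizer _))
      have h := D.Ts_max le_sup_right (sup_le (hPC.trans hCU) D.Ts_le_C0) hR
      intro p hp
      obtain ⟨w, hw, rfl⟩ : p ∈ D.sub W.Ts := h ▸ Subgroup.mem_sup_left hp
      refine D.mem_sub.mpr (W.T_centre w hw fun y hy => ?_)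
      exact (D.comm_iff.mp (Subgroup.mem_centralizer_iff.mp (hPC hp) _ (D.mem_sub.mpr hy))).symm
    · intro n hn _ a ha
      rw [← Subgroup.mem_centralizer_iff.mp hn a (hW0T ha), mul_inv_cancel_right]
  have htriv : ∀ n ∈ D.C0, Odd (orderOf n) → D.Act n 1 1 → n ∈ core D.C0 := by
    intro n hn ho hact
    obtain ⟨w, hw, o, hoc, rfl⟩ := hsplit n (Subgroup.mem_centralizer_iff.mpr fun x hx =>
      (D.act_trivial hn ho hact x hx).symm)
    have hw1 : w = 1 := eq_one_of_odd_mul (hW0sq w hw) (Subgroup.mem_centralizer_iff.mpr fun x hx => by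
      obtain ⟨y, hy, rfl⟩ := hx
      obtain ⟨t, ht, rfl⟩ := hw
      exact (D.comm_iff.mpr (W.W0_comm_T t y ht hy)).symm) hoc ho
    rw [hw1, one_mul]
    exact hCUcore hoc
  -- decompose elements of the normaliser
  have hdec : ∀ n ∈ D.C0, n ∈ Subgroup.normalizer (D.sub W.Ts : Set X) → ∃ x y, x ∈ D.sub W.Ts ∧ n = x * y ∧
      y ∈ D.C0 ∧ Odd (orderOf y) ∧ y ∈ Subgroup.normalizer (D.sub W.Ts : Set X) := by
    intro n hn hnN
    obtain ⟨x, y, hx, hy, e, ⟨j, hj⟩, hyo⟩ := two_odd_split n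
    have hxC := Subgroup.zpowers_le.mpr hn hx
    have hyC := Subgroup.zpowers_le.mpr hn hy
    exact ⟨x, y, D.two_mem_Ts hxC (Subgroup.zpowers_le.mpr hnN hx) hj, e, hyC, hyo,
      Subgroup.zpowers_le.mpr hnN hy⟩
  -- the element of order three
  obtain ⟨g, hgo, hgv, hgN, q, hqQ, hqT, hgq⟩ := D.exists_three
  have hgC : g ∈ D.C0 := D.mem_C0.mpr hgv
  have hgQ : g ∈ Subgroup.normalizer (D.sub W.Qs : Set X) := D.norm_lift hgN
  obtain ⟨n, hn, o, ho, rfl⟩ := D.ctl_C0 g hgC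
  have hnC : n ∈ D.C0 := ctl_mem (N := Subgroup.normalizer (D.sub W.Ts : Set X)) hgC ho rfl
  obtain ⟨x₀, y₀, hx₀, rfl, hy₀C, hy₀o, hy₀N⟩ := hdec n hnC hn
  obtain ⟨k₀, l₀, hkl₀, hact₀⟩ := D.act_odd hy₀C hy₀o hy₀N
  have hy₀M : y₀ ∈ M := by
    have : y₀ = x₀⁻¹ * (x₀ * y₀ * o) * o⁻¹ := by group
    rw [this]
    exact mul_mem (mul_mem (inv_mem (hTM hx₀)) (Subgroup.mem_sup_left (Subgroup.mem_inf.mpr ⟨hgQ, hgC⟩)))
      (inv_mem (hcore ho))
  have hk₀ : k₀ ≠ 1 := by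
    rintro rfl
    obtain rfl : l₀ = 1 := by rwa [one_mul] at hkl₀
    have hyo : y₀ * o ∈ core D.C0 := mul_mem (htriv y₀ hy₀C hy₀o hact₀) ho
    obtain ⟨w, hw, rfl⟩ := hx₀
    have hwc : D.ι w ∈ core D.C0 := by
      set m := orderOf (D.ι w * (y₀ * o))
      have hodd : Odd m := by
        show Odd (orderOf (D.ι w * (y₀ * o)))
        rwa [← mul_assoc]
      have h := mul_pow_mem (D.Ts_le_C0 (D.mem_sub.mpr hw)) hyo m
      rw [pow_orderOf_eq_one, mul_one, inv_mem_iff] at h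
      obtain ⟨j, hj⟩ := D.sub_pGroup W.Ts ⟨D.ι w, D.mem_sub.mpr hw⟩
      exact two_mem_of_odd_pow (congrArg Subtype.val hj) hodd h
    refine hgq (comm_of_odd_two ?_ hgQ (D.mem_sub.mpr hqQ) (D.Ts_le_C0 (D.mem_sub.mpr hqT)) ?_)
    · exact D.sub_pGroup W.Qs
    · rw [mul_assoc]
      exact mul_mem hwc hyo
  intro c hc
  obtain ⟨n, hn, o', ho', rfl⟩ := D.ctl_C0 c hc
  refine mul_mem ?_ (hcore ho')
  have hnC' : n ∈ D.C0 := ctl_mem (N := Subgroup.normalizer (D.sub W.Ts : Set X)) hc ho' rfl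
  obtain ⟨x, y, hx, rfl, hyC, hyo, hyN⟩ := hdec n hnC' hn
  refine mul_mem (hTM hx) ?_
  obtain ⟨k, l, hkl, hact⟩ := D.act_odd hyC hyo hyN
  have hk : k ≠ 0 := fun e => by rw [e, zero_mul] at hkl; exact absurd hkl (by decide)
  have hk0 : k₀ ≠ 0 := fun e => by rw [e, zero_mul] at hkl₀; exact absurd hkl₀ (by decide)
  obtain ⟨p, hpM, hpC, hpN, k', l', hkl', hactp, hkk⟩ : ∃ p, p ∈ M ∧ p ∈ D.C0 ∧
      p ∈ Subgroup.normalizer (D.sub W.Ts : Set X) ∧ ∃ k' l', k' * l' = 1 ∧ D.Act p k' l' ∧ k * k' = 1 := by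
    rcases f4_pow k k₀ hk hk0 hk₀ with h | h | h
    · exact ⟨1, one_mem _, one_mem _, one_mem _, 1, 1, one_mul _, D.act_one, h⟩
    · exact ⟨y₀, hy₀M, hy₀C, hy₀N, k₀, l₀, hkl₀, hact₀, h⟩
    · exact ⟨y₀ * y₀, mul_mem hy₀M hy₀M, mul_mem hy₀C hy₀C, mul_mem hy₀N hy₀N, _, _,
        by rw [mul_mul_mul_comm, hkl₀, one_mul], Act.mul D hact₀ hact₀, h⟩
  have hll : l * l' = 1 := by
    have : (k * k') * (l * l') = 1 := by rw [mul_mul_mul_comm, hkl, hkl', one_mul]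
    rwa [hkk, one_mul] at this
  have hprod : D.Act (y * p) 1 1 := by
    have := Act.mul D hact hactp
    rwa [hkk, hll] at this
  obtain ⟨x', y', hx', e', hy'C, hy'o, -⟩ := hdec (y * p) (mul_mem hyC hpC) (mul_mem hyN hpN)
  have hy'act : D.Act y' 1 1 := by
    have h1 := Act.mul D (D.act_Ts (inv_mem hx')) hprod
    rw [e', inv_mul_cancel_left, one_mul] at h1
    exact h1
  have hy : y = x' * y' * p⁻¹ := by rw [← e', mul_inv_cancel_right]
  rw [hy]
  exact mul_mem (mul_mem (hTM hx') (hcore (htriv y' hy'C hy'o hy'act))) (inv_mem hpM)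

/-- The preimage of the centraliser of the image of an element. -/
def preC (w : W) : Subgroup X := (Subgroup.centralizer ({D.π (D.ι w)} : Set (X ⧸ D.K))).comap D.π

theorem preC_normal (w : W) : ∀ x ∈ D.preC w, ∀ y ∈ Subgroup.centralizer ({D.ι w} : Set X),
    x * y * x⁻¹ ∈ Subgroup.centralizer ({D.ι w} : Set X) := by
  intro x hx y hy
  have h1 := (cent_conj (g := x) y).mp hy
  have hc : x * D.ι w * x⁻¹ = D.ι w ∨ x * D.ι w * x⁻¹ = D.ι w * D.ι W.z := by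
    refine D.π_eq.mp ?_
    rw [map_mul, map_mul, map_inv, mem_cent.mp hx, mul_inv_cancel_right]
  rcases hc with e | e <;> rw [e] at h1
  · exact h1
  · refine mem_cent.mpr ?_
    have h2 := mem_cent.mp h1
    rw [← mul_assoc, mul_assoc (D.ι w), ← D.zc (x * y * x⁻¹), ← mul_assoc] at h2
    exact mul_right_cancel h2

theorem cent_le_preC (w : W) : Subgroup.centralizer ({D.ι w} : Set X) ≤ D.preC w := fun x hx =>
  mem_cent.mpr (by rw [← map_mul, ← map_mul, mem_cent.mp hx])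

/-- The centraliser of the first point is factorised over the normaliser of `Eb`. -/
theorem ctl_P0 : Ctl (Subgroup.centralizer ({D.P 0} : Set (X ⧸ D.K))) D.N := by
  obtain ⟨g, -, -, -⟩ := D.exists_three
  have h0 : D.P 0 = D.π (D.ι W.v) := rfl
  -- elements of the preimage conjugate the extraspecial subgroup inside the centraliser up to the core
  have hQ1 : D.sub W.Qs ≤ D.preC W.v := by
    rintro _ ⟨q, hq, rfl⟩
    refine mem_cent.mpr ?_
    exact ea_comm_of_sq D.Eb_sq (D.mem_Eb.mpr hq) (D.mem_Eb.mpr W.v_Q)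
  have h : Ctl (D.preC W.v) (Subgroup.normalizer (D.sub W.Qs : Set X)) := by
    refine ctl_of_sup fun x hx => ?_
    -- move `x` into the centraliser of `v` by `σ`
    obtain ⟨c, hc, hcv⟩ : ∃ c ∈ Subgroup.normalizer (D.sub W.Qs : Set X) ⊓ D.preC W.v,
        c * x ∈ D.C0 := by
      have hxv : x * D.ι W.v * x⁻¹ = D.ι W.v ∨ x * D.ι W.v * x⁻¹ = D.ι W.v * D.ι W.z := by
        refine D.π_eq.mp ?_
        rw [map_mul, map_mul, map_inv, mem_cent.mp hx, mul_inv_cancel_right]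
      rcases hxv with e | e
      · exact ⟨1, one_mem _, by rw [one_mul, D.mem_C0, ← mul_inv_eq_iff_eq_mul, e]⟩
      · refine ⟨D.ι W.σ, Subgroup.mem_inf.mpr ⟨sylow_le_norm D.Q_closed (D.mem_T _),
          hQ1 (D.mem_sub.mpr W.σ_Q)⟩, ?_⟩
        rw [D.mem_C0, ← mul_inv_eq_iff_eq_mul, show D.ι W.σ * x * D.ι W.v * (D.ι W.σ * x)⁻¹ =
          D.ι W.σ * (x * D.ι W.v * x⁻¹) * (D.ι W.σ)⁻¹ by group, e, ← map_mul, D.conj_map]
        exact congrArg D.ι (by decide)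
    obtain ⟨n, hn, o, ho, e⟩ := D.ctl_C0_Qs (c * x) hcv
    have hnC : n ∈ D.C0 := ctl_mem (N := Subgroup.normalizer (D.sub W.Qs : Set X)) hcv ho e
    have hx' : x = c⁻¹ * n * o := by rw [mul_assoc, ← e, inv_mul_cancel_left]
    rw [hx']
    exact mul_mem (Subgroup.mem_sup_left (mul_mem (inv_mem hc) (Subgroup.mem_inf.mpr ⟨hn, D.cent_le_preC _ hnC⟩)))
      (Subgroup.mem_sup_right (core_mono_of_normal (D.cent_le_preC _) (D.preC_normal W.v) ho))
  have h2 := ctl_map D.π h (N' := D.N) (by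
    rintro _ ⟨n, hn, rfl⟩
    refine mem_norm_of ?_
    rintro _ ⟨y, hy, rfl⟩
    exact ⟨n * y * n⁻¹, norm_conj hn hy, by simp⟩)
  rwa [preC, Subgroup.map_comap_eq_self_of_surjective D.π_surj, ← h0] at h2

end Ctx

end CfsgJTwo
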