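import Cfsg.Agent.Lib.JTwoType.Tools
import Cfsg.Agent.Lib.CIT.Structure
import Cfsg.Agent.Lib.Signalizer.Coprime
import Cfsg.Agent.S0205
import Cfsg.Agent.S0217

/-!
An elementary abelian strongly closed subgroup of rank at least three with factorised centralisers is normal modulo
the odd core, when there are two classes of involutions.

Blueprint: `blueprint/S1776.md`, lemma A.
-/

set_option autoImplicit false
set_option linter.unusedSectionVars false

namespace CfsgJTwo

open Cfsg CfsgA8C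

universe u

variable {G : Type u} [Group G] [Finite G] {T : Sylow 2 G} {E : Subgroup G}

theorem ea_comm_of_sq (hE : ∀ e ∈ E, e * e = 1) {a b : G} (ha : a ∈ E) (hb : b ∈ E) : a * b = b * a := by
  have h := invol_inv (hE _ (mul_mem ha hb))
  rwa [mul_inv_rev, invol_inv (hE b hb), invol_inv (hE a ha), eq_comm] at h

theorem ea_of_sq (hE : ∀ e ∈ E, e * e = 1) : Cfsg.IsElementaryAbelian 2 E :=
  ⟨⟨⟨fun x y => Subtype.ext (ea_comm_of_sq hE x.2 y.2)⟩⟩, fun e he => by rw [pow_two, hE e he]⟩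

/-- The centraliser of the closed subgroup splits over its odd core. -/
theorem cent_split (hsc : IsStronglyClosed E (T : Subgroup G)) (hE : ∀ e ∈ E, e * e = 1)
    (hCT : ∀ t ∈ (T : Subgroup G), (∀ e ∈ E, t * e = e * t) → t ∈ E) :
    Ctl (Subgroup.centralizer (E : Set G)) E := by
  have hEC : E ≤ Subgroup.centralizer (E : Set G) := fun a ha =>
    Subgroup.mem_centralizer_iff.mpr fun b hb => ea_comm_of_sq hE hb ha
  refine burnside2 hEC hE ?_ ?_
  · intro P hEP hPC hP
    obtain ⟨g, hg⟩ := into_top T hP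
    have hgE : g ∈ Subgroup.normalizer (E : Set G) := sc_conj hsc fun e he => hg e (hEP he)
    intro p hp
    have h1 : g * p * g⁻¹ ∈ E := by
      refine hCT _ (hg p hp) fun e he => ?_
      have he' : g⁻¹ * e * g ∈ E := by
        have := norm_conj (inv_mem hgE) he
        simpa using this
      have hc := Subgroup.mem_centralizer_iff.mp (hPC hp) _ he'
      calc g * p * g⁻¹ * e = g * (p * (g⁻¹ * e * g)) * g⁻¹ := by group
        _ = g * (g⁻¹ * e * g * p) * g⁻¹ := by rw [hc]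
        _ = e * (g * p * g⁻¹) := by group
    have h2 := norm_conj (inv_mem hgE) h1
    simpa [mul_assoc] using h2
  · intro n hn _ a ha
    have h := Subgroup.mem_centralizer_iff.mp hn a ha
    rw [← h, mul_inv_cancel_right]

/-- An element of odd order which is an element of `E` times one of the odd core. -/
theorem eq_one_of_odd_mul {X : Subgroup G} {f o : G} (hf : f * f = 1) (hfX : f ∈ X) (ho : o ∈ core X)
    (hd : Odd (orderOf (f * o))) : f = 1 := by
  have h := mul_pow_mem hfX ho (orderOf (f * o))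
  rw [pow_orderOf_eq_one, mul_one, invol_pow hf _ hd, invol_inv hf] at h
  exact eq_one_of_odd_sq hf (odd_orderOf (core_odd X) h)

variable (hsc : IsStronglyClosed E (T : Subgroup G)) (hE : ∀ e ∈ E, e * e = 1)
  (hCT : ∀ t ∈ (T : Subgroup G), (∀ e ∈ E, t * e = e * t) → t ∈ E)
  (he : ∀ e ∈ E, e ≠ 1 → Ctl (Subgroup.centralizer ({e} : Set G)) (Subgroup.normalizer (E : Set G)))
include hsc hE hCT he

theorem balance {a b : G} (ha : a ∈ E) (hb : b ∈ E) (hb1 : b ≠ 1) :
    core (Subgroup.centralizer ({a} : Set G)) ⊓ Subgroup.centralizer ({b} : Set G) ≤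
      core (Subgroup.centralizer ({b} : Set G)) := by
  set Ca := Subgroup.centralizer ({a} : Set G)
  set Cb := Subgroup.centralizer ({b} : Set G)
  intro d hd
  have hEa : ∀ e ∈ E, e ∈ Ca := fun e h => mem_cent.mpr (ea_comm_of_sq hE h ha)
  have hEb : ∀ e ∈ E, e ∈ Cb := fun e h => mem_cent.mpr (ea_comm_of_sq hE h hb)
  obtain ⟨n, hn, o, ho, rfl⟩ := he b hb hb1 d hd.2
  have hnb : n ∈ Cb := ctl_mem (N := Subgroup.normalizer (E : Set G)) hd.2 ho rfl
  have hnE : n ∈ Subgroup.centralizer (E : Set G) := by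
    refine Subgroup.mem_centralizer_iff.mpr fun e hee => ?_
    have hc : (n * o) * (e * (n * o)⁻¹ * e⁻¹) ∈ core Ca :=
      mul_mem hd.1 (core_conj_mem (hEa e hee) (inv_mem hd.1))
    have hf : n * e * n⁻¹ * e⁻¹ ∈ E := mul_mem (norm_conj hn hee) (inv_mem hee)
    have ho' : (n * e * n⁻¹ * e⁻¹)⁻¹ * (n * (o * (e * o⁻¹ * e⁻¹)) * n⁻¹) * (n * e * n⁻¹ * e⁻¹)⁻¹⁻¹ ∈ core Cb :=
      core_conj_mem (inv_mem (hEb _ hf))
        (core_conj_mem hnb (mul_mem ho (core_conj_mem (hEb e hee) (inv_mem ho))))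
    have h1 : n * e * n⁻¹ * e⁻¹ = 1 := eq_one_of_odd_mul (hE _ hf) (hEb _ hf) ho' (by
      have e1 : n * e * n⁻¹ * e⁻¹ * ((n * e * n⁻¹ * e⁻¹)⁻¹ * (n * (o * (e * o⁻¹ * e⁻¹)) * n⁻¹) *
          (n * e * n⁻¹ * e⁻¹)⁻¹⁻¹) = (n * o) * (e * (n * o)⁻¹ * e⁻¹) := by group
      rw [e1]
      exact odd_orderOf (core_odd Ca) hc)
    exact (mul_inv_eq_iff_eq_mul.mp (mul_inv_eq_one.mp h1)).symm
  obtain ⟨f, hf, o₂, ho₂, rfl⟩ := cent_split hsc hE hCT n hnE
  set CE := Subgroup.centralizer (E : Set G)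
  have hCEb : CE ≤ Cb := fun x hx => mem_cent.mpr (Subgroup.mem_centralizer_iff.mp hx b hb).symm
  have hD : core CE ⊔ core Cb ≤ core Cb := by
    rw [sup_comm]
    refine le_core (sup_le (core_le _) ((core_le _).trans hCEb))
      (odd_sup (core_odd _) (core_odd _) fun e hee d hd => core_conj_mem (hCEb (core_le _ hee)) hd) ?_
    intro x hx d hd
    obtain ⟨m, hm, o', ho', rfl⟩ := he b hb hb1 x hx
    have hmb : m ∈ Cb := ctl_mem (N := Subgroup.normalizer (E : Set G)) hx ho' rfl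
    have hodd : d * o' * d⁻¹ ∈ core Cb ⊔ core CE → o' * d * o'⁻¹ ∈ core Cb ⊔ core CE := fun _ =>
      mul_mem (mul_mem (Subgroup.mem_sup_left ho') hd) (Subgroup.mem_sup_left (inv_mem ho'))
    have h1 : o' * d * o'⁻¹ ∈ core Cb ⊔ core CE :=
      mul_mem (mul_mem (Subgroup.mem_sup_left ho') hd) (Subgroup.mem_sup_left (inv_mem ho'))
    have hle : core Cb ⊔ core CE ≤ (core Cb ⊔ core CE).comap (MulAut.conj m).toMonoidHom := by
      refine sup_le (fun y hy => ?_) (fun y hy => ?_)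
      · exact Subgroup.mem_sup_left (core_conj_mem hmb hy)
      · refine Subgroup.mem_sup_right (core_conj (X := CE) (Y := CE) (g := m) (fun y => ?_) hy)
        have hh : ∀ k ∈ Subgroup.normalizer (E : Set G), ∀ y ∈ CE, k * y * k⁻¹ ∈ CE := by
          intro k hk y hy
          refine Subgroup.mem_centralizer_iff.mpr fun e hee => ?_
          have he' : k⁻¹ * e * k ∈ E := by simpa using norm_conj (inv_mem hk) hee
          have hc := Subgroup.mem_centralizer_iff.mp hy _ he'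
          calc e * (k * y * k⁻¹) = k * (k⁻¹ * e * k * y) * k⁻¹ := by group
            _ = k * (y * (k⁻¹ * e * k)) * k⁻¹ := by rw [hc]
            _ = k * y * k⁻¹ * e := by group
        refine ⟨hh m hm y, fun hy => ?_⟩
        have h2 := hh m⁻¹ (inv_mem hm) _ hy
        simpa [mul_assoc] using h2
    have h2 := hle h1
    simpa [mul_assoc] using h2
  have hoo : o₂ * o ∈ core Cb := mul_mem (hD (Subgroup.mem_sup_left ho₂)) ho
  have hf1 : f = 1 := eq_one_of_odd_mul (hE f hf) (hEb f hf) hoo (by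
    rw [← mul_assoc]
    exact odd_orderOf (core_odd Ca) hd.1)
  rw [hf1, one_mul]
  exact hoo

/-- Lemma A. -/
theorem lemmaA (hE8 : 8 ≤ Nat.card E)
    (hT : ∀ a ∈ (T : Subgroup G), a ∉ E → a * a = 1 → Nilp (Subgroup.centralizer ({a} : Set G)))
    (hcl : ∃ x y : G, x * x = 1 ∧ x ≠ 1 ∧ y * y = 1 ∧ y ≠ 1 ∧ ¬ IsConj x y) :
    Ctl (⊤ : Subgroup G) (Subgroup.normalizer (E : Set G)) := by
  classical
  haveI := Fact.mk Nat.prime_two
  set θ : G → Subgroup G := fun a => core (Subgroup.centralizer ({a} : Set G)) with hθ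
  set W : Subgroup G := ⨆ a : {a : G // a ∈ E ∧ a ≠ 1}, θ a with hW
  obtain ⟨hWodd, -⟩ := Cfsg.Agent.S0217.result (p := 2) E (fun a ha b hb => ea_comm_of_sq hE ha hb)
    (fun a ha => by rw [pow_two, hE a ha]) (by simpa using hE8) θ (fun a _ _ => core_le _)
    (fun a _ _ h => by
      exact (Nat.not_even_iff_odd.mpr (core_odd (Subgroup.centralizer ({a} : Set G)))) (even_iff_two_dvd.mpr h))
    (fun a ha _ b hb x hx => core_conj_mem (mem_cent.mpr (ea_comm_of_sq hE hb ha)) hx)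
    (fun a _ _ => Cfsg.Agent.S0205.result (core_odd _))
    (fun a ha _ b hb hb1 => balance hsc hE hCT he ha hb hb1)
  rw [← hW] at hWodd
  have hWodd' : Odd (Nat.card W) := Nat.not_even_iff_odd.mp fun h => hWodd (even_iff_two_dvd.mp h)
  have hNW : Subgroup.normalizer (E : Set G) ≤ Subgroup.normalizer (W : Set G) := by
    intro n hn
    refine mem_norm_of fun x hx => ?_
    have hle : W ≤ W.comap (MulAut.conj n).toMonoidHom := iSup_le fun ⟨a, ha, ha1⟩ => fun y hy => by
      refine Subgroup.mem_iSup_of_mem (⟨n * a * n⁻¹, norm_conj hn ha, fun h => ha1 (conj_eq_one_iff.mp h)⟩ :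
        {a : G // a ∈ E ∧ a ≠ 1}) ?_
      refine core_conj (X := Subgroup.centralizer ({a} : Set G)) (fun w => ?_) hy
      rw [mem_cent, mem_cent]
      constructor
      · intro h
        calc n * w * n⁻¹ * (n * a * n⁻¹) = n * (w * a) * n⁻¹ := by group
          _ = n * (a * w) * n⁻¹ := by rw [h]
          _ = n * a * n⁻¹ * (n * w * n⁻¹) := by group
      · intro h
        calc w * a = n⁻¹ * (n * w * n⁻¹ * (n * a * n⁻¹)) * n := by group
          _ = n⁻¹ * (n * a * n⁻¹ * (n * w * n⁻¹)) * n := by rw [h]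
          _ = a * w := by group
    simpa using hle hx
  set M : Subgroup G := Subgroup.normalizer (E : Set G) ⊔ W with hM
  have hEM : ∀ e ∈ E, e ∈ M := fun e h => Subgroup.mem_sup_left (Subgroup.le_normalizer h)
  have hTM : (T : Subgroup G) ≤ M := (sylow_le_norm hsc).trans le_sup_left
  have hCe : ∀ e ∈ E, e ≠ 1 → Subgroup.centralizer ({e} : Set G) ≤ M := fun e hee he1 g hg => by
    obtain ⟨n, hn, o, ho, rfl⟩ := he e hee he1 g hg
    exact mul_mem (Subgroup.mem_sup_left hn) (Subgroup.mem_sup_right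
      (Subgroup.mem_iSup_of_mem (⟨e, hee, he1⟩ : {a : G // a ∈ E ∧ a ≠ 1}) ho))
  -- conjugation into the Sylow subgroup inside `M`
  have hinto : ∀ R : Subgroup G, R ≤ M → IsPGroup 2 R → ∃ m ∈ M, ∀ r ∈ R, m * r * m⁻¹ ∈ (T : Subgroup G) :=
    fun R hRM hR => conj_into hTM T.2 (fun h => T.not_dvd_index (h.trans (Subgroup.relIndex_dvd_index_of_le hTM)))
      hRM hR
  have hinE : ∀ e ∈ E, e ≠ 1 → ∀ g : G, g * e * g⁻¹ ∈ M → g ∈ M := by
    intro e hee he1 g hg
    obtain ⟨m, hm, hmT⟩ := hinto (Subgroup.zpowers (g * e * g⁻¹)) (Subgroup.zpowers_le.mpr hg)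
      (two_elt_isPGroup (k := 1) (by rw [pow_one, pow_two, conj_mul, hE e hee, mul_one, mul_inv_cancel]))
    have h2 : (m * g) * e * (m * g)⁻¹ ∈ E := hsc.2 e hee _ (by
      have := hmT _ (Subgroup.mem_zpowers _)
      simpa [mul_assoc] using this)
    obtain ⟨n, hn, e1⟩ := conj_norm hsc (fun a ha b hb => ea_comm_of_sq hE ha hb) hee h2
    have h3 : n⁻¹ * (m * g) ∈ M := by
      refine hCe e hee he1 (mem_cent.mpr ?_)
      calc n⁻¹ * (m * g) * e = n⁻¹ * ((m * g) * e * (m * g)⁻¹) * (m * g) := by group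
        _ = n⁻¹ * (n * e * n⁻¹) * (m * g) := by rw [e1]
        _ = e * (n⁻¹ * (m * g)) := by group
    have h4 := mul_mem (inv_mem hm) (mul_mem (Subgroup.mem_sup_left hn : n ∈ M) h3)
    simpa using h4
  have hCa : ∀ a ∈ (T : Subgroup G), a * a = 1 → a ∉ E →
      Subgroup.centralizer ({a} : Set G) ≤ M ∧ ∃ e ∈ E, e ≠ 1 ∧ e * a = a * e := by
    intro a haT ha2 haE
    set C := Subgroup.centralizer ({a} : Set G) with hC
    set A := E ⊓ C with hA
    have hAea : Cfsg.IsElementaryAbelian 2 A := CfsgLib.Signalizer.ea_le (ea_of_sq hE) inf_le_left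
    have hA4 : 2 < Nat.card A := by
      have hf : ∀ e : E, a * e * a⁻¹ * (e : G)⁻¹ ∈ A := by
        intro e
        have h1 : a * e * a⁻¹ ∈ E := norm_conj (sylow_le_norm hsc haT) e.2
        refine Subgroup.mem_inf.mpr ⟨mul_mem h1 (inv_mem e.2), mem_cent.mpr ?_⟩
        rw [invol_inv ha2, invol_inv (hE _ e.2)]
        have h2 : (a * e * a) * (e : G) = (e : G) * (a * e * a) := by
          have := ea_comm_of_sq hE h1 e.2
          rwa [invol_inv ha2] at this
        calc a * e * a * e * a = (a * e * a * e) * a := by group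
          _ = ((e : G) * (a * e * a)) * a := by rw [h2]
          _ = e * a * e * (a * a) := by group
          _ = a * a * (e * a * e) := by rw [ha2]; group
          _ = a * (a * e * a * e) := by group
      let f : E → A := fun e => ⟨a * e * a⁻¹ * (e : G)⁻¹, hf e⟩
      -- the fibres of the commutator map lie in cosets of `A`
      let out : Set.range f → E := fun v => v.2.choose
      let Φ : E → A × A := fun e => (f e, ⟨(out ⟨f e, e, rfl⟩ : G)⁻¹ * e, by
        set e₀ := out ⟨f e, e, rfl⟩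
        have h0 : f e₀ = f e := (⟨f e, e, rfl⟩ : Set.range f).2.choose_spec
        have h0' : a * e₀ * a⁻¹ * (e₀ : G)⁻¹ = a * e * a⁻¹ * (e : G)⁻¹ := congrArg Subtype.val h0
        refine Subgroup.mem_inf.mpr ⟨mul_mem (inv_mem e₀.2) e.2, mem_cent.mpr ?_⟩
        have hc := ea_comm_of_sq hE (inv_mem e₀.2) e.2
        have k1 : a * ((e₀ : G)⁻¹ * e) * a⁻¹ = (e₀ : G)⁻¹ * e := by
          calc a * ((e₀ : G)⁻¹ * e) * a⁻¹ = (a * e₀ * a⁻¹)⁻¹ * (a * e * a⁻¹ * (e : G)⁻¹) * e := by group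
            _ = (a * e₀ * a⁻¹)⁻¹ * (a * e₀ * a⁻¹ * (e₀ : G)⁻¹) * e := by rw [h0']
            _ = (e₀ : G)⁻¹ * e := by group
        exact (mul_inv_eq_iff_eq_mul.mp k1).symm⟩)
      have hinj : Function.Injective Φ := fun e e' h => by
        have h1 : f e = f e' := congrArg Prod.fst h
        have h2 : (out ⟨f e, e, rfl⟩ : G)⁻¹ * e = (out ⟨f e', e', rfl⟩ : G)⁻¹ * e' :=
          congrArg Subtype.val (congrArg Prod.snd h)
        have h3 : out ⟨f e, e, rfl⟩ = out ⟨f e', e', rfl⟩ := congrArg out (Subtype.ext h1)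
        rw [h3] at h2
        exact Subtype.ext (mul_left_cancel h2)
      have h := Nat.card_le_card_of_injective Φ hinj
      rw [Nat.card_prod] at h
      nlinarith
    obtain ⟨e₀, he₀, he₀1⟩ : ∃ e ∈ A, e ≠ 1 := by
      by_contra h
      push Not at h
      have : A = ⊥ := (Subgroup.eq_bot_iff_forall A).mpr h
      rw [this, Subgroup.card_bot] at hA4
      omega
    refine ⟨?_, e₀, he₀.1, he₀1, mem_cent.mp he₀.2⟩
    have hA2 : ¬ 2 ∣ Nat.card ↥(core C) := fun h =>
      (Nat.not_even_iff_odd.mpr (core_odd C)) (even_iff_two_dvd.mpr h)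
    have hcM : core C ≤ M := by
      rw [CfsgLib.Signalizer.gen_index hAea hA2 (fun x hx => mem_norm_of fun y hy => core_conj_mem hx.2 hy)]
      refine iSup_le fun ⟨B, hBA, hB2⟩ => ?_
      obtain ⟨b, hb, hb1⟩ : ∃ b ∈ B, b ≠ 1 := by
        by_contra h
        push Not at h
        rw [(Subgroup.eq_bot_iff_forall B).mpr h, Subgroup.relIndex_bot_left] at hB2
        omega
      exact fun x hx => hCe b (hBA hb).1 hb1 (mem_cent.mpr (Subgroup.mem_centralizer_iff.mp hx.2 b hb).symm)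
    obtain ⟨P, hAP, hPC, hP, hidx⟩ := exists_sylow_in (X := C) (R := A) inf_le_right
      (CfsgLib.Signalizer.isPGroup_ea hAea)
    refine le_of_nilp (hT a haT haE ha2) hcM hPC ?_ hidx
    -- the Sylow subgroup of `C` lies in `M`
    by_contra hPM
    haveI := hP.isNilpotent
    have hlt : (M ⊓ P).subgroupOf P < ⊤ := lt_top_iff_ne_top.mpr fun h =>
      hPM fun p hp => (show (⟨p, hp⟩ : P) ∈ (M ⊓ P).subgroupOf P by rw [h]; exact Subgroup.mem_top _).1
    obtain ⟨p, hp, hpn⟩ := SetLike.exists_of_lt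
      (Group.normalizerCondition_of_isNilpotent (G := P) _ hlt)
    refine hpn ⟨hinE e₀ he₀.1 he₀1 p ?_, p.2⟩
    exact ((Subgroup.mem_normalizer_iff.mp hp (⟨e₀, hAP he₀⟩ : P)).mp ⟨hEM e₀ he₀.1, hAP he₀⟩).1
  have hinv : ∀ g t : G, t * t = 1 → t ≠ 1 → t ∈ M → g * t * g⁻¹ ∈ M → g ∈ M := by
    intro g t ht ht1 htM hgtM
    obtain ⟨m, hm, hmT⟩ := hinto (Subgroup.zpowers t) (Subgroup.zpowers_le.mpr htM)
      (two_elt_isPGroup (k := 1) (by rw [pow_one, pow_two, ht]))
    set a := m * t * m⁻¹ with ha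
    have haT : a ∈ (T : Subgroup G) := hmT t (Subgroup.mem_zpowers _)
    have ha2 : a * a = 1 := by rw [ha, conj_mul, ht, mul_one, mul_inv_cancel]
    have ha1 : a ≠ 1 := fun h => ht1 (conj_eq_one_iff.mp h)
    set h := g * m⁻¹ with hh
    have hga : h * a * h⁻¹ = g * t * g⁻¹ := by rw [hh, ha]; group
    suffices h ∈ M by simpa [hh] using mul_mem this hm
    by_cases haE : a ∈ E
    · exact hinE a haE ha1 h (hga ▸ hgtM)
    obtain ⟨-, e, hee, he1, hea⟩ := hCa a haT ha2 haE
    obtain ⟨m', hm', hm'T⟩ := hinto (Subgroup.zpowers (h * a * h⁻¹)) (Subgroup.zpowers_le.mpr (hga ▸ hgtM))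
      (two_elt_isPGroup (k := 1) (by rw [pow_one, pow_two, conj_mul, ha2, mul_one, mul_inv_cancel]))
    set b := m' * (h * a * h⁻¹) * m'⁻¹ with hb
    have hbT : b ∈ (T : Subgroup G) := hm'T _ (Subgroup.mem_zpowers _)
    have hbE : b ∉ E := fun hbE => haE (by
      have := hsc.2 b hbE (m' * h)⁻¹ (by rw [hb]; simpa [mul_assoc] using haT)
      rw [hb] at this
      simpa [mul_assoc] using this)
    have hb2 : b * b = 1 := by rw [hb, conj_mul, conj_mul, ha2]; simp
    have h3 : (m' * h) * e * (m' * h)⁻¹ ∈ M := (hCa b hbT hb2 hbE).1 (mem_cent.mpr (by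
      rw [hb]
      calc m' * h * e * (m' * h)⁻¹ * (m' * (h * a * h⁻¹) * m'⁻¹) = m' * h * (e * a) * (m' * h)⁻¹ := by group
        _ = m' * h * (a * e) * (m' * h)⁻¹ := by rw [hea]
        _ = m' * (h * a * h⁻¹) * m'⁻¹ * (m' * h * e * (m' * h)⁻¹) := by group))
    simpa using mul_mem (inv_mem hm') (hinE e hee he1 _ h3)
  by_cases hMtop : M = ⊤
  · -- `W` is normal
    have hWn : ∀ x : G, ∀ d ∈ W, x * d * x⁻¹ ∈ W := by
      intro x d hd
      refine norm_conj ?_ hd
      exact (sup_le hNW Subgroup.le_normalizer : M ≤ Subgroup.normalizer (W : Set G)) (show x ∈ M by rw [hMtop]; trivial)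
    have hWc : W ≤ core (⊤ : Subgroup G) := le_core le_top hWodd' fun x _ d hd => hWn x d hd
    intro g _
    have hg : g ∈ (((Subgroup.normalizer (E : Set G)) ⊔ W : Subgroup G) : Set G) := by
      show g ∈ M
      rw [hMtop]; trivial
    rw [Subgroup.coe_mul_of_left_le_normalizer_right _ _ hNW] at hg
    obtain ⟨n, hn, o, ho, rfl⟩ := Set.mem_mul.mp hg
    exact ⟨n, hn, o, hWc ho, rfl⟩
  exfalso
  obtain ⟨e, hee, he1⟩ : ∃ e ∈ E, e ≠ 1 := by
    by_contra h
    push Not at h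
    rw [(Subgroup.eq_bot_iff_forall E).mpr h, Subgroup.card_bot] at hE8
    omega
  have heven : Even (Nat.card M) := even_iff_two_dvd.mpr (by
    have h2 : orderOf e = 2 := orderOf_eq_prime (by rw [pow_two, hE e hee]) he1
    rw [← h2]
    exact Subgroup.orderOf_dvd_natCard M (hEM e hee))
  have hse : IsStronglyEmbedded M := by
    refine ⟨hMtop, heven, fun g hg => ?_⟩
    rw [← Nat.not_even_iff_odd, even_iff_two_dvd]
    intro h2
    obtain ⟨w, hw⟩ := exists_prime_orderOf_dvd_card' 2 h2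
    have ht := hw
    rw [← Subgroup.orderOf_coe] at ht
    have htM := (Subgroup.mem_inf.mp w.2).1
    have htg := (Subgroup.mem_inf.mp w.2).2
    set t : G := (w : G)
    obtain ⟨s, hs, hst⟩ := htg
    have hst' : g * s * g⁻¹ = t := by simpa using hst
    have hs2 : s * s = 1 := by
      have : t * t = 1 := by rw [← pow_two, ← ht]; exact pow_orderOf_eq_one t
      rw [← hst', conj_mul, mul_inv_eq_one] at this
      simpa using this
    refine hg (hinv g s hs2 (fun h => ?_) hs (hst'.symm ▸ htM))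
    rw [h, mul_one, mul_inv_cancel] at hst'
    rw [← hst', orderOf_one] at ht
    omega
  obtain ⟨x, y, hx, hx1, hy, hy1, hxy⟩ := hcl
  have hmove : ∀ x : G, x * x = 1 → ∃ g : G, g * x * g⁻¹ ∈ M := fun x hx => by
    obtain ⟨g, hg⟩ := into_top T (two_elt_isPGroup (x := x) (k := 1) (by rw [pow_one, pow_two, hx]))
    exact ⟨g, hTM (hg x (Subgroup.mem_zpowers x))⟩
  obtain ⟨g, hg⟩ := hmove x hx
  obtain ⟨g', hg'⟩ := hmove y hy
  have hord : ∀ {x : G}, x * x = 1 → x ≠ 1 → ∀ g : G, orderOf (g * x * g⁻¹) = 2 := fun h h1 g =>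
    orderOf_eq_prime (by rw [pow_two, conj_mul, h, mul_one, mul_inv_cancel]) fun e => h1 (conj_eq_one_iff.mp e)
  obtain ⟨c, -, hc⟩ := CfsgLib.CIT.conj_of_stronglyEmbedded hse hg (hord hx hx1 g) hg' (hord hy hy1 g')
  exact hxy (isConj_iff.mpr ⟨g'⁻¹ * (c * g), by
    calc g'⁻¹ * (c * g) * x * (g'⁻¹ * (c * g))⁻¹ = g'⁻¹ * (c * (g * x * g⁻¹) * c⁻¹) * g' := by group
      _ = y := by rw [hc]; group⟩)

end CfsgJTwo
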