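import Cfsg.Agent.Lib.JTwoType.Star

/-!
Proper subgroups containing the Sylow subgroup, the core `K` and the normaliser of the four-group: from the closure of
the cores when they are balanced on `A1`, or from a non-trivial `Star`.

Blueprint: `blueprint/S1776.md`, part C.
-/

set_option autoImplicit false
set_option linter.unusedSectionVars false
set_option maxRecDepth 100000

namespace CfsgJTwo

open Cfsg CfsgA8C CfsgLib.Signalizer

universe u

variable {G : Type u} [Group G] [Finite G] [IsSimpleGroup G] (D : Emb G)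

namespace Emb

/-- A proper subgroup containing the Sylow subgroup, `K` and the normaliser of the four-group. -/
structure Good (D : Emb G) (M : Subgroup G) : Prop where
  ne : M ≠ ⊤
  T_le : (D.T : Subgroup G) ≤ M
  K_le : D.K ≤ M
  W0_le : Subgroup.normalizer (D.sub W.W0s : Set G) ≤ M

/-- The cores are balanced on `A1`. -/
def BalA : Prop := ∀ a b : G, a ∈ D.A → a ≠ 1 → b ∈ D.A → b ≠ 1 →
  Kc a ⊓ Subgroup.centralizer ({b} : Set G) ≤ Kc b

/-- The closure of the cores of centralisers on `A1`. -/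
def KW : Subgroup G := ⨆ a : {a : G // a ∈ D.A ∧ a ≠ 1}, Kc (a : G)

theorem proper_norm (D : Emb G) {N : Subgroup G} (ho : Odd (Nat.card N)) (h1 : N ≠ ⊥) :
    Subgroup.normalizer (N : Set G) ≠ ⊤ := fun h => h1 (simple_odd D (Subgroup.normalizer_eq_top_iff.mp h) ho)

theorem W0_le_A : D.sub W.W0s ≤ D.A :=
  Subgroup.map_mono fun w (hw : W.IsW0 w) => (W.W0_le w hw).1

theorem card_W0 : Nat.card ↥(D.sub W.W0s) = 4 := by
  have h : Nat.card (W.W0s : Subgroup W) = 4 := by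
    rw [show Nat.card (W.W0s : Subgroup W) = Nat.card {w : W // W.IsW0 w} from rfl, Nat.card_eq_fintype_card]
    decide +kernel
  exact (Subgroup.card_map_of_injective (f := D.ι) D.inj).trans h

theorem mem_W0 {a : G} (ha : a ∈ D.sub W.W0s) (ha1 : a ≠ 1) : ∃ w, W.IsW0 w ∧ w ≠ 1 ∧ D.ι w = a := by
  obtain ⟨w, hw, rfl⟩ := ha
  exact ⟨w, hw, fun e => ha1 (by rw [e, map_one]), rfl⟩

theorem T_norm_W0 : (D.T : Subgroup G) ≤ Subgroup.normalizer (D.sub W.W0s : Set G) := fun t ht => by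
  obtain ⟨w, rfl⟩ := D.exists_pre ht
  exact mem_norm_of (by
    rintro _ ⟨a, ha, rfl⟩
    exact D.sub_conj _ ((show ∀ t a : W, W.IsW0 a → W.IsW0 (t * a * t⁻¹) by decide +kernel) w a ha))

theorem Kc_A_inv {a : G} (ha : a ∈ D.A) : D.A ≤ Subgroup.normalizer (Kc a : Set G) := fun g hg =>
  mem_norm_of fun _ hx => Kc_norm (D.A_comm hg ha) hx

variable {D}

theorem z_mem_A : D.ι W.z ∈ D.A := D.mem_sub.mpr (show W.IsA1 W.z by decide)

theorem KW_inv : D.A ≤ Subgroup.normalizer (D.KW : Set G) := fun g hg => le_norm_of_map (by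
  simp only [KW, Subgroup.map_iSup]
  refine iSup_mono fun a => ?_
  rintro _ ⟨x, hx, rfl⟩
  exact norm_conj (D.Kc_A_inv a.2.1 hg) hx)

theorem KW_spec (hb : D.BalA) : Odd (Nat.card ↥D.KW) ∧
    ∀ a ∈ D.A, a ≠ 1 → D.KW ⊓ Subgroup.centralizer {a} = Kc a := by
  obtain ⟨h1, h2⟩ := Cfsg.Agent.S0217.result D.A (fun _ ha _ hb => D.A_comm ha hb)
    (fun a ha => by rw [pow_two, D.A_sq ha]) (by rw [D.card_A]; norm_num) Kc (fun a _ _ => Kc_le a)
    (fun a _ _ => fun h => Nat.not_even_iff_odd.mpr (Kc_odd a) (even_iff_two_dvd.mpr h))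
    (fun a ha _ b hb x hx => Kc_norm (D.A_comm hb ha) hx)
    (fun a _ _ => CfsgLib.OddOrder.feitThompson (Kc_odd a)) fun a ha ha1 b hb' hb1 => hb a b ha ha1 hb' hb1
  exact ⟨Nat.odd_iff.mpr (Nat.two_dvd_ne_zero.mp h1), h2⟩

/-- The closure is intrinsic to every subgroup of `A1` of order at least three. -/
theorem KW_norm (hb : D.BalA) {E : Subgroup G} (hE : E ≤ D.A) (hc : 3 ≤ Nat.card E) :
    Subgroup.normalizer (E : Set G) ≤ Subgroup.normalizer (D.KW : Set G) := by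
  obtain ⟨ho, hW⟩ := KW_spec hb
  have heq : D.KW = ⨆ e : {e : G // e ∈ E ∧ e ≠ 1}, Kc (e : G) := by
    refine le_antisymm ?_ (iSup_le fun e =>
      le_iSup (fun a : {a : G // a ∈ D.A ∧ a ≠ 1} => Kc (a : G)) ⟨e, hE e.2.1, e.2.2⟩)
    conv_lhs => rw [gen_index (ea_le D.A_ea hE) (fun h => Nat.not_even_iff_odd.mpr ho (even_iff_two_dvd.mpr h))
      (hE.trans KW_inv)]
    refine iSup_le fun F x hx => ?_
    obtain ⟨f, hf, hf1⟩ := exists_ne_one (E := (F : Subgroup G)) (by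
      have h1 := ((F : Subgroup G).subgroupOf E).card_mul_index
      rw [Nat.card_congr (Subgroup.subgroupOfEquivOfLe F.2.1).toEquiv] at h1
      have h2 := Nat.mul_le_mul_left (Nat.card (F : Subgroup G)) F.2.2
      change Nat.card (F : Subgroup G) * ((F : Subgroup G).subgroupOf E).index ≤ _ at h2
      omega)
    refine le_iSup (fun e : {e : G // e ∈ E ∧ e ≠ 1} => Kc (e : G)) ⟨f, F.2.1 hf, hf1⟩ ?_
    rw [← hW f (hE (F.2.1 hf)) hf1]
    exact ⟨hx.1, mem_cent.mpr (Subgroup.mem_centralizer_iff.mp hx.2 f hf).symm⟩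
  intro g hg
  refine le_norm_of_map ?_
  rw [heq, Subgroup.map_iSup]
  refine iSup_le fun e => ?_
  refine le_trans ?_ (le_iSup (fun e : {e : G // e ∈ E ∧ e ≠ 1} => Kc (e : G))
    ⟨g * e * g⁻¹, norm_conj hg e.2.1, fun h => e.2.2 (conj_eq_one_iff.mp h)⟩)
  rintro _ ⟨x, hx, rfl⟩
  exact Kc_conj hx

theorem K_le_KW : D.K ≤ D.KW :=
  le_iSup (fun a : {a : G // a ∈ D.A ∧ a ≠ 1} => Kc (a : G)) ⟨D.ι W.z, z_mem_A, D.ne_one W.z_ne⟩

theorem good_KW (hb : D.BalA) (hK : D.K ≠ ⊥) : D.Good (Subgroup.normalizer (D.KW : Set G)) := by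
  have h0 : Subgroup.normalizer (D.sub W.W0s : Set G) ≤ Subgroup.normalizer (D.KW : Set G) :=
    KW_norm hb D.W0_le_A (by rw [D.card_W0]; norm_num)
  exact ⟨D.proper_norm (KW_spec hb).1 fun h => hK (le_bot_iff.mp (h ▸ K_le_KW)), D.T_norm_W0.trans h0,
    K_le_KW.trans Subgroup.le_normalizer, h0⟩

theorem balA_of_Bal (h : D.Two) {d : G} (hd : D.IsD d) (hb : D.Bal) : D.BalA := by
  intro a b ha ha1 hb' hb1
  obtain ⟨p, hp, hp1, rfl⟩ := mem_A ha ha1
  obtain ⟨q, hq, hq1, rfl⟩ := mem_A hb' hb1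
  exact bal_all h hd hb hp hp1 hq hq1

/-- Balanced: the centralisers of the outer involutions normalise the closure. -/
theorem cent_out_le_KW (h : D.Two) {d : G} (hd : D.IsD d) (hb : D.Bal) {u : W} (hu : W.IsA1 u) (hu0 : ¬ W.IsW0 u) :
    Subgroup.centralizer ({D.ι u} : Set G) ≤ Subgroup.normalizer (D.KW : Set G) := by
  intro x hx
  obtain ⟨n, c⟩ := exists_cyc hd hu hu0
  obtain ⟨o, ho, -, hoP⟩ := c.cover h (mem_cent.mp hx)
  set E := D.A ⊓ Subgroup.centralizer ({n} : Set G)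
  obtain ⟨s, hs, hs0, hsu⟩ := (show ∀ u : W, ∃ s : W, W.IsA1 s ∧ s.a ≠ 0 ∧ s.a ≠ u.a by decide +kernel) u
  obtain ⟨w, hw, hn⟩ := c.split h hs
  have hpA : W.IsA1 (s * w) := W.A1_mul _ _ hs (W.W0_le w hw).1
  have hpa : (s * w).a = s.a := by
    rw [W.A1_sum s w hs (W.W0_le w hw).1, (W.A1_zero w (W.W0_le w hw).1).mpr hw, add_zero]
  have hc : 3 ≤ Nat.card E := by
    have hsub : ({1, D.ι u, D.ι (s * w)} : Set G) ⊆ (E : Set G) := by
      simp only [Set.insert_subset_iff, Set.singleton_subset_iff, SetLike.mem_coe]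
      exact ⟨one_mem _, Subgroup.mem_inf.mpr ⟨D.mem_sub.mpr hu, mem_cent.mpr c.cu.symm⟩,
        Subgroup.mem_inf.mpr ⟨D.mem_sub.mpr hpA, mem_cent.mpr hn.symm⟩⟩
    have h3 := Set.ncard_le_ncard hsub (Set.toFinite _)
    rw [Set.ncard_insert_of_notMem, Set.ncard_pair, ← Nat.card_coe_set_eq] at h3
    · exact h3
    · exact fun e => hsu (by rw [← hpa, ← D.inj e])
    · simp only [Set.mem_insert_iff, Set.mem_singleton_iff, not_or]
      exact ⟨(D.ne_one (a := u) fun e => hu0 (e ▸ W.W0_one)).symm, (D.ne_one fun e => hs0 (by rw [← hpa, e]; rfl)).symm⟩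
  have hox : o * x ∈ Subgroup.normalizer (D.KW : Set G) := by
    refine KW_norm (balA_of_Bal h hd hb) inf_le_left hc (mem_norm_of ?_)
    intro e he
    obtain ⟨⟨q, hq, rfl⟩, heC⟩ := Subgroup.mem_inf.mp he
    rw [hoP q hq (mem_cent.mp heC).symm, mul_inv_cancel_right]
    exact he
  have ho' : o ∈ Subgroup.normalizer (D.KW : Set G) :=
    Subgroup.le_normalizer (le_iSup (fun a : {a : G // a ∈ D.A ∧ a ≠ 1} => Kc (a : G))
      ⟨D.ι u, D.mem_sub.mpr hu, D.ne_one fun e => hu0 (e ▸ W.W0_one)⟩ ho)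
  have := mul_mem (inv_mem ho') hox
  rwa [inv_mul_cancel_left] at this

/-- The group generated by the cores at the four-group and its centraliser. -/
def MOne (D : Emb G) : Subgroup G :=
  (⨆ a : {a : G // a ∈ D.sub W.W0s ∧ a ≠ 1}, Kc (a : G)) ⊔ Subgroup.centralizer (D.sub W.W0s : Set G)

theorem good_Star (h : D.Two) {d : G} (hd : D.IsD d) (hS : D.Star ≠ ⊥) :
    ∃ M, D.Good M := by
  set N := Subgroup.normalizer (D.Star : Set G)
  set M₁ := MOne D with hM
  have hKc : ∀ {a : G}, a ∈ D.sub W.W0s → a ≠ 1 → Kc a ≤ M₁ := fun {a} ha ha1 =>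
    le_trans (le_iSup (fun a : {a : G // a ∈ D.sub W.W0s ∧ a ≠ 1} => Kc (a : G)) ⟨a, ha, ha1⟩) le_sup_left
  have hz : D.ι W.z ∈ D.sub W.W0s := D.mem_sub.mpr (show W.IsW0 W.z by decide)
  have hKN : D.K ≤ N := odd_le_Star h hd (Kc_odd _) (D.Kc_A_inv z_mem_A)
  have hM1N : M₁ ≤ N := by
    refine sup_le (iSup_le fun a => odd_le_Star h hd (Kc_odd _) (D.Kc_A_inv (D.W0_le_A a.2.1))) fun x hx => ?_
    have hcm := fun w (hw : W.IsW0 w) => (Subgroup.mem_centralizer_iff.mp hx _ (D.mem_sub.mpr hw)).symm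
    obtain ⟨y, hy, o, ho, hov, rfl⟩ := hd.cent_zv (hcm W.z (by decide)) (hcm W.v (by decide))
    refine mul_mem ?_ (hKN ho)
    have hyv : y * D.ι W.v = D.ι W.v * y := by
      have h1 := (show Commute (y * o) (D.ι W.v) from hcm W.v (by decide)).mul_left
        (show Commute o (D.ι W.v) from hov).inv_left
      simpa [mul_assoc] using h1.eq
    have hdT : Subgroup.zpowers d ≤ Subgroup.normalizer ((D.T : Subgroup G) : Set G) :=
      Subgroup.zpowers_le.mpr (mem_norm_of fun t ht => by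
        obtain ⟨w, rfl⟩ := D.exists_pre ht
        obtain ⟨w', e⟩ := hd.nT w
        exact e ▸ D.mem_T w')
    obtain ⟨e, he, t, ht, rfl⟩ := mem_normal_sup (H := Subgroup.zpowers d) (O := (D.T : Subgroup G))
      (fun e he t ht => norm_conj (hdT he) ht) (sup_comm (D.T : Subgroup G) _ ▸ hy)
    have heN : e ∈ D.NA := (Subgroup.zpowers_le.mpr hd.mem) he
    have hev : Commute e (D.ι W.v) := mem_cent.mp ((Subgroup.zpowers_le.mpr (mem_cent.mpr hd.cv)) he)
    obtain ⟨w, rfl⟩ := D.exists_pre ht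
    have hwv : D.ι w * D.ι W.v = D.ι W.v * D.ι w := by
      have h1 := hev.inv_left.mul_left (show Commute (e * D.ι w) (D.ι W.v) from hyv)
      rwa [inv_mul_cancel_left] at h1
    refine Star_conj (mul_mem heN.1 (D.T_NA ?_).1)
    exact (W.cent_v W.v w (Or.inl rfl)).mp (D.comm_iff.mp hwv)
  have hSM : D.Star ≤ M₁ := by
    rw [gen_index (ea_le D.A_ea D.W0_le_A)
      (fun h2 => Nat.not_even_iff_odd.mpr (Star_odd h hd) (even_iff_two_dvd.mpr h2))
      (D.W0_le_A.trans fun g hg => Star_conj (Subgroup.le_normalizer hg))]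
    refine iSup_le fun F x hx => ?_
    obtain ⟨f, hf, hf1⟩ := exists_ne_one (E := (F : Subgroup G)) (by
      have h1 := ((F : Subgroup G).subgroupOf (D.sub W.W0s)).card_mul_index
      rw [Nat.card_congr (Subgroup.subgroupOfEquivOfLe F.2.1).toEquiv, D.card_W0] at h1
      have h2 := Nat.mul_le_mul_left (Nat.card (F : Subgroup G)) F.2.2
      change Nat.card (F : Subgroup G) * ((F : Subgroup G).subgroupOf (D.sub W.W0s)).index ≤ _ at h2
      omega)
    obtain ⟨w, hw, hw1, e⟩ := D.mem_W0 (F.2.1 hf) hf1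
    refine hKc (F.2.1 hf) hf1 ?_
    rw [← e]
    refine D.le_Kw hw hw1 (R := D.Star ⊓ Subgroup.centralizer ({D.ι w} : Set G)) inf_le_right
      (odd_mono inf_le_left (Star_odd h hd)) (fun b hb r hr => Subgroup.mem_inf.mpr
        ⟨norm_conj (Star_conj (Subgroup.le_normalizer (D.mem_sub.mpr hb))) hr.1, ?_⟩)
      ⟨hx.1, mem_cent.mpr (e ▸ (Subgroup.mem_centralizer_iff.mp hx.2 f hf).symm)⟩
    have hbA : D.ι b ∈ Subgroup.centralizer ({D.ι w} : Set G) :=
      mem_cent.mpr (D.A_comm (D.mem_sub.mpr hb) (D.mem_sub.mpr (W.W0_le w hw).1))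
    exact mul_mem (mul_mem hbA hr.2) (inv_mem hbA)
  have hSc : D.Star ≤ core M₁ := le_core hSM (Star_odd h hd) fun x hx s hs => norm_conj (hM1N hx) hs
  have hmap : Subgroup.normalizer (D.sub W.W0s : Set G) ≤ Subgroup.normalizer (core M₁ : Set G) := by
    intro g hg
    have hgM : g ∈ Subgroup.normalizer (M₁ : Set G) := by
      refine le_norm_of_map ?_
      simp only [hM, MOne, Subgroup.map_sup, Subgroup.map_iSup]
      refine sup_le_sup (iSup_le fun a => le_trans ?_ (le_iSup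
        (fun a : {a : G // a ∈ D.sub W.W0s ∧ a ≠ 1} => Kc (a : G))
        ⟨g * a * g⁻¹, norm_conj hg a.2.1, fun e => a.2.2 (conj_eq_one_iff.mp e)⟩)) ?_
      · rintro _ ⟨x, hx, rfl⟩; exact Kc_conj hx
      · rintro _ ⟨x, hx, rfl⟩
        refine Subgroup.mem_centralizer_iff.mpr fun a ha => ?_
        have h1 := Subgroup.mem_centralizer_iff.mp hx _ (norm_conj (inv_mem hg) ha)
        show a * (g * x * g⁻¹) = g * x * g⁻¹ * a
        calc a * (g * x * g⁻¹) = g * (g⁻¹ * a * g⁻¹⁻¹ * x) * g⁻¹ := by group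
          _ = g * (x * (g⁻¹ * a * g⁻¹⁻¹)) * g⁻¹ := by rw [h1]
          _ = g * x * g⁻¹ * a := by group
    exact mem_norm_of fun o ho => core_conj (fun y => Subgroup.mem_normalizer_iff.mp hgM y) ho
  refine ⟨Subgroup.normalizer (core M₁ : Set G), D.proper_norm (core_odd _) (fun e => hS ?_),
    D.T_norm_W0.trans hmap, (hKc hz (D.ne_one W.z_ne)).trans fun x hx => mem_norm_of fun o ho => core_conj_mem hx ho,
    hmap⟩
  exact le_bot_iff.mp (e ▸ hSc)

end Emb

end CfsgJTwo
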