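import Cfsg.Agent.Lib.JTwoType.Closed

/-!
Moving factorisations over the odd core through quotients, subgroups and conjugations.

Blueprint: `blueprint/S1776.md`.
-/

set_option autoImplicit false
set_option linter.unusedSectionVars false

namespace CfsgJTwo

open Cfsg CfsgA8C

universe u v

variable {G : Type u} [Group G] [Finite G] {H : Type v} [Group H] [Finite H]

omit [Finite G] in
theorem pow_split {n : G} {k m : ℕ} (hm : Odd m) (h : n ^ (2 ^ k * m) = 1) :
    ∃ x y : G, x ∈ Subgroup.zpowers n ∧ y ∈ Subgroup.zpowers n ∧ n = x * y ∧ x ^ 2 ^ k = 1 ∧ y ^ m = 1 := by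
  have hc : Nat.Coprime (2 ^ k) m := Nat.Coprime.pow_left k ((Nat.coprime_two_left).mpr hm)
  have hbez : ((2 ^ k : ℕ) : ℤ) * Nat.gcdA (2 ^ k) m + (m : ℤ) * Nat.gcdB (2 ^ k) m = 1 := by
    rw [← Nat.gcd_eq_gcd_ab, hc.gcd_eq_one, Nat.cast_one]
  refine ⟨n ^ ((m : ℤ) * Nat.gcdB (2 ^ k) m), n ^ (((2 ^ k : ℕ) : ℤ) * Nat.gcdA (2 ^ k) m), ⟨_, rfl⟩, ⟨_, rfl⟩,
    ?_, ?_, ?_⟩
  · rw [← zpow_add, add_comm, hbez, zpow_one]
  · rw [← zpow_natCast, ← zpow_mul, show (m : ℤ) * Nat.gcdB (2 ^ k) m * ((2 ^ k : ℕ) : ℤ) =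
      ((2 ^ k * m : ℕ) : ℤ) * Nat.gcdB (2 ^ k) m by push_cast; ring, zpow_mul, zpow_natCast, h, one_zpow]
  · rw [← zpow_natCast, ← zpow_mul, show ((2 ^ k : ℕ) : ℤ) * Nat.gcdA (2 ^ k) m * (m : ℤ) =
      ((2 ^ k * m : ℕ) : ℤ) * Nat.gcdA (2 ^ k) m by push_cast; ring, zpow_mul, zpow_natCast, h, one_zpow]

/-- An element splits into its 2-part and its part of odd order. -/
theorem two_odd_split (n : G) :
    ∃ x y : G, x ∈ Subgroup.zpowers n ∧ y ∈ Subgroup.zpowers n ∧ n = x * y ∧ (∃ k, x ^ 2 ^ k = 1) ∧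
      Odd (orderOf y) := by
  obtain ⟨k, m, hm, h⟩ := Nat.exists_eq_two_pow_mul_odd (orderOf_pos n).ne'
  obtain ⟨x, y, hx, hy, e, hx2, hy2⟩ := pow_split (k := k) hm (h ▸ pow_orderOf_eq_one n)
  exact ⟨x, y, hx, hy, e, ⟨k, hx2⟩, hm.of_dvd_nat (orderOf_dvd_of_pow_eq_one hy2)⟩

theorem mem_zpowers_sq {n : G} (ho : Odd (orderOf n)) : n ∈ Subgroup.zpowers (n * n) := by
  obtain ⟨k, hk⟩ := ho
  refine ⟨(k + 1 : ℕ), ?_⟩
  show (n * n) ^ ((k + 1 : ℕ) : ℤ) = n
  rw [zpow_natCast, ← pow_two, ← pow_mul, show 2 * (k + 1) = (2 * k + 1) + 1 by ring, pow_succ, ← hk,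
    pow_orderOf_eq_one, one_mul]

/-- An element of odd order commutes with whatever its square commutes with. -/
theorem odd_comm_of_sq {n a : G} (ho : Odd (orderOf n)) (h : n * n * a = a * (n * n)) : n * a = a * n := by
  have hle : Subgroup.zpowers (n * n) ≤ Subgroup.centralizer ({a} : Set G) :=
    Subgroup.zpowers_le.mpr (mem_cent.mpr h)
  exact mem_cent.mp (hle (mem_zpowers_sq ho))

theorem core_top_eq : core (⊤ : Subgroup G) = oddCore G := by
  refine le_antisymm ?_ (le_core le_top CfsgLib.odd_card_oddCore fun x _ d hd => ?_)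
  · haveI : (core (⊤ : Subgroup G)).Normal := ⟨fun d hd x => core_conj_mem (Subgroup.mem_top x) hd⟩
    exact CfsgLib.le_oddCore (core_odd _)
  · exact (inferInstance : (oddCore G).Normal).conj_mem d hd x

theorem core_map_hom_le (f : G →* H) (X : Subgroup G) : (core X).map f ≤ core (X.map f) := by
  refine le_core (Subgroup.map_mono (core_le X)) ((core_odd X).of_dvd_nat (Subgroup.card_map_dvd _ _)) ?_
  rintro _ ⟨x, hx, rfl⟩ _ ⟨o, ho, rfl⟩
  exact ⟨x * o * x⁻¹, core_conj_mem hx ho, by simp⟩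

theorem nilp_map (f : G →* H) {X : Subgroup G} (h : Nilp X) : Nilp (X.map f) := by
  rintro _ ⟨x, hx, rfl⟩
  obtain ⟨k, hk⟩ := h x hx
  exact ⟨k, core_map_hom_le f X ⟨_, hk, map_pow f x _⟩⟩

theorem core_inf_le {X Y : Subgroup G} (h : Y ≤ X) : core X ⊓ Y ≤ core Y :=
  le_core inf_le_right (odd_mono inf_le_left (core_odd X)) fun _ hx _ hd =>
    Subgroup.mem_inf.mpr ⟨core_conj_mem (h hx) (Subgroup.mem_inf.mp hd).1,
      mul_mem (mul_mem hx (Subgroup.mem_inf.mp hd).2) (inv_mem hx)⟩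

theorem nilp_mono {X Y : Subgroup G} (h : Y ≤ X) (hX : Nilp X) : Nilp Y := fun y hy => by
  obtain ⟨k, hk⟩ := hX y (h hy)
  exact ⟨k, core_inf_le h ⟨hk, pow_mem hy _⟩⟩

theorem ctl_map (f : G →* H) {X N : Subgroup G} {N' : Subgroup H} (h : Ctl X N) (hN : N.map f ≤ N') :
    Ctl (X.map f) N' := by
  rintro _ ⟨x, hx, rfl⟩
  obtain ⟨n, hn, o, ho, rfl⟩ := h x hx
  exact ⟨f n, hN ⟨n, hn, rfl⟩, f o, core_map_hom_le f X ⟨o, ho, rfl⟩, map_mul f n o⟩

/-- Products of the core with elements of `N`. -/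
theorem ctl_of_sup {X N : Subgroup G} (h : X ≤ (N ⊓ X) ⊔ core X) : Ctl X N := fun g hg => by
  have h1 : g ∈ (((N ⊓ X) ⊔ core X : Subgroup G) : Set G) := h hg
  rw [Subgroup.coe_mul_of_left_le_normalizer_right _ _ (fun n hn => mem_norm_of fun o ho =>
    core_conj_mem (Subgroup.mem_inf.mp hn).2 ho)] at h1
  obtain ⟨n, hn, o, ho, rfl⟩ := Set.mem_mul.mp h1
  exact ⟨n, (Subgroup.mem_inf.mp hn).1, o, ho, rfl⟩

/-- Restriction to a normal subgroup containing the squares. -/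
theorem ctl_restrict {X Y N : Subgroup G} (h : Y ≤ X) (hsq : ∀ x ∈ X, x * x ∈ Y) (hX : Ctl X N) : Ctl Y N := by
  intro g hg
  obtain ⟨n, hn, o, ho, e⟩ := hX g (h hg)
  refine ⟨n, hn, o, core_inf_le h ⟨ho, ?_⟩, e⟩
  exact Subgroup.zpowers_le.mpr (hsq o (core_le X ho)) (mem_zpowers_sq (odd_orderOf (core_odd X) ho))

theorem conj_norm_mem {E : Subgroup G} {g n : G} (hg : g ∈ Subgroup.normalizer (E : Set G))
    (hn : n ∈ Subgroup.normalizer (E : Set G)) : g * n * g⁻¹ ∈ Subgroup.normalizer (E : Set G) :=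
  mul_mem (mul_mem hg hn) (inv_mem hg)

theorem nilp_conj {X Y : Subgroup G} {g : G} (hXY : ∀ x, x ∈ X ↔ g * x * g⁻¹ ∈ Y) (h : Nilp X) : Nilp Y := by
  intro y hy
  obtain ⟨k, hk⟩ := h (g⁻¹ * y * g) ((hXY _).mpr (by simpa [mul_assoc] using hy))
  refine ⟨k, ?_⟩
  have h1 := core_conj hXY hk
  rw [← conj_pow] at h1
  simpa [mul_assoc] using h1

theorem ctl_conj {X Y E : Subgroup G} {g : G} (hg : g ∈ Subgroup.normalizer (E : Set G))
    (hXY : ∀ x, x ∈ X ↔ g * x * g⁻¹ ∈ Y) (h : Ctl X (Subgroup.normalizer (E : Set G))) :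
    Ctl Y (Subgroup.normalizer (E : Set G)) := by
  intro y hy
  obtain ⟨n, hn, o, ho, e⟩ := h (g⁻¹ * y * g) ((hXY _).mpr (by simpa [mul_assoc] using hy))
  refine ⟨g * n * g⁻¹, conj_norm_mem hg hn, g * o * g⁻¹, core_conj hXY ho, ?_⟩
  rw [conj_mul, ← e]
  group

omit [Finite G] in
theorem cent_conj {a g : G} (x : G) :
    x ∈ Subgroup.centralizer ({a} : Set G) ↔ g * x * g⁻¹ ∈ Subgroup.centralizer ({g * a * g⁻¹} : Set G) := by
  rw [mem_cent, mem_cent]
  constructor
  · intro h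
    rw [conj_mul, conj_mul, h]
  · intro h
    rw [conj_mul, conj_mul] at h
    exact mul_left_cancel (mul_right_cancel h)

/-- Odd elements of a quotient by a central 2-group are images of elements of the odd core. -/
theorem core_lift (f : G →* H) (hsurj : Function.Surjective f) (hK : IsPGroup 2 f.ker)
    (hc : ∀ k ∈ f.ker, ∀ x : G, k * x = x * k) {o : H} (ho : o ∈ core (⊤ : Subgroup H)) :
    ∃ o' ∈ core (⊤ : Subgroup G), f o' = o := by
  haveI := Fact.mk Nat.prime_two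
  set P : Subgroup G := (core (⊤ : Subgroup H)).comap f with hP
  have hle : f.ker ≤ P := fun x hx => by
    show f x ∈ core (⊤ : Subgroup H)
    rw [f.mem_ker.mp hx]; exact one_mem _
  set K' : Subgroup P := f.ker.subgroupOf P with hK'
  haveI : K'.Normal := Subgroup.Normal.subgroupOf inferInstance P
  have hodd : Odd K'.index := by
    have e : K' = (f.comp P.subtype).ker := rfl
    rw [e, Subgroup.index_ker, MonoidHom.range_comp, Subgroup.range_subtype, hP,
      Subgroup.map_comap_eq_self_of_surjective hsurj]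
    exact core_odd _
  have hcop : Nat.Coprime (Nat.card K') K'.index := by
    obtain ⟨j, hj⟩ := IsPGroup.iff_card.mp (hK.of_equiv (Subgroup.subgroupOfEquivOfLe hle).symm)
    rw [hj]
    exact Nat.Coprime.pow_left _ (Nat.coprime_two_left.mpr hodd)
  obtain ⟨C, hC⟩ := Subgroup.exists_right_complement'_of_coprime hcop
  have hCodd : Odd (Nat.card C) := by
    rwa [hC.symm.index_eq_card] at hodd
  set C' : Subgroup G := C.map P.subtype
  have hC'odd : Odd (Nat.card C') := by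
    rwa [Subgroup.card_map_of_injective P.subtype_injective]
  have hCn : ∀ x ∈ (⊤ : Subgroup G), ∀ d ∈ C', x * d * x⁻¹ ∈ C' := by
    rintro x - _ ⟨d, hd, rfl⟩
    have hm : x * (d : G) * x⁻¹ ∈ P := by
      show f _ ∈ core (⊤ : Subgroup H)
      rw [map_mul, map_mul, map_inv]
      exact core_conj_mem (Subgroup.mem_top _) d.2
    obtain ⟨⟨k, c⟩, e⟩ := hC.2 ⟨x * (d : G) * x⁻¹, hm⟩
    have e' : ((k : P) : G) * ((c : P) : G) = x * (d : G) * x⁻¹ := congrArg Subtype.val e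
    have hk : ((k : P) : G) ∈ f.ker := k.2
    obtain ⟨j, hj⟩ := hK ⟨_, hk⟩
    have hj' : ((k : P) : G) ^ 2 ^ j = 1 := congrArg Subtype.val hj
    obtain ⟨N, hN⟩ : ∃ N, Nat.card C = N := ⟨_, rfl⟩
    have hcN : ((c : P) : G) ^ N = 1 := by
      have := congrArg (fun t : C => ((t : P) : G)) (hN ▸ pow_card_eq_one' (x := c))
      simpa using this
    have hdN : (x * (d : G) * x⁻¹) ^ N = 1 := by
      have := congrArg (fun t : C => ((t : P) : G)) (hN ▸ pow_card_eq_one' (x := (⟨d, hd⟩ : C)))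
      rw [conj_pow, show (d : G) ^ N = 1 by simpa using this, mul_one, mul_inv_cancel]
    rw [← e', (show Commute ((k : P) : G) ((c : P) : G) from hc _ hk _).mul_pow, hcN, mul_one] at hdN
    have hk1 : ((k : P) : G) = 1 := by
      have h1 : orderOf ((k : P) : G) ∣ Nat.gcd (2 ^ j) N :=
        Nat.dvd_gcd (orderOf_dvd_of_pow_eq_one hj') (orderOf_dvd_of_pow_eq_one hdN)
      rw [Nat.Coprime.pow_left j (Nat.coprime_two_left.mpr (hN ▸ hCodd))] at h1
      exact orderOf_eq_one_iff.mp (Nat.dvd_one.mp h1)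
    rw [hk1, one_mul] at e'
    exact ⟨c, c.2, e'⟩
  have hC'c : C' ≤ core (⊤ : Subgroup G) := le_core le_top hC'odd hCn
  obtain ⟨y, rfl⟩ := hsurj o
  obtain ⟨⟨k, c⟩, e⟩ := hC.2 ⟨y, ho⟩
  refine ⟨((c : P) : G), hC'c ⟨c, c.2, rfl⟩, ?_⟩
  have e' : ((k : P) : G) * ((c : P) : G) = y := congrArg Subtype.val e
  rw [← e', map_mul, show f ((k : P) : G) = 1 from f.mem_ker.mp k.2, one_mul]

/-- A factorisation in a central quotient gives one above. -/
theorem ctl_pull (f : G →* H) (hsurj : Function.Surjective f) (hK : IsPGroup 2 f.ker)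
    (hc : ∀ k ∈ f.ker, ∀ x : G, k * x = x * k) {E : Subgroup G} (hE : f.ker ≤ E)
    (h : Ctl (⊤ : Subgroup H) (Subgroup.normalizer ((E.map f : Subgroup H) : Set H))) :
    Ctl (⊤ : Subgroup G) (Subgroup.normalizer (E : Set G)) := by
  intro g _
  obtain ⟨n, hn, o, ho, e⟩ := h (f g) (Subgroup.mem_top _)
  obtain ⟨o', ho', rfl⟩ := core_lift f hsurj hK hc ho
  refine ⟨g * o'⁻¹, mem_norm_of fun x hx => ?_, o', ho', (inv_mul_cancel_right _ _).symm⟩
  obtain ⟨y, hy, hye⟩ := norm_conj hn (Subgroup.mem_map_of_mem f hx)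
  have hfn : f (g * o'⁻¹) = n := by rw [map_mul, e, map_inv, mul_inv_cancel_right]
  have h1 : y⁻¹ * (g * o'⁻¹ * x * (g * o'⁻¹)⁻¹) ∈ f.ker := by
    rw [f.mem_ker, map_mul, map_mul, map_mul, map_inv, map_inv, hfn, hye, inv_mul_cancel]
  simpa using mul_mem hy (hE h1)

/-- From the subgroup seen as a group to the ambient group. -/
theorem ctl_of_top {X E : Subgroup G} (hE : E ≤ X)
    (h : Ctl (⊤ : Subgroup X) (Subgroup.normalizer ((E.subgroupOf X : Subgroup X) : Set X))) :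
    Ctl X (Subgroup.normalizer (E : Set G)) := by
  intro g hg
  obtain ⟨n, hn, o, ho, e⟩ := h ⟨g, hg⟩ (Subgroup.mem_top _)
  refine ⟨n, mem_norm_of fun x hx => ?_, o, ⟨o, core_top_eq (G := X) ▸ ho, rfl⟩, congrArg Subtype.val e⟩
  exact norm_conj hn (e := (⟨x, hE hx⟩ : X)) hx

/-- The core of the centraliser of a subgroup lies in the core of a group factorised over its normaliser. -/
theorem core_cent_le {X E : Subgroup G} (hCX : Subgroup.centralizer (E : Set G) ≤ X)
    (h : Ctl X (Subgroup.normalizer (E : Set G))) : core (Subgroup.centralizer (E : Set G)) ≤ core X := by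
  set C := Subgroup.centralizer (E : Set G)
  have hle : core X ⊔ core C ≤ core X := by
    refine le_core (sup_le (core_le X) ((core_le C).trans hCX))
      (odd_sup (core_odd _) (core_odd _) fun e he d hd => core_conj_mem (hCX (core_le _ he)) hd) ?_
    intro x hx d hd
    obtain ⟨m, hm, o, ho, rfl⟩ := h x hx
    have hmX : m ∈ X := ctl_mem (N := Subgroup.normalizer (E : Set G)) hx ho rfl
    have h1 : o * d * o⁻¹ ∈ core X ⊔ core C :=
      mul_mem (mul_mem (Subgroup.mem_sup_left ho) hd) (Subgroup.mem_sup_left (inv_mem ho))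
    have hle : core X ⊔ core C ≤ (core X ⊔ core C).comap (MulAut.conj m).toMonoidHom := by
      refine sup_le (fun y hy => Subgroup.mem_sup_left (core_conj_mem hmX hy)) (fun y hy => ?_)
      refine Subgroup.mem_sup_right (core_conj (X := C) (Y := C) (g := m) (fun y => ?_) hy)
      have hh : ∀ k ∈ Subgroup.normalizer (E : Set G), ∀ y ∈ C, k * y * k⁻¹ ∈ C := by
        intro k hk y hy
        refine Subgroup.mem_centralizer_iff.mpr fun e he => ?_
        have he' : k⁻¹ * e * k ∈ E := by simpa using norm_conj (inv_mem hk) he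
        have hc := Subgroup.mem_centralizer_iff.mp hy _ he'
        calc e * (k * y * k⁻¹) = k * (k⁻¹ * e * k * y) * k⁻¹ := by group
          _ = k * (y * (k⁻¹ * e * k)) * k⁻¹ := by rw [hc]
          _ = k * y * k⁻¹ * e := by group
      refine ⟨hh m hm y, fun hy => ?_⟩
      have h2 := hh m⁻¹ (inv_mem hm) _ hy
      simpa [mul_assoc] using h2
    have h2 := hle h1
    simpa [mul_assoc] using h2
  exact le_sup_right.trans hle

end CfsgJTwo
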