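import Cfsg.Agent.Lib.JTwoType.Emb
import Cfsg.Agent.Lib.JTwoType.Lift

/-!
A group with central involution `z` whose Sylow 2-subgroups are the model, in which `σ` is fused to the centre of the
unitriangular part: the outer involutions of the unitriangular part are not fused to it, and the extraspecial
subgroup is strongly closed.

Blueprint: `blueprint/S1776.md`, part B.
-/

set_option autoImplicit false
set_option linter.unusedSectionVars false

namespace CfsgJTwo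

open Cfsg CfsgA8C

universe u

variable {X : Type u} [Group X] [Finite X]

/-- The setting of part B. -/
structure Ctx (X : Type u) [Group X] [Finite X] extends Emb X where
  zc : ∀ x : X, x * ι W.z = ι W.z * x
  hO : oddCore X = ⊥
  fus : ∃ (g : X) (a : W), W.IsV a ∧ g * ι W.σ * g⁻¹ = ι a

namespace Ctx

variable (D : Ctx X)

theorem conj_z (g : X) : g * D.ι W.z * g⁻¹ = D.ι W.z := by rw [D.zc g, mul_inv_cancel_right]

theorem conj_zero {x y : W} (hx : x = 1 ∨ x = W.z) (h : IsConj (D.ι x) (D.ι y)) : y = x := by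
  obtain ⟨g, hg⟩ := isConj_iff.mp h
  refine D.inj ?_
  rcases hx with rfl | rfl
  · rw [← hg, map_one]; simp
  · rw [← hg, D.conj_z]

theorem isConj_inner (a b : W) : IsConj (D.ι b) (D.ι (a * b * a⁻¹)) :=
  isConj_iff.mpr ⟨D.ι a, D.conj_map a b⟩

theorem v_conj_vz : IsConj (D.ι W.v) (D.ι (W.v * W.z)) := by
  have h := D.isConj_inner W.σ W.v
  rwa [W.σ_swap_v] at h

theorem V_conj {a : W} (ha : W.IsV a) : IsConj (D.ι a) (D.ι W.v) := by
  rcases ha with rfl | rfl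
  · exact IsConj.refl _
  · exact D.v_conj_vz.symm

theorem sig_conj_v {x : W} (hx : W.IsSig x) : IsConj (D.ι x) (D.ι W.v) := by
  obtain ⟨g, a, ha, hg⟩ := D.fus
  obtain ⟨c, hc⟩ := W.sig_conj x hx
  refine IsConj.trans ?_ ((isConj_iff.mpr ⟨g, hg⟩).trans (D.V_conj ha))
  exact (hc ▸ D.isConj_inner c W.σ).symm

theorem pt_conj_v (i : Fin 5) : IsConj (D.ι (W.pt i)) (D.ι W.v) :=
  (W.pt_type i).elim D.V_conj D.sig_conj_v

theorem ext_v : D.Ext W.v := by
  have := Fact.mk Nat.prime_two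
  obtain ⟨w, hw2, hconj, hext⟩ := D.exists_ext W.v W.v_sq
  intro h
  obtain ⟨P, hP1, hPC, hP, hidx⟩ := exists_sylow_in (X := Subgroup.centralizer ({D.ι W.v} : Set X))
    (R := (D.T : Subgroup X) ⊓ Subgroup.centralizer ({D.ι W.v} : Set X)) inf_le_right (D.T.2.to_le inf_le_left)
  obtain ⟨g, hg⟩ := into_top D.T hP
  obtain ⟨w', hw'⟩ := D.exists_pre (hg _ (hP1 ⟨D.mem_T W.v, mem_cent.mpr rfl⟩))
  have hw'z : w' ≠ W.z := fun e => by
    subst e
    exact W.v_ne_z (D.conj_zero (Or.inr rfl) ((isConj_iff.mpr ⟨g, hw'.symm⟩).symm))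
  have hw'1 : w' ≠ 1 := fun e => by
    subst e
    exact W.v_ne (D.conj_zero (Or.inl rfl) ((isConj_iff.mpr ⟨g, hw'.symm⟩).symm))
  have hw'2 : w' * w' = 1 := D.inj (by
    rw [map_mul, hw', conj_mul, ← map_mul, W.v_sq, map_one, mul_one, mul_inv_cancel])
  have hcard : (Finset.univ.filter fun y : W => y * w' = w' * y).card ≤ 64 := by
    rcases W.invol_cases w' hw'2 with e | e | e | e | e
    · exact absurd e hw'1
    · exact absurd e hw'z
    · rw [W.card_cent_v w' e]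
    · rw [W.card_cent_sig w' (Or.inl e)]; norm_num
    · rw [W.card_cent_sig w' (Or.inr e)]; norm_num
  have hle : P.map (MulAut.conj g).toMonoidHom ≤
      (D.T : Subgroup X) ⊓ Subgroup.centralizer ({D.ι w'} : Set X) := by
    rintro _ ⟨p, hp, rfl⟩
    refine Subgroup.mem_inf.mpr ⟨hg p hp, ?_⟩
    rw [hw']
    exact (cent_conj p).mp (hPC hp)
  have h1 := Subgroup.card_le_of_le hle
  rw [Subgroup.card_map_of_injective (MulAut.conj g).injective, D.card_cent] at h1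
  have h2 : Nat.card ↥((D.T : Subgroup X) ⊓ Subgroup.centralizer ({D.ι W.v} : Set X)) = 64 := by
    rw [D.card_cent, W.card_cent_v W.v (Or.inl rfl)]
  have heq : (D.T : Subgroup X) ⊓ Subgroup.centralizer ({D.ι W.v} : Set X) = P :=
    Subgroup.eq_of_le_of_card_ge hP1 (by omega)
  exact hidx (heq ▸ h)

/-- The Sylow subgroup of the normaliser of the first elementary subgroup is the unitriangular part. -/
theorem T_sylow_normA : ¬ 2 ∣ (D.sub W.Ts).relIndex (Subgroup.normalizer (D.sub W.A1s : Set X)) := by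
  have hTN : D.sub W.Ts ≤ Subgroup.normalizer (D.sub W.A1s : Set X) := by
    rintro _ ⟨x, hx, rfl⟩
    refine mem_norm_of ?_
    rintro _ ⟨y, hy, rfl⟩
    rw [D.conj_map]
    exact D.mem_sub.mpr ((W.A_normal_T x y hx).1 hy)
  obtain ⟨P, hTP, hPN, hP, hidx⟩ := exists_sylow_in hTN (D.sub_pGroup W.Ts)
  suffices P = D.sub W.Ts by rwa [this] at hidx
  obtain ⟨g, hg⟩ := into_top D.T hP
  set B := (D.sub W.A1s).map (MulAut.conj g).toMonoidHom
  have hAT : D.sub W.A1s ≤ D.sub W.Ts := Subgroup.map_mono fun x (hx : x ∈ W.A1s) => hx.1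
  have hB : B = D.sub W.A1s ∨ B = D.sub W.A2s := D.E16_cases (by
    rintro _ ⟨y, hy, rfl⟩
    simpa using hg y (hTP (hAT hy))) (by
    rintro _ ⟨_, ⟨b, hb, rfl⟩, rfl⟩
    rw [← map_mul, ← map_mul, W.A1_sq b hb, map_one, map_one]) (by
    rw [Subgroup.card_map_of_injective (MulAut.conj g).injective, D.card_A1s])
  have hle : P.map (MulAut.conj g).toMonoidHom ≤ D.sub W.Ts := by
    rintro _ ⟨p, hp, rfl⟩
    obtain ⟨y, hy⟩ := D.exists_pre (hg p hp)
    have hpB : ∀ b ∈ B, D.ι y * b * (D.ι y)⁻¹ ∈ B := by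
      rintro _ ⟨a, ha, rfl⟩
      refine ⟨p * a * p⁻¹, norm_conj (hPN hp) ha, ?_⟩
      rw [hy]
      simp [mul_assoc]
    simp only [MulEquiv.coe_toMonoidHom, MulAut.conj_apply]
    rw [← hy]
    refine D.mem_sub.mpr ?_
    by_contra hyT
    rcases hB with e | e <;> rw [e] at hpB
    · have := hpB (D.ι ⟨.e, 0, 0, false⟩) (D.mem_sub.mpr ⟨rfl, rfl⟩)
      rw [D.conj_map, D.mem_sub] at this
      exact (W.A_swap y hyT).1 this
    · have := hpB (D.ι ⟨0, .e, 0, false⟩) (D.mem_sub.mpr ⟨rfl, rfl⟩)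
      rw [D.conj_map, D.mem_sub] at this
      exact (W.A_swap y hyT).2 this
  have h1 := Subgroup.card_le_of_le hle
  rw [Subgroup.card_map_of_injective (MulAut.conj g).injective] at h1
  exact (Subgroup.eq_of_le_of_card_ge hTP h1).symm

theorem out_A1 {u : W} (hu : W.IsOut u) : ∃ u', W.IsA1 u' ∧ ¬ W.IsW0 u' ∧ IsConj (D.ι u) (D.ι u') := by
  rcases hu.1 with h | h
  · exact ⟨u, h, hu.2, IsConj.refl _⟩
  · refine ⟨W.σ * u * W.σ⁻¹, (W.σ_A u).2 h, fun h0 => hu.2 (W.inter u ?_ h), D.isConj_inner _ _⟩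
    have h3 := (W.σ_A _).2 (W.W0_le _ h0).2.1
    have e : W.σ * (W.σ * u * W.σ⁻¹) * W.σ⁻¹ = u := by
      have hσ : W.σ⁻¹ = W.σ := inv_eq_of_mul_eq_one_right W.σ_sq
      rw [hσ, show W.σ * (W.σ * u * W.σ) * W.σ = (W.σ * W.σ) * u * (W.σ * W.σ) by group, W.σ_sq, one_mul, mul_one]
    rwa [e] at h3

/-- An outer involution of the unitriangular part is not conjugate to `v`. -/
theorem not_out_v {u : W} (hu : W.IsOut u) : ¬ IsConj (D.ι u) (D.ι W.v) := by
  intro hconj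
  obtain ⟨u₁, hA, hW0, h1⟩ := D.out_A1 hu
  replace hconj : IsConj (D.ι u₁) (D.ι W.v) := h1.symm.trans hconj
  clear hu h1 u
  obtain ⟨g₀, hg₀, hgy⟩ := D.into_ext D.ext_v hconj
  -- an element normalising `A1` that moves `u₁` into `{v, vz}`
  obtain ⟨g, a, ha, hga, hgA⟩ : ∃ (g : X) (a : W), W.IsV a ∧ g * D.ι u₁ * g⁻¹ = D.ι a ∧
      ∀ y, W.IsA1 y → g * D.ι y * g⁻¹ ∈ D.sub W.A1s := by
    set B := (D.sub W.A1s).map (MulAut.conj g₀).toMonoidHom
    have hmem : ∀ y, W.IsA1 y → g₀ * D.ι y * g₀⁻¹ ∈ B := fun y hy => ⟨D.ι y, D.mem_sub.mpr hy, rfl⟩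
    rcases D.E16_cases (A := B) (by
      rintro _ ⟨_, ⟨b, hb, rfl⟩, rfl⟩
      obtain ⟨y', -, e⟩ := hgy b (W.A_comm b u₁ hb hA)
      simp only [MulEquiv.coe_toMonoidHom, MulAut.conj_apply]
      rw [e]; exact D.mem_T y') (by
      rintro _ ⟨_, ⟨b, hb, rfl⟩, rfl⟩
      rw [← map_mul, ← map_mul, W.A1_sq b hb, map_one, map_one]) (by
      rw [Subgroup.card_map_of_injective (MulAut.conj g₀).injective, D.card_A1s]) with e | e
    · exact ⟨g₀, W.v, Or.inl rfl, hg₀, fun y hy => e ▸ hmem y hy⟩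
    · refine ⟨D.ι W.σ * g₀, W.v * W.z, Or.inr rfl, ?_, fun y hy => ?_⟩
      · rw [← W.σ_swap_v, ← D.conj_map, ← hg₀]; group
      · obtain ⟨t, ht, hte⟩ : g₀ * D.ι y * g₀⁻¹ ∈ D.sub W.A2s := e ▸ hmem y hy
        rw [show D.ι W.σ * g₀ * D.ι y * (D.ι W.σ * g₀)⁻¹ = D.ι W.σ * (g₀ * D.ι y * g₀⁻¹) * (D.ι W.σ)⁻¹ by group,
          ← hte, D.conj_map]
        exact D.mem_sub.mpr ((W.σ_A t).2 ht)
  have hgN : g ∈ Subgroup.normalizer (D.sub W.A1s : Set X) := mem_norm_of fun e he => by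
    obtain ⟨y, hy, rfl⟩ := he
    exact hgA y hy
  have hua : u₁.a ≠ 0 := fun e => hW0 ((W.A1_zero u₁ hA).mp e)
  obtain ⟨b₁, a', hb1, hb2, ha'0, ha'ne⟩ := W.pr_choice u₁.a hua
  set w : W := ⟨a', 0, 0, false⟩ with hw
  have hwA : W.IsA1 w := ⟨rfl, rfl⟩
  obtain ⟨gv, hgv, hgve⟩ := hgA W.v ⟨rfl, rfl⟩
  obtain ⟨gw, hgw, hgwe⟩ := hgA w hwA
  -- all three images are independent modulo the centre
  have hback : ∀ x : W, W.IsA1 x → ∀ t, D.ι t = g * D.ι x * g⁻¹ → W.IsW0 t →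
      x = 1 ∨ x = W.z ∨ x = u₁ ∨ x = u₁ * W.z := by
    intro x _ t ht h0
    have hxe : D.ι x = g⁻¹ * D.ι t * g := by rw [ht]; group
    rcases W.W0_cases t h0 with rfl | rfl | hV
    · left
      refine D.inj ?_
      rw [hxe, map_one]; group
    · right; left
      refine D.inj ?_
      rw [hxe, mul_assoc, ← D.zc, inv_mul_cancel_left]
    · right; right
      have hu1e : D.ι u₁ = g⁻¹ * D.ι a * g := by rw [← hga]; group
      have hta : t = a ∨ t = a * W.z := by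
        rcases hV with rfl | rfl <;> rcases ha with rfl | rfl <;> decide
      rcases hta with rfl | rfl
      · left; exact D.inj (hxe.trans hu1e.symm)
      · right
        refine D.inj ?_
        rw [hxe, map_mul, map_mul, hu1e,
          show g⁻¹ * (D.ι a * D.ι W.z) * g = g⁻¹ * D.ι a * (D.ι W.z * g) by group, ← D.zc g]
        simp only [mul_assoc]
  have hA1coord : ∀ x, W.IsA1 x → x.a ≠ 0 → x.a ≠ u₁.a →
      x ≠ 1 ∧ x ≠ W.z ∧ x ≠ u₁ ∧ x ≠ u₁ * W.z := by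
    intro x _ h0 h1
    refine ⟨fun e => h0 (e ▸ rfl), fun e => h0 (e ▸ rfl), fun e => h1 (e ▸ rfl), fun e => h1 ?_⟩
    rw [e, W.A1_mul_a _ _ hA]
    exact add_zero _
  have hgv0 : gv.a ≠ 0 := fun e => by
    rcases hback W.v ⟨rfl, rfl⟩ gv hgve ((W.A1_zero gv hgv).mp e) with h | h | h | h
    · exact W.v_ne h
    · exact W.v_ne_z h
    · exact hua (h ▸ rfl)
    · refine hua ?_
      have h2 := congrArg W.a h
      rw [W.A1_mul_a _ _ hA, show W.z.a = 0 from rfl, add_zero] at h2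
      exact h2.symm
  have hgw0 : gw.a ≠ 0 := fun e => by
    obtain ⟨h1, h2, h3, h4⟩ := hA1coord w hwA ha'0 ha'ne
    rcases hback w hwA gw hgwe ((W.A1_zero gw hgw).mp e) with h | h | h | h <;> contradiction
  have hgne : gv.a ≠ gw.a := fun e => by
    have hvwA : W.IsA1 (W.v * w) := W.A1_mul _ _ ⟨rfl, rfl⟩ hwA
    have hte : D.ι (gv * gw) = g * D.ι (W.v * w) * g⁻¹ := by
      rw [map_mul, map_mul, hgve, hgwe, conj_mul]
    have ht0 : W.IsW0 (gv * gw) := (W.A1_zero _ (W.A1_mul _ _ hgv hgw)).mp (by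
      rw [W.A1_mul_a _ _ hgv, e, F4.add_self])
    have hx : (W.v * w).a = a' := by
      rw [W.A1_mul_a _ _ ⟨rfl, rfl⟩]
      exact zero_add a'
    obtain ⟨h1, h2, h3, h4⟩ := hA1coord _ hvwA (hx ▸ ha'0) (hx ▸ ha'ne)
    rcases hback _ hvwA _ hte ht0 with h | h | h | h <;> contradiction
  obtain ⟨b, hb1', hb2'⟩ := W.pr_pair gv.a gw.a hgv0 hgw0 hgne
  -- the two transvections
  set ya : X := D.ι ⟨0, b₁, 0, false⟩ with hya
  set yb : X := g⁻¹ * D.ι ⟨0, b, 0, false⟩ * g with hyb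
  have htr : ∀ (x : W) (c : F4), W.IsA1 x →
      ∃ ε : X, (ε = 1 ∨ ε = D.ι W.z) ∧ D.ι ⟨0, c, 0, false⟩ * D.ι x * (D.ι ⟨0, c, 0, false⟩)⁻¹ =
        (if W.pr (x.a * c) then D.ι x * D.ι W.v else D.ι x) * ε := by
    intro x c hx
    rw [D.conj_map]
    have h := W.conj_A1 x.a x.c c
    rw [← W.A1_coord x hx] at h
    rcases h with h | h <;> rw [h] <;> cases W.pr (x.a * c)
    · exact ⟨1, Or.inl rfl, by simp⟩
    · exact ⟨1, Or.inl rfl, by simp [map_mul]⟩
    · exact ⟨D.ι W.z, Or.inr rfl, by simp [map_mul]⟩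
    · exact ⟨D.ι W.z, Or.inr rfl, by simp [map_mul]⟩
  set Z := Subgroup.zpowers (D.ι W.z) with hZ
  haveI : Z.Normal := ⟨fun n hn x => by
    obtain ⟨i, rfl⟩ := hn
    show x * D.ι W.z ^ i * x⁻¹ ∈ Z
    rw [← conj_zpow, D.conj_z]
    exact ⟨i, rfl⟩⟩
  set π := QuotientGroup.mk' Z with hπ
  have hπz : ∀ ε : X, (ε = 1 ∨ ε = D.ι W.z) → π ε = 1 := by
    intro ε hε
    rcases hε with rfl | rfl
    · simp
    · exact (QuotientGroup.eq_one_iff _).mpr (Subgroup.mem_zpowers _)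
  have hπa : π (D.ι a) = π (D.ι W.v) := by
    rcases ha with rfl | rfl
    · rfl
    · rw [map_mul, map_mul, hπz _ (Or.inr rfl), mul_one]
  have hvv : π (D.ι W.v) * π (D.ι W.v) = 1 := by rw [← map_mul, ← map_mul, W.v_sq, map_one, map_one]
  have huu : π (D.ι u₁) * π (D.ι u₁) = 1 := by rw [← map_mul, ← map_mul, W.A1_sq u₁ hA, map_one, map_one]
  set V := π (D.ι W.v)
  set U := π (D.ι u₁)
  set Ω := π (D.ι w)
  have ea_v : π ya * V * (π ya)⁻¹ = V := by
    obtain ⟨ε, hε, e⟩ := htr W.v b₁ ⟨rfl, rfl⟩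
    rw [show W.v.a = 0 from rfl, zero_mul, show W.pr 0 = false from rfl] at e
    rw [hya, ← map_inv, ← map_mul, ← map_mul, e, map_mul, hπz ε hε, mul_one]
    rfl
  have ea_u : π ya * U * (π ya)⁻¹ = U := by
    obtain ⟨ε, hε, e⟩ := htr u₁ b₁ hA
    rw [hb1] at e
    rw [hya, ← map_inv, ← map_mul, ← map_mul, e, map_mul, hπz ε hε, mul_one]
    rfl
  have ea_w : π ya * Ω * (π ya)⁻¹ = Ω * V := by
    obtain ⟨ε, hε, e⟩ := htr w b₁ hwA
    rw [show w.a = a' from rfl, hb2, if_pos rfl] at e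
    rw [hya, ← map_inv, ← map_mul, ← map_mul, e, map_mul, hπz ε hε, mul_one, map_mul]
  have eg : ∀ x t : W, W.IsA1 t → D.ι t = g * D.ι x * g⁻¹ →
      π yb * π (D.ι x) * (π yb)⁻¹ = π (D.ι x) * (if W.pr (t.a * b) then U else 1) := by
    intro x t htA ht
    obtain ⟨ε, hε, e⟩ := htr t b htA
    have h1 : yb * D.ι x * yb⁻¹ = g⁻¹ * (D.ι ⟨0, b, 0, false⟩ * D.ι t * (D.ι ⟨0, b, 0, false⟩)⁻¹) * g := by
      rw [hyb, ht]; group
    rw [← map_inv, ← map_mul, ← map_mul, h1, e, map_mul, map_mul, map_mul, hπz ε hε, mul_one]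
    cases W.pr (t.a * b)
    · simp [ht, mul_assoc]
    · have hgU : (π g)⁻¹ * V * π g = U := by
        rw [show V = π (D.ι a) from hπa.symm, show U = π (D.ι u₁) from rfl, ← hga]
        simp [mul_assoc]
      simp only [if_true]
      rw [ht, ← hgU]
      simp only [map_mul, map_inv]
      group
      simp only [V, map_mul]
  have eb_v : π yb * V * (π yb)⁻¹ = V * U := by
    have h := eg W.v gv hgv hgve
    rwa [hb1', if_pos rfl] at h
  have eb_w : π yb * Ω * (π yb)⁻¹ = Ω := by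
    have h := eg w gw hgw hgwe
    rw [hb2'] at h
    simpa using h
  have eb_u : π yb * U * (π yb)⁻¹ = U := by
    have h := eg u₁ a (by rcases ha with rfl | rfl <;> decide) hga.symm
    rw [show a.a = 0 by rcases ha with rfl | rfl <;> rfl, zero_mul, show W.pr 0 = false from rfl] at h
    simpa using h
  set n := ya * yb with hn
  have hnN : n ∈ Subgroup.normalizer (D.sub W.A1s : Set X) := by
    have hy : ∀ c : F4, D.ι ⟨0, c, 0, false⟩ ∈ Subgroup.normalizer (D.sub W.A1s : Set X) := fun c =>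
      mem_norm_of fun e he => by
        obtain ⟨y, hy, rfl⟩ := he
        rw [D.conj_map]
        exact D.mem_sub.mpr ((W.A_normal_T ⟨0, c, 0, false⟩ y rfl).1 hy)
    exact mul_mem (hy b₁) (mul_mem (mul_mem (inv_mem hgN) (hy b)) hgN)
  -- `n²` is a transvection with centre `u₁`
  set N := π n with hN
  have cN : ∀ A B : X ⧸ Z, π yb * A * (π yb)⁻¹ = B → N * A * N⁻¹ = π ya * B * (π ya)⁻¹ := by
    intro A B h
    rw [hN, hn, map_mul, ← h]; group
  have n2u : N * N * U * (N * N)⁻¹ = U := by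
    have h1 : N * U * N⁻¹ = U := by rw [cN U U eb_u, ea_u]
    rw [show N * N * U * (N * N)⁻¹ = N * (N * U * N⁻¹) * N⁻¹ by group, h1, h1]
  have n2w : N * N * Ω * (N * N)⁻¹ = Ω * U := by
    have h1 : N * Ω * N⁻¹ = Ω * V := by rw [cN Ω Ω eb_w, ea_w]
    have h2 : N * V * N⁻¹ = V * U := by
      rw [cN V (V * U) eb_v, ← conj_mul, ea_v, ea_u]
    rw [show N * N * Ω * (N * N)⁻¹ = N * (N * Ω * N⁻¹) * N⁻¹ by group, h1, ← conj_mul, h1, h2,
      show Ω * V * (V * U) = Ω * (V * V) * U by group, hvv, mul_one]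
  have hiter : ∀ j : ℕ, (N * N) ^ j * Ω * ((N * N) ^ j)⁻¹ = Ω * U ^ j := by
    intro j
    induction j with
    | zero => simp
    | succ j ih =>
      have hU : (N * N) * U ^ j * (N * N)⁻¹ = U ^ j := by rw [← conj_pow, n2u]
      rw [pow_succ' (N * N), show N * N * (N * N) ^ j * Ω * (N * N * (N * N) ^ j)⁻¹ =
        (N * N) * ((N * N) ^ j * Ω * ((N * N) ^ j)⁻¹) * (N * N)⁻¹ by simp only [mul_inv_rev, mul_assoc],
        ih, ← conj_mul, n2w, hU, mul_assoc, ← pow_succ']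
  -- the 2-part of `n` squares to the centraliser of `A1`
  obtain ⟨k, m, hm, hkm⟩ := Nat.exists_eq_two_pow_mul_odd (orderOf_pos n).ne'
  set x := n ^ m with hx
  have hx2 : x ^ 2 ^ k = 1 := by
    rw [hx, ← pow_mul, mul_comm, ← hkm, pow_orderOf_eq_one]
  have hTN : D.sub W.Ts ≤ Subgroup.normalizer (D.sub W.A1s : Set X) := by
    rintro _ ⟨r, hr, rfl⟩
    refine mem_norm_of ?_
    rintro _ ⟨y, hy, rfl⟩
    rw [D.conj_map]
    exact D.mem_sub.mpr ((W.A_normal_T r y hr).1 hy)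
  obtain ⟨h, hh, hhx⟩ := conj_into hTN (D.sub_pGroup W.Ts) D.T_sylow_normA
    (R := Subgroup.zpowers x) (Subgroup.zpowers_le.mpr (pow_mem hnN m)) (two_elt_isPGroup hx2)
  obtain ⟨y, hy, hye⟩ := hhx x (Subgroup.mem_zpowers _)
  have hfix : x * x * D.ι w * (x * x)⁻¹ = D.ι w := by
    obtain ⟨r, hr, hre⟩ := norm_conj hh (D.mem_sub.mpr hwA : D.ι w ∈ D.sub W.A1s)
    have h1 : D.ι (y * y) * D.ι r * (D.ι (y * y))⁻¹ = D.ι r := by
      rw [D.conj_map, W.A_comm (y * y) r (W.W0_le _ (W.T_sq y hy)).1 hr, mul_inv_cancel_right]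
    rw [map_mul, hye, hre] at h1
    calc x * x * D.ι w * (x * x)⁻¹
        = h⁻¹ * (h * x * h⁻¹ * (h * x * h⁻¹) * (h * D.ι w * h⁻¹) * (h * x * h⁻¹ * (h * x * h⁻¹))⁻¹) * h := by group
      _ = h⁻¹ * (h * D.ι w * h⁻¹) * h := by rw [h1]
      _ = D.ι w := by group
  have hU1 : U ^ m = U := invol_pow huu m hm
  have hfin : Ω * U = Ω := by
    have h2 := hiter m
    rw [hU1, hN, ← map_mul, ← map_pow, ← map_mul, ← map_inv, ← map_mul] at h2
    rw [← h2, show (n * n) ^ m = x * x by rw [hx, (Commute.refl n).mul_pow], hfix]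
  obtain ⟨i, hi⟩ := (QuotientGroup.eq_one_iff _).mp (mul_eq_left.mp hfin)
  have hmem : D.ι u₁ ∈ D.sub W.W0s := hi ▸ zpow_mem (D.mem_sub.mpr (show W.IsW0 W.z from ⟨rfl, rfl, rfl⟩)) i
  exact hW0 (D.mem_sub.mp hmem)

/-- An involution conjugate to a point is a point. -/
theorem conj_v_cases {y : W} (h : IsConj (D.ι y) (D.ι W.v)) : W.IsV y ∨ W.IsSig y := by
  obtain ⟨g, hg⟩ := isConj_iff.mp h
  have hy2 : y * y = 1 := D.inj (by
    have h1 : g * (D.ι y * D.ι y) * g⁻¹ = 1 := by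
      rw [← conj_mul, hg, ← map_mul, W.v_sq, map_one]
    rw [map_mul, map_one]
    exact conj_eq_one_iff.mp h1)
  rcases W.invol_cases y hy2 with e | e | e | e | e
  · exact absurd (D.conj_zero (Or.inl e) h) (fun e' => W.v_ne (e'.trans e))
  · exact absurd (D.conj_zero (Or.inr e) h) (fun e' => W.v_ne_z (e'.trans e))
  · exact Or.inl e
  · exact Or.inr e
  · exact absurd h (D.not_out_v e)

/-- The extraspecial subgroup is strongly closed. -/
theorem Q_closed : IsStronglyClosed (D.sub W.Qs) (D.T : Subgroup X) := by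
  refine ⟨D.sub_le _, ?_⟩
  rintro _ ⟨x, hx, rfl⟩ g hg
  obtain ⟨y, hy⟩ := D.exists_pre hg
  rw [← hy]
  refine D.mem_sub.mpr ?_
  have hconj : IsConj (D.ι x) (D.ι y) := isConj_iff.mpr ⟨g, hy.symm⟩
  rcases W.Q_sq x hx with h | h
  · rcases W.invol_cases x h with e | e | e | e | e
    · rw [D.conj_zero (Or.inl e) hconj]; exact hx
    · rw [D.conj_zero (Or.inr e) hconj]; exact hx
    · rcases D.conj_v_cases (hconj.symm.trans (D.V_conj e)) with h' | h'
      · rcases h' with rfl | rfl <;> exact (show W.IsQ _ by decide)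
      · exact W.sig_Q y h'
    · rcases D.conj_v_cases (hconj.symm.trans (D.sig_conj_v e)) with h' | h'
      · rcases h' with rfl | rfl <;> exact (show W.IsQ _ by decide)
      · exact W.sig_Q y h'
    · exact absurd hx (W.out_not_Q x e)
  · refine W.sq_z_Q y (D.inj ?_)
    rw [map_mul, hy, conj_mul, ← map_mul, h, D.conj_z]

end Ctx

end CfsgJTwo
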