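import Cfsg.Agent.Lib.A8Classes.Cores
import Cfsg.Prelude.Def_TwoFusion

/-!
General tools for groups with the Sylow 2-subgroups of the Hall–Janko group: fusion of a strongly closed abelian
subgroup, groups with a normal 2-complement, extremal conjugates.

Blueprint: `blueprint/S1776.md`.
-/

set_option autoImplicit false
set_option linter.unusedSectionVars false

namespace CfsgJTwo

open Cfsg CfsgA8C

variable {G : Type*} [Group G]

theorem mem_cent {a x : G} : x ∈ Subgroup.centralizer ({a} : Set G) ↔ x * a = a * x :=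
  Subgroup.mem_centralizer_singleton_iff

theorem mem_norm_of {E : Subgroup G} [Finite G] {g : G} (h : ∀ e ∈ E, g * e * g⁻¹ ∈ E) :
    g ∈ Subgroup.normalizer (E : Set G) := by
  have e : E.map (MulAut.conj g).toMonoidHom = E := by
    refine Subgroup.eq_of_le_of_card_ge ?_ (Subgroup.card_map_of_injective (MulAut.conj g).injective).ge
    rintro _ ⟨e, he, rfl⟩
    simpa using h e he
  refine Subgroup.mem_normalizer_iff.mpr fun x => ⟨h x, fun hx => ?_⟩
  rw [← e] at hx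
  obtain ⟨y, hy, hyx⟩ := hx
  have : y = x := by simpa using hyx
  exact this ▸ hy

theorem norm_conj {E : Subgroup G} {g e : G} (hg : g ∈ Subgroup.normalizer (E : Set G)) (he : e ∈ E) :
    g * e * g⁻¹ ∈ E :=
  (Subgroup.mem_normalizer_iff.mp hg e).mp he

theorem invol_pow {x : G} (h : x * x = 1) (m : ℕ) (hm : Odd m) : x ^ m = x := by
  obtain ⟨k, rfl⟩ := hm
  rw [pow_succ, pow_mul, pow_two, h, one_pow, one_mul]

variable [Finite G]

theorem two_elt_isPGroup {x : G} {k : ℕ} (h : x ^ 2 ^ k = 1) : IsPGroup 2 (Subgroup.zpowers x) := by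
  rintro ⟨y, hy⟩
  obtain ⟨m, rfl⟩ := Subgroup.mem_zpowers_iff.mp hy
  refine ⟨k, Subtype.ext ?_⟩
  show (x ^ m) ^ 2 ^ k = 1
  rw [← zpow_natCast, ← zpow_mul, mul_comm, zpow_mul, zpow_natCast, h, one_zpow]

/-- Sylow conjugation inside a subgroup. -/
theorem conj_into {X P R : Subgroup G} (hPX : P ≤ X) (hP : IsPGroup 2 P) (hidx : ¬ 2 ∣ P.relIndex X)
    (hRX : R ≤ X) (hR : IsPGroup 2 R) : ∃ m ∈ X, ∀ r ∈ R, m * r * m⁻¹ ∈ P := by
  haveI := Fact.mk Nat.prime_two
  set Ps : Sylow 2 X := (hP.of_equiv (Subgroup.subgroupOfEquivOfLe hPX).symm).toSylow hidx with hPs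
  obtain ⟨R', hR'⟩ := (hR.of_equiv (Subgroup.subgroupOfEquivOfLe hRX).symm).exists_le_sylow
  obtain ⟨m, hm⟩ := MulAction.exists_smul_eq X R' Ps
  refine ⟨m, m.2, fun r hr => ?_⟩
  have h1 : m * ⟨r, hRX hr⟩ * m⁻¹ ∈ ((m • R' : Sylow 2 X) : Subgroup X) := by
    rw [Sylow.coe_subgroup_smul, Subgroup.pointwise_smul_def]
    exact ⟨_, hR' hr, rfl⟩
  rw [hm] at h1
  exact h1

/-- A Sylow subgroup of a subgroup, above a given 2-subgroup. -/
theorem exists_sylow_in {X R : Subgroup G} (hRX : R ≤ X) (hR : IsPGroup 2 R) :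
    ∃ P : Subgroup G, R ≤ P ∧ P ≤ X ∧ IsPGroup 2 P ∧ ¬ 2 ∣ P.relIndex X := by
  haveI := Fact.mk Nat.prime_two
  obtain ⟨P, hP⟩ := (hR.of_equiv (Subgroup.subgroupOfEquivOfLe hRX).symm).exists_le_sylow
  refine ⟨(P : Subgroup X).map X.subtype, fun r hr => ⟨⟨r, hRX hr⟩, hP hr, rfl⟩, Subgroup.map_subtype_le _,
    P.2.map _, ?_⟩
  rw [Subgroup.relIndex, Subgroup.subgroupOf, Subgroup.comap_map_eq_self_of_injective X.subtype_injective]
  exact P.not_dvd_index

/-- A 2-group is moved into a Sylow subgroup. -/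
theorem into_top (T : Sylow 2 G) {R : Subgroup G} (hR : IsPGroup 2 R) :
    ∃ g : G, ∀ r ∈ R, g * r * g⁻¹ ∈ (T : Subgroup G) := by
  haveI := Fact.mk Nat.prime_two
  obtain ⟨P, hP⟩ := hR.exists_le_sylow
  obtain ⟨g, hg⟩ := MulAction.exists_smul_eq G P T
  refine ⟨g, fun r hr => ?_⟩
  rw [← hg, Sylow.coe_subgroup_smul, Subgroup.pointwise_smul_def]
  exact ⟨r, hP hr, rfl⟩

/-- An element has a conjugate in the Sylow subgroup whose centraliser there is a Sylow subgroup of the centraliser. -/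
theorem exists_extremal (T : Sylow 2 G) {x : G} (hx : x ∈ (T : Subgroup G)) :
    ∃ g : G, g * x * g⁻¹ ∈ (T : Subgroup G) ∧
      (∀ t ∈ (T : Subgroup G), t * x = x * t → g * t * g⁻¹ ∈ (T : Subgroup G)) ∧
      ¬ 2 ∣ ((T : Subgroup G) ⊓ Subgroup.centralizer ({g * x * g⁻¹} : Set G)).relIndex
        (Subgroup.centralizer ({g * x * g⁻¹} : Set G)) := by
  haveI := Fact.mk Nat.prime_two
  set C := Subgroup.centralizer ({x} : Set G)
  obtain ⟨P, hTP, hPC, hP, hidx⟩ := exists_sylow_in (X := C) (R := (T : Subgroup G) ⊓ C) inf_le_right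
    (T.2.to_le inf_le_left)
  obtain ⟨g, hg⟩ := into_top T hP
  have hxP : x ∈ P := hTP ⟨hx, mem_cent.mpr rfl⟩
  refine ⟨g, hg x hxP, fun t ht htx => hg t (hTP ⟨ht, mem_cent.mpr htx⟩), ?_⟩
  set f : G →* G := (MulAut.conj g).toMonoidHom with hf
  have hC : C.map f = Subgroup.centralizer ({g * x * g⁻¹} : Set G) := by
    ext y
    rw [hf, Subgroup.mem_map_equiv, mem_cent, mem_cent, MulAut.conj_symm_apply]
    constructor
    · intro h
      calc y * (g * x * g⁻¹) = g * (g⁻¹ * y * g * x) * g⁻¹ := by group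
        _ = g * (x * (g⁻¹ * y * g)) * g⁻¹ := by rw [h]
        _ = g * x * g⁻¹ * y := by group
    · intro h
      calc g⁻¹ * y * g * x = g⁻¹ * (y * (g * x * g⁻¹)) * g := by group
        _ = g⁻¹ * (g * x * g⁻¹ * y) * g := by rw [h]
        _ = x * (g⁻¹ * y * g) := by group
  have hle : P.map f ≤ (T : Subgroup G) ⊓ Subgroup.centralizer ({g * x * g⁻¹} : Set G) := by
    refine le_inf ?_ (hC ▸ Subgroup.map_mono hPC)
    rintro _ ⟨p, hp, rfl⟩
    exact hg p hp
  intro h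
  refine hidx ?_
  rw [← Subgroup.relIndex_map_map_of_injective (f := f) P C (MulAut.conj g).injective]
  exact hC.symm ▸ h.trans (Subgroup.relIndex_dvd_of_le_left _ hle)

/-! ### A strongly closed subgroup -/

section Closed

variable {T : Sylow 2 G} {E : Subgroup G}

theorem sc_conj (hsc : IsStronglyClosed E (T : Subgroup G)) {g : G} (h : ∀ e ∈ E, g * e * g⁻¹ ∈ (T : Subgroup G)) :
    g ∈ Subgroup.normalizer (E : Set G) :=
  mem_norm_of fun e he => hsc.2 e he g (h e he)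

theorem sylow_le_norm (hsc : IsStronglyClosed E (T : Subgroup G)) :
    (T : Subgroup G) ≤ Subgroup.normalizer (E : Set G) := fun t ht =>
  sc_conj hsc fun e he => mul_mem (mul_mem ht (hsc.1 he)) (inv_mem ht)

/-- A 2-group containing a strongly closed subgroup normalises it. -/
theorem two_group_le_norm (hsc : IsStronglyClosed E (T : Subgroup G)) {R : Subgroup G} (hR : IsPGroup 2 R)
    (hER : E ≤ R) : R ≤ Subgroup.normalizer (E : Set G) := by
  obtain ⟨g, hg⟩ := into_top T hR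
  have hgE : g ∈ Subgroup.normalizer (E : Set G) := sc_conj hsc fun e he => hg e (hER he)
  intro r hr
  have h : g * r * g⁻¹ ∈ Subgroup.normalizer (E : Set G) := sylow_le_norm hsc (hg r hr)
  have h2 := mul_mem (mul_mem (inv_mem hgE) h) hgE
  simpa [mul_assoc] using h2

/-- Two conjugates of a strongly closed subgroup in a subgroup are conjugate in that subgroup. -/
theorem frattini (hsc : IsStronglyClosed E (T : Subgroup G)) {H : Subgroup G} (hEH : E ≤ H) {x : G}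
    (hx : ∀ e ∈ E, x * e * x⁻¹ ∈ H) : ∃ c ∈ H, c * x ∈ Subgroup.normalizer (E : Set G) := by
  haveI := Fact.mk Nat.prime_two
  have hE : IsPGroup 2 E := T.2.to_le hsc.1
  obtain ⟨R, hER, hRH, hR, hidx⟩ := exists_sylow_in hEH hE
  obtain ⟨c, hcH, hc⟩ := conj_into hRH hR hidx (R := E.map (MulAut.conj x).toMonoidHom)
    (by rintro _ ⟨e, he, rfl⟩; exact hx e he) (hE.map _)
  obtain ⟨g, hg⟩ := into_top T hR
  have hgE : g ∈ Subgroup.normalizer (E : Set G) := sc_conj hsc fun e he => hg e (hER he)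
  have h2 : g * (c * x) ∈ Subgroup.normalizer (E : Set G) := sc_conj hsc fun e he => by
    have := hg _ (hc _ ⟨e, he, rfl⟩)
    simpa [mul_assoc] using this
  refine ⟨c, hcH, ?_⟩
  have h3 := mul_mem (inv_mem hgE) h2
  simpa using h3

/-- Fusion in a strongly closed abelian subgroup takes place in its normaliser. -/
theorem conj_norm (hsc : IsStronglyClosed E (T : Subgroup G)) (hab : ∀ a ∈ E, ∀ b ∈ E, a * b = b * a) {g e : G}
    (he : e ∈ E) (hge : g * e * g⁻¹ ∈ E) :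
    ∃ n ∈ Subgroup.normalizer (E : Set G), n * e * n⁻¹ = g * e * g⁻¹ := by
  set f := g * e * g⁻¹ with hf
  obtain ⟨c, hc, hn⟩ := frattini hsc (H := Subgroup.centralizer ({f} : Set G))
    (fun a ha => mem_cent.mpr (hab a ha f hge)) (x := g) fun a ha => mem_cent.mpr (by
      rw [hf]
      calc g * a * g⁻¹ * (g * e * g⁻¹) = g * (a * e) * g⁻¹ := by group
        _ = g * (e * a) * g⁻¹ := by rw [hab a ha e he]
        _ = g * e * g⁻¹ * (g * a * g⁻¹) := by group)
  refine ⟨c * g, hn, ?_⟩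
  calc c * g * e * (c * g)⁻¹ = c * f * c⁻¹ := by rw [hf]; group
    _ = f * c * c⁻¹ := by rw [mem_cent.mp hc]
    _ = f := mul_inv_cancel_right _ _

end Closed

/-! ### Factorisations over the odd core -/

/-- Every element has a power of two power in the odd core. -/
def Nilp (X : Subgroup G) : Prop := ∀ x ∈ X, ∃ k : ℕ, x ^ 2 ^ k ∈ core X

theorem mul_pow_mem {X : Subgroup G} {n o : G} (hn : n ∈ X) (ho : o ∈ core X) (m : ℕ) :
    (n ^ m)⁻¹ * (n * o) ^ m ∈ core X := by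
  induction m with
  | zero => simp
  | succ m ih =>
    rw [pow_succ (n * o), pow_succ n,
      show (n ^ m * n)⁻¹ * ((n * o) ^ m * (n * o)) = n⁻¹ * ((n ^ m)⁻¹ * (n * o) ^ m) * n⁻¹⁻¹ * o by group]
    exact mul_mem (core_conj_mem (inv_mem hn) ih) ho

theorem ctl_mem {X N : Subgroup G} {g n o : G} (hg : g ∈ X) (ho : o ∈ core X) (e : g = n * o) : n ∈ X := by
  have : n = g * o⁻¹ := eq_mul_inv_of_mul_eq e.symm
  exact this ▸ mul_mem hg (inv_mem (core_le X ho))

theorem nilp_of_ctl {X P : Subgroup G} (hP : IsPGroup 2 P) (h : Ctl X P) : Nilp X := fun x hx => by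
  obtain ⟨n, hn, o, ho, rfl⟩ := h x hx
  obtain ⟨k, hk⟩ := hP ⟨n, hn⟩
  have hk' : n ^ 2 ^ k = 1 := by simpa using congrArg Subtype.val hk
  refine ⟨k, ?_⟩
  have hnX : n ∈ X := ctl_mem (N := P) hx ho rfl
  simpa [hk'] using mul_pow_mem hnX ho (2 ^ k)

theorem core_mono_of_normal {X₀ X₁ : Subgroup G} (h : X₀ ≤ X₁) (hn : ∀ x ∈ X₁, ∀ y ∈ X₀, x * y * x⁻¹ ∈ X₀) :
    core X₀ ≤ core X₁ :=
  le_core ((core_le X₀).trans h) (core_odd X₀) fun x hx d hd =>
    core_conj (X := X₀) (Y := X₀) (g := x) (fun y => ⟨hn x hx y, fun hy => by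
      have h2 := hn x⁻¹ (inv_mem hx) _ hy
      simpa [mul_assoc] using h2⟩) hd

theorem nilp_of_sq {X₀ X₁ : Subgroup G} (h : X₀ ≤ X₁) (hn : ∀ x ∈ X₁, ∀ y ∈ X₀, x * y * x⁻¹ ∈ X₀)
    (hsq : ∀ x ∈ X₁, x * x ∈ X₀) (hX : Nilp X₀) : Nilp X₁ := fun x hx => by
  obtain ⟨k, hk⟩ := hX _ (hsq x hx)
  refine ⟨k + 1, ?_⟩
  rw [pow_succ', pow_mul, pow_two]
  exact core_mono_of_normal h hn hk

/-- A group with normal 2-complement lies in every subgroup containing its core and a Sylow subgroup of it. -/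
theorem le_of_nilp {X M P : Subgroup G} (hX : Nilp X) (hc : core X ≤ M) (hPX : P ≤ X) (hPM : P ≤ M)
    (hidx : ¬ 2 ∣ P.relIndex X) : X ≤ M := by
  haveI := Fact.mk Nat.prime_two
  intro x hx
  by_contra hxM
  obtain ⟨k, hk⟩ := hX x hx
  -- the group generated by the core and `x`, modulo the core, is a 2-group
  haveI : Finite (X ⧸ oddCore X) := Quotient.finite _
  have hq : IsPGroup 2 (X ⧸ oddCore X) := fun q => by
    obtain ⟨y, rfl⟩ := QuotientGroup.mk_surjective q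
    obtain ⟨j, ⟨o, ho, e⟩⟩ := hX y y.2
    refine ⟨j, ?_⟩
    rw [← QuotientGroup.mk_pow, QuotientGroup.eq_one_iff]
    have : o = y ^ 2 ^ j := Subtype.ext (by simpa using e)
    exact this ▸ ho
  obtain ⟨n, hn⟩ := IsPGroup.iff_card.mp hq
  set M' : Subgroup X := M.subgroupOf X
  have h1 : oddCore X ≤ M' := fun o ho => hc ⟨o, ho, rfl⟩
  have h2 : M'.index ∣ 2 ^ n := by
    rw [← hn, ← Subgroup.index_eq_card]
    exact Subgroup.index_dvd_of_le h1
  have h3 : ¬ 2 ∣ M'.index := fun h => hidx (h.trans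
    (Subgroup.index_dvd_of_le (show P.subgroupOf X ≤ M' from fun p hp => hPM hp)))
  obtain ⟨j, -, hj⟩ := (Nat.dvd_prime_pow Nat.prime_two).mp h2
  have hj0 : j = 0 := by
    by_contra hj0
    exact h3 (hj ▸ dvd_pow_self 2 hj0)
  rw [hj0, pow_zero, Subgroup.index_eq_one] at hj
  exact hxM (show (⟨x, hx⟩ : X) ∈ M' from hj ▸ Subgroup.mem_top _)

/-- Passing the factorisation to an overgroup in which the subgroup is normal. -/
theorem ctl_overgroup {T : Sylow 2 G} {E X₀ X₁ : Subgroup G} (hsc : IsStronglyClosed E (T : Subgroup G))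
    (hE : E ≤ X₀) (h : X₀ ≤ X₁) (hn : ∀ x ∈ X₁, ∀ y ∈ X₀, x * y * x⁻¹ ∈ X₀)
    (hX : Ctl X₀ (Subgroup.normalizer (E : Set G))) : Ctl X₁ (Subgroup.normalizer (E : Set G)) := by
  intro x hx
  obtain ⟨c, hc, hm⟩ := frattini hsc hE (x := x) fun e he => hn x hx e (hE he)
  obtain ⟨n, hnN, o, ho, e⟩ := hX c hc
  have hn0 : n ∈ X₀ := ctl_mem (N := Subgroup.normalizer (E : Set G)) hc ho e
  refine ⟨n⁻¹ * (c * x), mul_mem (inv_mem hnN) hm, (n⁻¹ * (c * x))⁻¹ * o⁻¹ * (n⁻¹ * (c * x))⁻¹⁻¹, ?_, ?_⟩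
  · refine core_mono_of_normal h hn ?_
    have hk : (n⁻¹ * (c * x))⁻¹ ∈ X₁ := inv_mem (mul_mem (inv_mem (h hn0)) (mul_mem (h hc) hx))
    exact core_conj (X := X₀) (Y := X₀) (g := (n⁻¹ * (c * x))⁻¹) (fun y => ⟨hn _ hk y, fun hy => by
      have h2 := hn _ (inv_mem hk) _ hy
      simpa [mul_assoc] using h2⟩) (inv_mem ho)
  · rw [e]; group

end CfsgJTwo
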