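import Cfsg.Agent.Lib.JTwoType.Facts
import Cfsg.Agent.Lib.JTwoType.Tools
import Cfsg.Agent.Lib.TransferExtremal

/-!
A finite group with the model as a Sylow 2-subgroup: elementary subgroups, extremal elements, and the fusion of the
outer involution `σ` into the centraliser of `z`.

Blueprint: `blueprint/S1776.md`, part A.
-/

set_option autoImplicit false
set_option linter.unusedSectionVars false

namespace CfsgJTwo

open Cfsg CfsgA8C

universe u

variable {G : Type u} [Group G]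

/-- The model as a Sylow 2-subgroup. -/
structure Emb (G : Type u) [Group G] [Finite G] where
  ι : W →* G
  inj : Function.Injective ι
  T : Sylow 2 G
  range : ι.range = (T : Subgroup G)

/-- The embedding given by an isomorphism. -/
def Emb.ofEquiv {G : Type u} [Group G] [Finite G] (T : Sylow 2 G) (e : (T : Subgroup G) ≃* W) : Emb G where
  ι := (T : Subgroup G).subtype.comp e.symm.toMonoidHom
  inj := (T : Subgroup G).subtype_injective.comp e.symm.injective
  T := T
  range := by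
    ext x
    refine ⟨fun ⟨w, hw⟩ => hw ▸ (e.symm w).2, fun hx => ⟨e ⟨x, hx⟩, ?_⟩⟩
    show ((e.symm (e ⟨x, hx⟩) : (T : Subgroup G)) : G) = x
    rw [e.symm_apply_apply]

variable [Finite G] (D : Emb G)

namespace Emb

theorem mem_T (w : W) : D.ι w ∈ (D.T : Subgroup G) := D.range ▸ ⟨w, rfl⟩

theorem exists_pre {x : G} (hx : x ∈ (D.T : Subgroup G)) : ∃ w, D.ι w = x := by
  rw [← D.range] at hx; exact hx

theorem eq_iff {a b : W} : D.ι a = D.ι b ↔ a = b := D.inj.eq_iff

theorem comm_iff {a b : W} : D.ι a * D.ι b = D.ι b * D.ι a ↔ a * b = b * a := by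
  rw [← map_mul, ← map_mul, D.eq_iff]

theorem conj_map (a b : W) : D.ι a * D.ι b * (D.ι a)⁻¹ = D.ι (a * b * a⁻¹) := by
  rw [map_mul, map_mul, map_inv]

theorem ne_one {a : W} (h : a ≠ 1) : D.ι a ≠ 1 := fun e => h (D.inj (e.trans (map_one D.ι).symm))

theorem card_cent (w : W) :
    Nat.card ↥((D.T : Subgroup G) ⊓ Subgroup.centralizer ({D.ι w} : Set G)) =
      (Finset.univ.filter fun y : W => y * w = w * y).card := by
  classical
  have e : {y : W // y * w = w * y} ≃ ↥((D.T : Subgroup G) ⊓ Subgroup.centralizer ({D.ι w} : Set G)) := by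
    refine Equiv.ofBijective (fun y => ⟨D.ι y, D.mem_T y, mem_cent.mpr (D.comm_iff.mpr y.2)⟩) ⟨?_, ?_⟩
    · intro a b h
      exact Subtype.ext (D.inj (congrArg Subtype.val h))
    · rintro ⟨x, hx, hxc⟩
      obtain ⟨y, rfl⟩ := D.exists_pre hx
      exact ⟨⟨y, D.comm_iff.mp (mem_cent.mp hxc)⟩, rfl⟩
  rw [← Nat.card_congr e, Nat.card_eq_fintype_card, Fintype.card_subtype]

/-- The image of a subgroup of the model. -/
def sub (H : Subgroup W) : Subgroup G := H.map D.ι

theorem mem_sub {H : Subgroup W} {w : W} : D.ι w ∈ D.sub H ↔ w ∈ H := Subgroup.mem_map_iff_mem D.inj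

theorem sub_le (H : Subgroup W) : D.sub H ≤ (D.T : Subgroup G) := by
  rw [← D.range]; exact Subgroup.map_le_range D.ι H

theorem sub_pGroup (H : Subgroup W) : IsPGroup 2 (D.sub H) := D.T.2.to_le (D.sub_le H)

theorem card_sub (H : Subgroup W) [DecidablePred (· ∈ H)] :
    Nat.card ↥(D.sub H) = (Finset.univ.filter fun y : W => y ∈ H).card := by
  rw [sub, Subgroup.card_map_of_injective D.inj, Nat.card_eq_fintype_card, Fintype.card_subtype]

theorem card_Ts : Nat.card ↥(D.sub W.Ts) = 64 := by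
  haveI : DecidablePred (· ∈ W.Ts) := fun x => inferInstanceAs (Decidable (W.IsT x))
  rw [D.card_sub]
  convert W.card_T using 3
  exact Iff.rfl

theorem card_A1s : Nat.card ↥(D.sub W.A1s) = 16 := by
  haveI : DecidablePred (· ∈ W.A1s) := fun x => inferInstanceAs (Decidable (W.IsA1 x))
  rw [D.card_sub]
  convert W.card_A1 using 3
  exact Iff.rfl

theorem card_A2s : Nat.card ↥(D.sub W.A2s) = 16 := by
  haveI : DecidablePred (· ∈ W.A2s) := fun x => inferInstanceAs (Decidable (W.IsA2 x))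
  rw [D.card_sub]
  convert W.card_A2 using 3
  exact Iff.rfl

theorem card_Qs : Nat.card ↥(D.sub W.Qs) = 32 := by
  haveI : DecidablePred (· ∈ W.Qs) := fun x => inferInstanceAs (Decidable (W.IsQ x))
  rw [D.card_sub]
  convert W.card_Q using 3
  exact Iff.rfl

theorem card_T : Nat.card ↥(D.T : Subgroup G) = 128 := by
  rw [← D.range, ← W.card_W]
  exact Nat.card_congr (MonoidHom.ofInjective D.inj).toEquiv.symm

/-- The only elementary abelian subgroups of order sixteen. -/
theorem E16_cases {A : Subgroup G} (hA : A ≤ (D.T : Subgroup G)) (hsq : ∀ a ∈ A, a * a = 1)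
    (hc : Nat.card A = 16) : A = D.sub W.A1s ∨ A = D.sub W.A2s := by
  classical
  obtain ⟨w, hw, hout⟩ : ∃ w, D.ι w ∈ A ∧ W.IsOut w := by
    by_contra h
    push Not at h
    have hle : Nat.card A ≤ 12 := by
      rw [← W.card_not_out, ← Fintype.card_subtype, ← Nat.card_eq_fintype_card]
      refine Nat.card_le_card_of_injective (fun a => ⟨(D.exists_pre (hA a.2)).choose, ?_, ?_⟩) ?_
      · refine D.inj ?_
        rw [map_mul, (D.exists_pre (hA a.2)).choose_spec, map_one]
        exact hsq a a.2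
      · exact fun ho => h _ (by rw [(D.exists_pre (hA a.2)).choose_spec]; exact a.2) ho
      · intro a b e
        have e' := congrArg (fun t => D.ι t.1) e
        simp only [(D.exists_pre (hA a.2)).choose_spec, (D.exists_pre (hA b.2)).choose_spec] at e'
        exact Subtype.ext e'
    omega
  have hall : ∀ a ∈ A, ∀ y, D.ι y = a → y * w = w * y := fun a ha y e => D.comm_iff.mp (by
    rw [e]
    have h := invol_inv (hsq _ (mul_mem ha hw))
    rwa [mul_inv_rev, invol_inv (hsq _ hw), invol_inv (hsq a ha), eq_comm] at h)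
  rcases hout.1 with h1 | h2
  · left
    refine Subgroup.eq_of_le_of_card_ge (fun a ha => ?_) (by rw [D.card_A1s, hc])
    obtain ⟨y, rfl⟩ := D.exists_pre (hA ha)
    refine D.mem_sub.mpr ?_
    rcases W.cent_out w y hout (hall _ ha y rfl) with ⟨-, h⟩ | ⟨h, -⟩
    · exact h
    · exact absurd (W.inter w h1 h) hout.2
  · right
    refine Subgroup.eq_of_le_of_card_ge (fun a ha => ?_) (by rw [D.card_A2s, hc])
    obtain ⟨y, rfl⟩ := D.exists_pre (hA ha)
    refine D.mem_sub.mpr ?_
    rcases W.cent_out w y hout (hall _ ha y rfl) with ⟨h, -⟩ | ⟨-, h⟩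
    · exact absurd (W.inter w h h2) hout.2
    · exact h

/-- An element moving `Ts` into the Sylow subgroup normalises it. -/
theorem Ts_stable {g : G} (h : ∀ w, W.IsT w → g * D.ι w * g⁻¹ ∈ (D.T : Subgroup G)) {w : W} (hw : W.IsT w) :
    g * D.ι w * g⁻¹ ∈ D.sub W.Ts := by
  have key : ∀ (H : Subgroup W), (∀ a ∈ H, W.IsT a ∧ a * a = 1) → Nat.card ↥(D.sub H) = 16 →
      ∀ a ∈ H, g * D.ι a * g⁻¹ ∈ D.sub W.Ts := by
    intro H hH hc a ha
    set B := (D.sub H).map (MulAut.conj g).toMonoidHom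
    have hB : B ≤ (D.T : Subgroup G) := by
      rintro _ ⟨_, ⟨b, hb, rfl⟩, rfl⟩
      simpa using h b (hH b hb).1
    have hmem : g * D.ι a * g⁻¹ ∈ B := ⟨D.ι a, D.mem_sub.mpr ha, by simp⟩
    rcases D.E16_cases hB (by
      rintro _ ⟨_, ⟨b, hb, rfl⟩, rfl⟩
      rw [← map_mul, ← map_mul, (hH b hb).2, map_one, map_one]) (by
      rw [Subgroup.card_map_of_injective (MulAut.conj g).injective, hc]) with e | e
    · rw [e] at hmem
      exact Subgroup.map_mono (fun x (hx : x ∈ W.A1s) => (hx.1 : W.IsT x)) hmem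
    · rw [e] at hmem
      exact Subgroup.map_mono (fun x (hx : x ∈ W.A2s) => (hx.1 : W.IsT x)) hmem
  obtain ⟨p, q, hp, hq, rfl⟩ := W.T_mem hw
  rw [map_mul, ← conj_mul]
  exact mul_mem (key W.A1s (fun a ha => ⟨ha.1, W.A1_sq a ha⟩) D.card_A1s p hp)
    (key W.A2s (fun a ha => ⟨ha.1, W.A2_sq a ha⟩) D.card_A2s q hq)

/-- The centraliser in the Sylow subgroup is a Sylow subgroup of the centraliser. -/
def Ext (w : W) : Prop :=
  ¬ 2 ∣ ((D.T : Subgroup G) ⊓ Subgroup.centralizer ({D.ι w} : Set G)).relIndex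
    (Subgroup.centralizer ({D.ι w} : Set G))

theorem ext_z : D.Ext W.z := by
  intro h
  refine D.T.not_dvd_index (h.trans ?_)
  rw [inf_of_le_left (show (D.T : Subgroup G) ≤ Subgroup.centralizer ({D.ι W.z} : Set G) from fun x hx => by
    obtain ⟨y, rfl⟩ := D.exists_pre hx
    exact mem_cent.mpr (D.comm_iff.mpr (W.z_central y).symm))]
  exact Subgroup.relIndex_dvd_index_of_le (fun x hx => by
    obtain ⟨y, rfl⟩ := D.exists_pre hx
    exact mem_cent.mpr (D.comm_iff.mpr (W.z_central y).symm))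

/-- A conjugate of an extremal element is sent to it carrying its centraliser in the Sylow subgroup. -/
theorem into_ext {x w : W} (hw : D.Ext w) (h : IsConj (D.ι x) (D.ι w)) :
    ∃ g : G, g * D.ι x * g⁻¹ = D.ι w ∧
      ∀ y : W, y * x = x * y → ∃ y' : W, y' * w = w * y' ∧ g * D.ι y * g⁻¹ = D.ι y' := by
  obtain ⟨k, hk⟩ := isConj_iff.mp h
  set R := ((D.T : Subgroup G) ⊓ Subgroup.centralizer ({D.ι x} : Set G)).map (MulAut.conj k).toMonoidHom
  obtain ⟨m, hm, hmR⟩ := conj_into (X := Subgroup.centralizer ({D.ι w} : Set G))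
    (P := (D.T : Subgroup G) ⊓ Subgroup.centralizer ({D.ι w} : Set G)) inf_le_right (D.T.2.to_le inf_le_left) hw
    (R := R) (by
      rintro _ ⟨y, hy, rfl⟩
      rw [mem_cent, ← hk]
      simp only [MulEquiv.coe_toMonoidHom, MulAut.conj_apply]
      have h1 := mem_cent.mp hy.2
      calc k * y * k⁻¹ * (k * D.ι x * k⁻¹) = k * (y * D.ι x) * k⁻¹ := by group
        _ = k * (D.ι x * y) * k⁻¹ := by rw [h1]
        _ = k * D.ι x * k⁻¹ * (k * y * k⁻¹) := by group)
    ((D.T.2.to_le inf_le_left).map _)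
  refine ⟨m * k, ?_, fun y hy => ?_⟩
  · calc m * k * D.ι x * (m * k)⁻¹ = m * (k * D.ι x * k⁻¹) * m⁻¹ := by group
      _ = D.ι w * m * m⁻¹ := by rw [hk, mem_cent.mp hm]
      _ = D.ι w := mul_inv_cancel_right _ _
  · have h1 := hmR _ ⟨D.ι y, ⟨D.mem_T y, mem_cent.mpr (D.comm_iff.mpr hy)⟩, rfl⟩
    obtain ⟨y', hy'⟩ := D.exists_pre h1.1
    refine ⟨y', D.comm_iff.mp (by rw [hy']; exact mem_cent.mp h1.2), ?_⟩
    rw [hy']
    simp [mul_assoc]

theorem card_le_of_conj {x w : W} (hw : D.Ext w) (h : IsConj (D.ι x) (D.ι w)) :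
    (Finset.univ.filter fun y : W => y * x = x * y).card ≤ (Finset.univ.filter fun y : W => y * w = w * y).card := by
  classical
  obtain ⟨g, -, hg⟩ := D.into_ext hw h
  rw [← Fintype.card_subtype, ← Fintype.card_subtype]
  refine Fintype.card_le_of_injective (fun y : {y : W // y * x = x * y} =>
    (⟨(hg y.1 y.2).choose, (hg y.1 y.2).choose_spec.1⟩ : {y : W // y * w = w * y})) fun a b e => ?_
  have e' := congrArg (fun t : {y : W // y * w = w * y} => D.ι t.1) e
  simp only [← (hg a.1 a.2).choose_spec.2, ← (hg b.1 b.2).choose_spec.2] at e'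
  exact Subtype.ext (D.inj (by simpa using e'))

/-- Every involution of the Sylow subgroup has an extremal conjugate. -/
theorem exists_ext (x : W) (hx : x * x = 1) :
    ∃ w : W, w * w = 1 ∧ IsConj (D.ι x) (D.ι w) ∧ D.Ext w := by
  obtain ⟨g, hg, -, hext⟩ := exists_extremal D.T (D.mem_T x)
  obtain ⟨w, hw⟩ := D.exists_pre hg
  refine ⟨w, D.inj ?_, isConj_iff.mpr ⟨g, hw.symm⟩, ?_⟩
  · rw [map_mul, hw, conj_mul, ← map_mul, hx, map_one, mul_one, mul_inv_cancel]
  · rw [Ext, hw]; exact hext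

/-- `σ` is fused, in the centraliser of `z`, to the centre of the unitriangular part. -/
theorem sig_to_v (h2 : ∀ H : Subgroup G, H.Normal → H.index ≠ 2) :
    ∃ g : G, g * D.ι W.z = D.ι W.z * g ∧ ∃ a, W.IsV a ∧ g * D.ι W.σ * g⁻¹ = D.ι a := by
  classical
  have hidx : (D.sub W.Ts).relIndex (D.T : Subgroup G) = 2 := by
    have h := ((D.sub W.Ts).subgroupOf (D.T : Subgroup G)).card_mul_index
    rw [Nat.card_congr (Subgroup.subgroupOfEquivOfLe (D.sub_le _)).toEquiv, D.card_Ts, D.card_T] at h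
    show ((D.sub W.Ts).subgroupOf (D.T : Subgroup G)).index = 2
    omega
  obtain ⟨g₀, hg₀, -⟩ := CfsgLib.TransferExtremal.exists_conj h2 D.T (D.sub W.Ts) (D.sub_le _) hidx (D.ι W.σ)
    (by rw [pow_two, ← map_mul, W.σ_sq, map_one])
  obtain ⟨t, ht, hte⟩ := hg₀
  have hte' : IsConj (D.ι W.σ) (D.ι t) := isConj_iff.mpr ⟨g₀, hte.symm⟩
  obtain ⟨p, q, hp, hq, hpq, hp2⟩ := W.cent_σ_witness
  obtain ⟨w, hw2, hconj, hext⟩ := D.exists_ext W.σ W.σ_sq
  obtain ⟨g, hg, hgy⟩ := D.into_ext hext hconj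
  obtain ⟨p', hp', hgp⟩ := hgy p hp
  obtain ⟨q', hq', hgq⟩ := hgy q hq
  have hpq' : p' * q' ≠ q' * p' := fun e => hpq (D.inj (by
    have e1 := congrArg D.ι e
    rw [map_mul, map_mul, ← hgp, ← hgq, conj_mul, conj_mul] at e1
    rw [map_mul, map_mul]
    simpa using e1))
  -- the image of `z`
  set zz := p' * p' with hzz
  have hgz : g * D.ι W.z * g⁻¹ = D.ι zz := by
    rw [hzz, map_mul, ← hgp, conj_mul, ← map_mul, hp2]
  have hzz2 : zz * zz = 1 := D.inj (by
    rw [map_mul, ← hgz, conj_mul, ← map_mul, W.z_sq, map_one, mul_one, mul_inv_cancel])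
  have hzz1 : zz ≠ 1 := fun e => W.z_ne (D.inj (by
    rw [e, map_one, conj_eq_one_iff] at hgz
    rw [hgz, map_one]))
  have hzw : zz ≠ w := fun e => by
    have h1 : g * D.ι W.z * g⁻¹ = g * D.ι W.σ * g⁻¹ := by rw [hgz, hg, e]
    exact absurd (D.inj (mul_left_cancel (mul_right_cancel h1))) (by decide)
  have hzzW0 : W.IsW0 zz := W.sq_invol p' hzz2
  have hw1 : w ≠ 1 := fun e => by
    rw [e, map_one, conj_eq_one_iff] at hg
    exact D.ne_one (by decide) hg
  have hdone : ∀ k : G, W.IsW0 w → k * D.ι zz * k⁻¹ = D.ι W.z → (∀ y, W.IsW0 y → k * D.ι y * k⁻¹ ∈ D.sub W.W0s) →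
      ∃ g : G, g * D.ι W.z = D.ι W.z * g ∧ ∃ a, W.IsV a ∧ g * D.ι W.σ * g⁻¹ = D.ι a := by
    intro k hwW0 hk hkW
    obtain ⟨a, ha, hae⟩ := hkW w hwW0
    have hne : ∀ b : W, b ≠ w → D.ι a ≠ k * D.ι b * k⁻¹ := fun b hb e => hb (D.inj (by
      rw [hae] at e
      exact (mul_left_cancel (mul_right_cancel e)).symm))
    refine ⟨k * g, ?_, a, ?_, ?_⟩
    · rw [← mul_inv_eq_iff_eq_mul]
      calc k * g * D.ι W.z * (k * g)⁻¹ = k * (g * D.ι W.z * g⁻¹) * k⁻¹ := by group
        _ = D.ι W.z := by rw [hgz, hk]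
    · rcases W.W0_cases a ha with e | e | e
      · exact absurd (by rw [e, map_one, mul_one, mul_inv_cancel]) (hne 1 (Ne.symm hw1))
      · exact absurd (by rw [e, hk]) (hne zz hzw)
      · exact e
    · rw [hae, ← hg]; group
  have htrans : ∀ b : W, W.IsV b → IsConj (D.ι b) (D.ι W.z) →
      ∃ k : G, k * D.ι b * k⁻¹ = D.ι W.z ∧ ∀ y, W.IsW0 y → k * D.ι y * k⁻¹ ∈ D.sub W.W0s := by
    intro b hb hbz
    obtain ⟨k, hk, hky⟩ := D.into_ext D.ext_z hbz
    have hT : ∀ y, W.IsT y → k * D.ι y * k⁻¹ ∈ (D.T : Subgroup G) := fun y hy => by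
      obtain ⟨y', -, e⟩ := hky y ((W.cent_v b y hb).mpr hy)
      exact e ▸ D.mem_T y'
    refine ⟨k, hk, fun y hy => ?_⟩
    obtain ⟨y', hy', e⟩ := D.Ts_stable hT (W.W0_le y hy).2.2
    refine ⟨y', W.T_centre y' hy' fun r hr => ?_, e⟩
    -- `r` is the image of an element of `Ts`
    set B := (D.sub W.Ts).map (MulAut.conj k).toMonoidHom
    have hB : B = D.sub W.Ts := Subgroup.eq_of_le_of_card_ge (by
      rintro _ ⟨_, ⟨s, hs, rfl⟩, rfl⟩
      simpa using D.Ts_stable hT hs) (Subgroup.card_map_of_injective (MulAut.conj k).injective).ge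
    obtain ⟨_, ⟨s, hs, rfl⟩, hse⟩ : D.ι r ∈ B := hB ▸ D.mem_sub.mpr hr
    refine D.inj ?_
    rw [map_mul, map_mul, e, ← hse]
    simp only [MulEquiv.coe_toMonoidHom, MulAut.conj_apply]
    rw [conj_mul, conj_mul, ← map_mul, ← map_mul, W.W0_comm_T y s hy hs]
  rcases W.invol_cases w hw2 with e | e | e | e | e
  · exact absurd e hw1
  · -- `σ` goes to `z`, so `z` goes to the other points
    have hzzV : W.IsV zz := ((W.W0_cases zz hzzW0).resolve_left hzz1).resolve_left fun h => hzw (h.trans e.symm)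
    have hconjz : IsConj (D.ι zz) (D.ι W.z) := by
      refine isConj_iff.mpr ⟨g⁻¹, ?_⟩
      rw [← hgz]; group
    obtain ⟨k, hk, hkW⟩ := htrans zz hzzV hconjz
    exact hdone k (e ▸ by decide) hk hkW
  · rcases W.W0_cases zz hzzW0 with h | h | h
    · exact absurd h hzz1
    · refine ⟨g, ?_, w, e, hg⟩
      rw [h, mul_inv_eq_iff_eq_mul] at hgz
      exact hgz
    · obtain ⟨k, hk, hkW⟩ := htrans zz h (isConj_iff.mpr ⟨g⁻¹, by rw [← hgz]; group⟩)
      exact hdone k (by rcases e with rfl | rfl <;> decide) hk hkW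
  · -- `σ` extremal
    exfalso
    have hto : IsConj (D.ι t) (D.ι w) := hte'.symm.trans hconj
    have h16 := W.card_cent_sig w (Or.inl e)
    have ht2 : t * t = 1 := D.inj (by
      rw [map_mul, hte, conj_mul, ← map_mul, W.σ_sq, map_one, mul_one, mul_inv_cancel])
    have hle := D.card_le_of_conj hext hto
    rw [h16] at hle
    have htOut : W.IsOut t := by
      rcases W.invol_cases t ht2 with h | h | h | h | h
      · rw [h, map_one] at hte
        exact absurd (conj_eq_one_iff.mp hte.symm) (D.ne_one (by decide))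
      · rw [h] at hle
        have : (Finset.univ.filter fun y : W => y * W.z = W.z * y) = Finset.univ :=
          Finset.filter_true_of_mem fun y _ => (W.z_central y).symm
        rw [this, Finset.card_univ, ← Nat.card_eq_fintype_card, W.card_W] at hle
        omega
      · rw [W.card_cent_v t h] at hle
        omega
      · exact absurd ht (W.sig_not_T t h)
      · exact h
    obtain ⟨k, -, hky⟩ := D.into_ext hext hto
    have hcomm : ∀ a b : W, a * t = t * a → b * t = t * b → a * b = b * a := fun a b ha hb => by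
      rcases W.cent_out t a htOut ha with ⟨h1, ha1⟩ | ⟨h2, ha2⟩ <;>
        rcases W.cent_out t b htOut hb with ⟨h1', hb1⟩ | ⟨h2', hb2⟩
      · exact W.A_comm a b ha1 hb1
      · exact absurd (W.inter t h1 h2') htOut.2
      · exact absurd (W.inter t h1' h2) htOut.2
      · exact W.A_comm' a b ha2 hb2
    let φ : {y : W // y * t = t * y} → {y : W // y * w = w * y} :=
      fun y => ⟨(hky y.1 y.2).choose, (hky y.1 y.2).choose_spec.1⟩
    have hφ : Function.Injective φ := fun a b e => by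
      have e' := congrArg (fun r : {y : W // y * w = w * y} => D.ι r.1) e
      simp only [φ, ← (hky a.1 a.2).choose_spec.2, ← (hky b.1 b.2).choose_spec.2] at e'
      exact Subtype.ext (D.inj (by simpa using e'))
    have hbij : Function.Bijective φ := (Fintype.bijective_iff_injective_and_card φ).mpr ⟨hφ, by
      rw [Fintype.card_subtype, Fintype.card_subtype, h16, W.card_cent_sig t (Or.inr htOut)]⟩
    obtain ⟨⟨a, ha⟩, hae⟩ := hbij.2 ⟨p', hp'⟩
    obtain ⟨⟨b, hb⟩, hbe⟩ := hbij.2 ⟨q', hq'⟩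
    refine hpq' (D.inj ?_)
    rw [map_mul, map_mul, show p' = (φ ⟨a, ha⟩).1 by rw [hae], show q' = (φ ⟨b, hb⟩).1 by rw [hbe]]
    simp only [φ, ← (hky a ha).choose_spec.2, ← (hky b hb).choose_spec.2]
    rw [conj_mul, conj_mul, D.comm_iff.mpr (hcomm a b ha hb)]
  · exfalso
    rcases W.cent_out w p' e hp' with ⟨h1, ha1⟩ | ⟨h2, ha2⟩ <;>
      rcases W.cent_out w q' e hq' with ⟨h1', hb1⟩ | ⟨h2', hb2⟩
    · exact hpq' (W.A_comm p' q' ha1 hb1)
    · exact absurd (W.inter w h1 h2') e.2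
    · exact absurd (W.inter w h1' h2) e.2
    · exact hpq' (W.A_comm' p' q' ha2 hb2)

end Emb

end CfsgJTwo
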