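import Cfsg.Agent.Lib.JTwoType.Model

/-!
Facts on the model of the Sylow 2-subgroup of the Hall–Janko group, each checked on all elements.

Blueprint: `blueprint/S1776.md`.
-/

set_option autoImplicit false
set_option maxRecDepth 100000

namespace CfsgJTwo

open Equiv

namespace W

/-- The normal extraspecial subgroup. -/
def IsQ (x : W) : Prop := x.b = F4.fr x.a
/-- The unitriangular part. -/
def IsT (x : W) : Prop := x.s = false
/-- The centre of the unitriangular part. -/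
def IsW0 (x : W) : Prop := x.s = false ∧ x.a = 0 ∧ x.b = 0
/-- The first elementary abelian subgroup of order sixteen. -/
def IsA1 (x : W) : Prop := x.s = false ∧ x.b = 0
/-- The second elementary abelian subgroup of order sixteen. -/
def IsA2 (x : W) : Prop := x.s = false ∧ x.a = 0
/-- The involutions outside the unitriangular part. -/
def IsSig (x : W) : Prop := x.s = true ∧ x * x = 1
/-- The involutions of the unitriangular part outside its centre. -/
def IsOut (x : W) : Prop := (IsA1 x ∨ IsA2 x) ∧ ¬ IsW0 x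
/-- The involutions of the centre other than the central one. -/
def IsV (x : W) : Prop := x = W.v ∨ x = W.v * W.z

instance (x : W) : Decidable (IsQ x) := by unfold IsQ; infer_instance
instance (x : W) : Decidable (IsT x) := by unfold IsT; infer_instance
instance (x : W) : Decidable (IsW0 x) := by unfold IsW0; infer_instance
instance (x : W) : Decidable (IsA1 x) := by unfold IsA1; infer_instance
instance (x : W) : Decidable (IsA2 x) := by unfold IsA2; infer_instance
instance (x : W) : Decidable (IsSig x) := by unfold IsSig; infer_instance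
instance (x : W) : Decidable (IsOut x) := by unfold IsOut; infer_instance
instance (x : W) : Decidable (IsV x) := by unfold IsV; infer_instance

theorem Q_one : IsQ 1 := by decide
theorem Q_mul : ∀ x y : W, IsQ x → IsQ y → IsQ (x * y) := by decide +kernel
theorem Q_inv : ∀ x : W, IsQ x → IsQ x⁻¹ := by decide +kernel
theorem T_one : IsT 1 := by decide
theorem T_mul : ∀ x y : W, IsT x → IsT y → IsT (x * y) := by decide +kernel
theorem T_inv : ∀ x : W, IsT x → IsT x⁻¹ := by decide +kernel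
theorem W0_one : IsW0 1 := by decide
theorem W0_mul : ∀ x y : W, IsW0 x → IsW0 y → IsW0 (x * y) := by decide +kernel
theorem W0_inv : ∀ x : W, IsW0 x → IsW0 x⁻¹ := by decide +kernel
theorem A1_one : IsA1 1 := by decide
theorem A1_mul : ∀ x y : W, IsA1 x → IsA1 y → IsA1 (x * y) := by decide +kernel
theorem A1_inv : ∀ x : W, IsA1 x → IsA1 x⁻¹ := by decide +kernel
theorem A2_one : IsA2 1 := by decide
theorem A2_mul : ∀ x y : W, IsA2 x → IsA2 y → IsA2 (x * y) := by decide +kernel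
theorem A2_inv : ∀ x : W, IsA2 x → IsA2 x⁻¹ := by decide +kernel

/-- The extraspecial subgroup. -/
def Qs : Subgroup W where
  carrier := {x | IsQ x}
  one_mem' := Q_one
  mul_mem' := fun hx hy => Q_mul _ _ hx hy
  inv_mem' := fun hx => Q_inv _ hx

/-- The unitriangular subgroup. -/
def Ts : Subgroup W where
  carrier := {x | IsT x}
  one_mem' := T_one
  mul_mem' := fun hx hy => T_mul _ _ hx hy
  inv_mem' := fun hx => T_inv _ hx

/-- The centre of the unitriangular subgroup. -/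
def W0s : Subgroup W where
  carrier := {x | IsW0 x}
  one_mem' := W0_one
  mul_mem' := fun hx hy => W0_mul _ _ hx hy
  inv_mem' := fun hx => W0_inv _ hx

/-- The first elementary abelian subgroup of order sixteen, as a subgroup. -/
def A1s : Subgroup W where
  carrier := {x | IsA1 x}
  one_mem' := A1_one
  mul_mem' := fun hx hy => A1_mul _ _ hx hy
  inv_mem' := fun hx => A1_inv _ hx

/-- The second elementary abelian subgroup of order sixteen, as a subgroup. -/
def A2s : Subgroup W where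
  carrier := {x | IsA2 x}
  one_mem' := A2_one
  mul_mem' := fun hx hy => A2_mul _ _ hx hy
  inv_mem' := fun hx => A2_inv _ hx

theorem mem_Qs {x : W} : x ∈ Qs ↔ IsQ x := Iff.rfl
theorem mem_Ts {x : W} : x ∈ Ts ↔ IsT x := Iff.rfl
theorem mem_W0s {x : W} : x ∈ W0s ↔ IsW0 x := Iff.rfl
theorem mem_A1s {x : W} : x ∈ A1s ↔ IsA1 x := Iff.rfl
theorem mem_A2s {x : W} : x ∈ A2s ↔ IsA2 x := Iff.rfl

/-! Orders and centrality. -/

theorem z_central : ∀ x : W, z * x = x * z := by decide +kernel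
theorem center_cases : ∀ x : W, (∀ y : W, x * y = y * x) → x = 1 ∨ x = z := by decide +kernel
theorem z_sq : z * z = 1 := by decide
theorem v_sq : v * v = 1 := by decide
theorem σ_sq : σ * σ = 1 := by decide
theorem z_ne : z ≠ 1 := by decide
theorem v_ne : v ≠ 1 := by decide
theorem v_ne_z : v ≠ z := by decide
theorem z_Q : IsQ z := by decide
theorem v_Q : IsQ v := by decide
theorem σ_Q : IsQ σ := by decide
theorem σ_sig : IsSig σ := by decide
theorem σ_swap_v : σ * v * σ⁻¹ = v * z := by decide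
theorem z_T : IsT z := by decide
theorem v_T : IsT v := by decide
theorem σ_not_T : ¬ IsT σ := by decide

theorem invol_cases : ∀ x : W, x * x = 1 → x = 1 ∨ x = z ∨ IsV x ∨ IsSig x ∨ IsOut x := by decide +kernel
theorem sig_Q : ∀ x : W, IsSig x → IsQ x := by decide +kernel
theorem sig_not_T : ∀ x : W, IsSig x → ¬ IsT x := by decide +kernel
theorem sig_conj : ∀ x : W, IsSig x → ∃ g : W, g * σ * g⁻¹ = x := by decide +kernel
theorem out_not_Q : ∀ x : W, IsOut x → ¬ IsQ x := by decide +kernel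
theorem sq_z_Q : ∀ x : W, x * x = z → IsQ x := by decide +kernel
theorem Q_sq : ∀ x : W, IsQ x → x * x = 1 ∨ x * x = z := by decide +kernel
theorem T_sq : ∀ x : W, IsT x → IsW0 (x * x) := by decide +kernel
theorem T_invol : ∀ x : W, IsT x → x * x = 1 → IsA1 x ∨ IsA2 x := by decide +kernel
theorem W0_cases : ∀ x : W, IsW0 x → x = 1 ∨ x = z ∨ IsV x := by decide +kernel
theorem W0_le : ∀ x : W, IsW0 x → IsA1 x ∧ IsA2 x ∧ IsT x := by decide +kernel
theorem inter : ∀ x : W, IsA1 x → IsA2 x → IsW0 x := by decide +kernel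
theorem sq_invol : ∀ r : W, r * r * (r * r) = 1 → IsW0 (r * r) := by decide +kernel
theorem T_centre : ∀ x : W, IsT x → (∀ y : W, IsT y → x * y = y * x) → IsW0 x := by decide +kernel
theorem W0_comm_T : ∀ x y : W, IsW0 x → IsT y → x * y = y * x := by decide +kernel
theorem A1_sq : ∀ x : W, IsA1 x → x * x = 1 := by decide +kernel
theorem A2_sq : ∀ x : W, IsA2 x → x * x = 1 := by decide +kernel
theorem T_decomp : ∀ x : W, IsT x →
    x = (⟨x.a, 0, x.c + x.a * x.b, false⟩ : W) * ⟨0, x.b, 0, false⟩ := by decide +kernel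
theorem T_mem {x : W} (h : IsT x) : ∃ p q : W, IsA1 p ∧ IsA2 q ∧ x = p * q :=
  ⟨_, _, ⟨rfl, rfl⟩, ⟨rfl, rfl⟩, T_decomp x h⟩
theorem A_normal_T : ∀ x y : W, IsT x → (IsA1 y → IsA1 (x * y * x⁻¹)) ∧ (IsA2 y → IsA2 (x * y * x⁻¹)) := by
  decide +kernel
theorem Q_normal : ∀ x y : W, IsQ y → IsQ (x * y * x⁻¹) := by decide +kernel
theorem A_swap : ∀ x : W, ¬ IsT x →
    ¬ IsA1 (x * ⟨.e, 0, 0, false⟩ * x⁻¹) ∧ ¬ IsA2 (x * ⟨0, .e, 0, false⟩ * x⁻¹) := by decide +kernel
theorem σ_A : ∀ x : W, (IsA1 x → IsA2 (σ * x * σ⁻¹)) ∧ (IsA2 x → IsA1 (σ * x * σ⁻¹)) := by decide +kernel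

/-! Centralisers. -/

theorem cent_v : ∀ x y : W, IsV x → (y * x = x * y ↔ IsT y) := by decide +kernel
theorem cent_out : ∀ x y : W, IsOut x → y * x = x * y → (IsA1 x ∧ IsA1 y) ∨ (IsA2 x ∧ IsA2 y) := by decide +kernel
theorem A_comm : ∀ x y : W, IsA1 x → IsA1 y → x * y = y * x := by decide +kernel
theorem A_comm' : ∀ x y : W, IsA2 x → IsA2 y → x * y = y * x := by decide +kernel
theorem card_cent_sig : ∀ x : W, IsSig x ∨ IsOut x →
    (Finset.univ.filter fun y : W => y * x = x * y).card = 16 := by decide +kernel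
theorem card_cent_v : ∀ x : W, IsV x → (Finset.univ.filter fun y : W => y * x = x * y).card = 64 := by decide +kernel
theorem card_Q : (Finset.univ.filter fun y : W => IsQ y).card = 32 := by decide +kernel
theorem card_T : (Finset.univ.filter fun y : W => IsT y).card = 64 := by decide +kernel
theorem card_A1 : (Finset.univ.filter fun y : W => IsA1 y).card = 16 := by decide +kernel
theorem card_A2 : (Finset.univ.filter fun y : W => IsA2 y).card = 16 := by decide +kernel
theorem card_W0 : (Finset.univ.filter fun y : W => IsW0 y).card = 4 := by decide +kernel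
theorem card_not_out : (Finset.univ.filter fun y : W => y * y = 1 ∧ ¬ IsOut y).card = 12 := by decide +kernel

/-- Two elements of the centraliser of `σ` that do not commute, the first with square `z`. -/
theorem cent_σ_witness : ∃ p q : W, p * σ = σ * p ∧ q * σ = σ * q ∧ p * q ≠ q * p ∧ p * p = z :=
  ⟨⟨.e, .e, .w, false⟩, ⟨.w, .w2, .w, false⟩, by decide +kernel⟩

theorem comm_value : ∀ p q : W, IsA1 p → IsA2 q → p * q * p⁻¹ * q⁻¹ = ⟨0, 0, p.a * q.b, false⟩ := by decide +kernel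
theorem T_act : ∀ x w : W, IsT x → IsT w → (x * w * x⁻¹).a = w.a ∧ (x * w * x⁻¹).b = w.b := by decide +kernel
theorem W0_list : ∀ x : W, IsW0 x → x = 1 ∨ x = z ∨ x = v ∨ x = v * z := by decide +kernel

/-! Transvections in `A1`. -/

/-- The parity of the third coordinate modulo `z`. -/
def pr (x : F4) : Bool := decide (x = .w ∨ x = .w2)

theorem conj_A1 : ∀ (a c b : F4), (⟨0, b, 0, false⟩ : W) * ⟨a, 0, c, false⟩ * (⟨0, b, 0, false⟩ : W)⁻¹ =
    cond (pr (a * b)) (⟨a, 0, c, false⟩ * v) ⟨a, 0, c, false⟩ ∨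
    (⟨0, b, 0, false⟩ : W) * ⟨a, 0, c, false⟩ * (⟨0, b, 0, false⟩ : W)⁻¹ =
      cond (pr (a * b)) (⟨a, 0, c, false⟩ * v) ⟨a, 0, c, false⟩ * z := by decide +kernel
theorem pr_choice : ∀ a : F4, a ≠ 0 → ∃ b a' : F4, pr (a * b) = false ∧ pr (a' * b) = true ∧ a' ≠ 0 ∧ a' ≠ a := by
  decide +kernel
theorem pr_pair : ∀ a a' : F4, a ≠ 0 → a' ≠ 0 → a ≠ a' → ∃ b : F4, pr (a * b) = true ∧ pr (a' * b) = false := by
  decide +kernel
theorem A1_coord : ∀ x : W, IsA1 x → x = ⟨x.a, 0, x.c, false⟩ := by decide +kernel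
theorem A1_zero : ∀ x : W, IsA1 x → (x.a = 0 ↔ IsW0 x) := by decide +kernel
theorem A1_mul_a : ∀ x y : W, IsA1 x → (x * y).a = x.a + y.a := by decide +kernel

/-! The hyperplane of `A1` at an outer involution. -/

theorem A1_hyper : ∀ u x : W, IsA1 u → ¬ IsW0 u → IsA1 x → (x.a = 0 ∨ x.a = u.a) →
    x = 1 ∨ x = z ∨ x = v ∨ x = v * z ∨ x = u ∨ x = z * u ∨ x = v * u ∨ x = v * z * u := by decide +kernel
theorem coord_hyper : ∀ ua a a' : F4, ua ≠ 0 → a ≠ 0 → a ≠ ua → a' ≠ 0 → a' ≠ ua → a + a' = 0 ∨ a + a' = ua := by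
  decide +kernel

/-! The five points. -/

/-- Representatives of the five singular points modulo `z`. -/
def pt : Fin 5 → W :=
  ![v, σ, ⟨.e, .e, 0, true⟩, ⟨.w, .w2, 0, true⟩, ⟨.w2, .w, 0, true⟩]

theorem pt_mem : ∀ i, IsQ (pt i) ∧ pt i * pt i = 1 ∧ pt i ≠ 1 ∧ pt i ≠ z := by decide +kernel
theorem pt_inj : ∀ i j, (pt i = pt j ∨ pt i = pt j * z) → i = j := by decide +kernel
theorem pt_all : ∀ x : W, IsQ x → x * x = 1 → x = 1 ∨ x = z ∨ ∃ i, x = pt i ∨ x = pt i * z := by decide +kernel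
theorem pt_type : ∀ i, IsV (pt i) ∨ IsSig (pt i) := by decide +kernel
theorem Q_cases : ∀ x : W, IsQ x →
    x = 1 ∨ x = z ∨ (∃ i, x = pt i ∨ x = pt i * z) ∨ ∃ i j, i ≠ j ∧ (x = pt i * pt j ∨ x = pt i * pt j * z) := by
  decide +kernel
theorem pt_conj : ∀ (x : W) (i : Fin 5), ∃ j, x * pt i * x⁻¹ = pt j ∨ x * pt i * x⁻¹ = pt j * z := by decide +kernel
theorem pt_kernel : ∀ x : W, (∀ i, x * pt i * x⁻¹ = pt i ∨ x * pt i * x⁻¹ = pt i * z) → IsQ x := by decide +kernel
theorem pt_zero_fix : ∀ x : W, x * v * x⁻¹ = v ∨ x * v * x⁻¹ = v * z := by decide +kernel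
theorem pt_four : ∀ π ∈ [swap (1 : Fin 5) 2 * swap 3 4, swap 1 3 * swap 2 4, swap 1 4 * swap 2 3],
    ∃ x : W, x * x = 1 ∧ IsOut x ∧ ∀ i, x * pt i * x⁻¹ = pt (π i) ∨ x * pt i * x⁻¹ = pt (π i) * z := by
  decide +kernel
theorem edge_inj : ∀ i j k l : Fin 5, i ≠ j → k ≠ l →
    (pt i * pt j = pt k * pt l ∨ pt i * pt j = pt k * pt l * z) → (i = k ∧ j = l) ∨ (i = l ∧ j = k) := by
  decide +kernel
theorem edge_not_pt : ∀ i j k : Fin 5, i ≠ j → pt i * pt j ≠ 1 ∧ pt i * pt j ≠ z ∧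
    pt i * pt j ≠ pt k ∧ pt i * pt j ≠ pt k * z ∧ pt i * pt j * (pt i * pt j) = z := by decide +kernel
theorem edge_T : ∀ i j : Fin 5, i ≠ 0 → j ≠ 0 → IsT (pt i * pt j) := by decide +kernel
theorem edge_stab : ∀ i j : Fin 5, i ≠ j → (Finset.univ.filter fun y : W =>
    y * (pt i * pt j) = pt i * pt j * y ∨ y * (pt i * pt j) = pt i * pt j * y * z).card ≤ 64 := by decide +kernel
theorem edge_disjoint : ∀ i j a b : Fin 5, i ≠ j → a ≠ b → i ≠ a → i ≠ b → j ≠ a → j ≠ b →
    ∃ m, pt i * pt j * (pt a * pt b) = pt m ∨ pt i * pt j * (pt a * pt b) = pt m * z := by decide +kernel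
theorem coset_out : ∀ y : W, ¬ IsQ y → ∃ q, IsQ q ∧ IsOut (y * q) ∧ y * q * (y * q) = 1 := by decide +kernel
theorem Q_centre : ∀ x : W, IsQ x → (∀ y : W, IsQ y → x * y = y * x) → x = 1 ∨ x = z := by decide +kernel
theorem Q_cent_mod : ∀ x : W, (∀ y : W, IsQ y → x * y * x⁻¹ = y ∨ x * y * x⁻¹ = y * z) → IsQ x := by decide +kernel
theorem Q_comm : ∀ x y : W, IsQ x → IsQ y → x * y * x⁻¹ = y ∨ x * y * x⁻¹ = y * z := by decide +kernel
theorem Q_cent_one : ∀ x : W, (∀ q : W, IsQ q → x * q = q * x) → x = 1 ∨ x = z := by decide +kernel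
theorem Q_auto : ∀ b₀ b₁ b₂ b₃ : Bool, ∃ r : W, IsQ r ∧
    r * pt 0 * r⁻¹ = cond b₀ (pt 0 * z) (pt 0) ∧ r * pt 1 * r⁻¹ = cond b₁ (pt 1 * z) (pt 1) ∧
    r * pt 2 * r⁻¹ = cond b₂ (pt 2 * z) (pt 2) ∧ r * pt 3 * r⁻¹ = cond b₃ (pt 3 * z) (pt 3) := by decide +kernel
theorem Q_word : ∀ q : W, IsQ q → ∃ b₀ b₁ b₂ b₃ b₄ : Bool,
    q = cond b₀ (pt 0) 1 * cond b₁ (pt 1) 1 * cond b₂ (pt 2) 1 * cond b₃ (pt 3) 1 * cond b₄ z 1 := by decide +kernel
theorem Q_minus : ∀ x y : W, IsQ x → IsQ y → x * x = 1 → y * y = 1 → x * y = y * x → x ≠ 1 → x ≠ z →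
    y = 1 ∨ y = z ∨ y = x ∨ y = x * z := by decide +kernel
theorem coset_invol : ∀ x : W, ¬ IsQ x → x * x = 1 ∨ x * x = z → IsOut x := by decide +kernel

end W

end CfsgJTwo
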