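import Mathlib

/-!
The field of four elements, for the model of the Sylow 2-subgroup of the Hall–Janko group.
-/

set_option autoImplicit false

namespace CfsgJTwo

/-- The four elements. -/
inductive F4
  | o | e | w | w2
deriving DecidableEq

instance : Fintype F4 := ⟨⟨{.o, .e, .w, .w2}, by decide⟩, fun x => by cases x <;> decide⟩

namespace F4

def add : F4 → F4 → F4
  | o, x => x
  | x, o => x
  | e, e => o
  | w, w => o
  | w2, w2 => o
  | e, w => w2
  | w, e => w2
  | e, w2 => w
  | w2, e => w
  | w, w2 => e
  | w2, w => e

def mul : F4 → F4 → F4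
  | o, _ => o
  | _, o => o
  | e, x => x
  | x, e => x
  | w, w => w2
  | w2, w2 => w
  | w, w2 => e
  | w2, w => e

instance : Zero F4 := ⟨o⟩
instance : One F4 := ⟨e⟩
instance : Add F4 := ⟨add⟩
instance : Mul F4 := ⟨mul⟩
instance : Neg F4 := ⟨fun x => x⟩

instance : CommRing F4 where
  add_assoc := by decide
  zero_add := by decide
  add_zero := by decide
  add_comm := by decide
  nsmul := nsmulRec
  zsmul := zsmulRec
  neg_add_cancel := by decide
  mul_assoc := by decide
  one_mul := by decide
  mul_one := by decide
  mul_comm := by decide
  left_distrib := by decide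
  right_distrib := by decide
  zero_mul := by decide
  mul_zero := by decide

/-- The field automorphism. -/
def fr (x : F4) : F4 := x * x

theorem fr_fr : ∀ x : F4, fr (fr x) = x := by decide
theorem fr_add : ∀ x y : F4, fr (x + y) = fr x + fr y := by decide
theorem fr_mul : ∀ x y : F4, fr (x * y) = fr x * fr y := by decide
theorem add_self : ∀ x : F4, x + x = 0 := by decide
theorem fr_zero : fr (0 : F4) = 0 := by decide

theorem two_eq_zero : (2 : F4) = 0 := by
  rw [← one_add_one_eq_two]
  decide

end F4

end CfsgJTwo
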