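import Cfsg.Agent.Lib.JTwoType.Lift
import Cfsg.Agent.Lib.GW.Final
import Cfsg.Agent.Lib.GW.Model.Diag
import Cfsg.Agent.Lib.GW.Model.Pgl
import Cfsg.Agent.Lib.GW.Hyp
import Cfsg.Agent.Lib.Chev.Aut.FieldCyclic
import Cfsg.Agent.Lib.OddOrder.FeitThompson

/-!
In a core-free group with a Sylow four-group, the odd elements centralising the four-group commute with its normaliser:
they act on `PSL₂(q)` as field automorphisms.

Blueprint: `blueprint/S1776.md`, part C.
-/

set_option autoImplicit false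
set_option linter.unusedSectionVars false

namespace CfsgJTwo

open Cfsg CfsgA8C CfsgLib.GW

universe u

variable {Λ : Type u} [Group Λ] [Finite Λ]

/-- A two-group above a Sylow four-group is that group. -/
theorem le_of_sylow {V P : Subgroup Λ} (hidx : ¬ 2 ∣ V.index) (hVP : V ≤ P) (hP : IsPGroup 2 P) : P ≤ V := by
  haveI := Fact.mk Nat.prime_two
  intro x hx
  by_contra hxV
  have h1 : V.relIndex P ≠ 1 := fun h => hxV ((Subgroup.relIndex_eq_one.mp h) hx)
  obtain ⟨j, hj⟩ := (IsPGroup.iff_card.mp hP)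
  have h2 : V.relIndex P ∣ 2 ^ j := hj ▸ Subgroup.relIndex_dvd_card V P
  obtain ⟨i, -, hi⟩ := (Nat.dvd_prime_pow Nat.prime_two).mp h2
  have : 2 ∣ V.relIndex P := by
    rw [hi]
    exact dvd_pow_self 2 fun e => h1 (by rw [hi, e, pow_zero])
  exact hidx (this.trans (Subgroup.relIndex_dvd_index_of_le hVP))

/-- A normal subgroup of a core-free group has trivial core. -/
theorem core_normal_bot (hO : oddCore Λ = ⊥) {L : Subgroup Λ} [L.Normal] : core L = ⊥ := by
  haveI : (core L).Normal := ⟨fun o ho g =>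
    core_conj (X := L) (Y := L) (fun x => ⟨fun hx => (inferInstance : L.Normal).conj_mem x hx g, fun hx => by
      simpa [mul_assoc] using (inferInstance : L.Normal).conj_mem _ hx g⁻¹⟩) ho⟩
  exact le_bot_iff.mp (hO ▸ CfsgLib.le_oddCore (core_odd L))

/-- An element centralised by the odd automiser: a central involution makes the group equal to the four-group. -/
theorem top_of_central {V : Subgroup Λ} (hO : oddCore Λ = ⊥) (hV : ∀ a ∈ V, a * a = 1) (hcard : Nat.card V = 4)
    (hidx : ¬ 2 ∣ V.index) {c : Λ} (hcV : c ∈ V) (hc1 : c ≠ 1) (hc : ∀ x : Λ, x * c = c * x) (x : Λ) : x ∈ V := by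
  classical
  have hctl : Ctl (⊤ : Subgroup Λ) V := by
    refine burnside2 le_top hV (fun P h1 _ h3 => le_of_sylow hidx h1 h3) fun n _ hn a ha => ?_
    obtain ⟨p, y, hp, hy, hpy, ⟨k, hk⟩, hyo⟩ := two_odd_split n
    have hnN : n ∈ Subgroup.normalizer (V : Set Λ) := mem_norm_of hn
    have hpV : p ∈ V := le_of_sylow hidx le_sup_right
      (IsPGroup.to_sup_of_normal_right' (two_elt_isPGroup hk)
        (fun b => ⟨1, Subtype.ext (by simpa [pow_two] using hV _ b.2)⟩)
        (Subgroup.zpowers_le.mpr ((Subgroup.zpowers_le.mpr hnN) hp)))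
      (Subgroup.mem_sup_left (Subgroup.mem_zpowers p))
    have hyN : y ∈ Subgroup.normalizer (V : Set Λ) := (Subgroup.zpowers_le.mpr hnN) hy
    have key : ∀ b ∈ V, y * b = b * y := by
      intro b hb
      refine odd_comm_of_sq hyo ?_
      rw [← mul_inv_eq_iff_eq_mul]
      by_cases hbc : b = 1 ∨ b = c
      · rcases hbc with rfl | rfl
        · simp
        · rw [hc (y * y)]; group
      push Not at hbc
      obtain ⟨hb1, hbc⟩ := hbc
      have hlist : ∀ e ∈ V, e = 1 ∨ e = c ∨ e = b ∨ e = c * b := by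
        intro e he
        by_contra hne
        push Not at hne
        obtain ⟨e1, e2, e3, e4⟩ := hne
        have hsub : ({1, c, b, c * b, e} : Finset Λ) ⊆ (V : Set Λ).toFinite.toFinset := by
          intro t ht
          simp only [Finset.mem_insert, Finset.mem_singleton] at ht
          rw [Set.Finite.mem_toFinset, SetLike.mem_coe]
          rcases ht with rfl | rfl | rfl | rfl | rfl
          exacts [one_mem _, hcV, hb, mul_mem hcV hb, he]
        have h5 : ({1, c, b, c * b, e} : Finset Λ).card = 5 := by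
          have hcb1 : c * b ≠ 1 := fun h => hbc (mul_left_cancel (h.trans (hV c hcV).symm))
          have hcbc : c * b ≠ c := fun h => hb1 (mul_eq_left.mp h)
          have hcbb : c * b ≠ b := fun h => hc1 (mul_eq_right.mp h)
          simp [Finset.card_insert_of_notMem, Finset.mem_insert, hc1.symm, hb1.symm, hbc.symm, hcb1.symm, hcbc.symm,
            hcbb.symm, e1.symm, e2.symm, e3.symm, e4.symm]
        have := Finset.card_le_card hsub
        rw [h5, ← Set.ncard_eq_toFinset_card _ (V : Set Λ).toFinite, ← Nat.card_coe_set_eq] at this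
        change 5 ≤ Nat.card V at this
        omega
      have h1 : y * b * y⁻¹ ∈ V := norm_conj hyN hb
      have hne1 : y * b * y⁻¹ ≠ 1 := fun h => hb1 (conj_eq_one_iff.mp h)
      have hnec : y * b * y⁻¹ ≠ c := fun h => hbc (by
        rw [mul_inv_eq_iff_eq_mul, ← hc y] at h
        exact mul_left_cancel h)
      rw [show y * y * b * (y * y)⁻¹ = y * (y * b * y⁻¹) * y⁻¹ by group]
      rcases hlist _ h1 with e | e | e | e
      · exact absurd e hne1
      · exact absurd e hnec
      · rw [e, e]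
      · rw [e, ← conj_mul, hc y, mul_inv_cancel_right, e, ← mul_assoc, hV c hcV, one_mul]
    rw [hpy, show p * y * a * (p * y)⁻¹ = p * (y * a * y⁻¹) * p⁻¹ by group, key a ha, mul_inv_cancel_right,
      ea_comm_of_sq hV hpV ha, mul_inv_cancel_right]
  obtain ⟨m, hm, o, ho, rfl⟩ := hctl x (Subgroup.mem_top x)
  rw [core_top_eq, hO, Subgroup.mem_bot] at ho
  rwa [ho, mul_one]

theorem normal_of_solvable (hO : oddCore Λ = ⊥) {V : Subgroup Λ} (hV : ∀ a ∈ V, a * a = 1) (hcard : Nat.card V = 4)
    (hidx : ¬ 2 ∣ V.index) (hs : Group.IsSolvable Λ) : V.Normal := by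
  haveI := Fact.mk Nat.prime_two
  have hVp : IsPGroup 2 V := fun b => ⟨1, Subtype.ext (by simpa [pow_two] using hV _ b.2)⟩
  by_cases hΛ : Nat.card Λ ≤ 4
  · have : V = ⊤ := Subgroup.eq_top_of_le_card V (by omega)
    rw [this]; infer_instance
  obtain ⟨N, hN⟩ := (Group.isSolvable_def (G := Λ)).mp hs
  classical
  have hex : ∃ j, derivedSeries Λ j = ⊥ := ⟨N, hN⟩
  obtain ⟨j, hj⟩ : ∃ j, Nat.find hex = j + 1 := by
    refine ⟨Nat.find hex - 1, ?_⟩
    have h0 : Nat.find hex ≠ 0 := fun h => by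
      have h' := h ▸ Nat.find_spec hex
      rw [derivedSeries_zero] at h'
      have h1 : Nat.card Λ = 1 := by rw [← Subgroup.card_top (G := Λ), h', Subgroup.card_bot]
      omega
    omega
  set A := derivedSeries Λ j with hA
  have hAne : A ≠ ⊥ := fun h => by
    have := Nat.find_le (h := hex) h
    omega
  have hAab : ∀ a ∈ A, ∀ b ∈ A, a * b = b * a := by
    intro a ha b hb
    have h1 : ⁅A, A⁆ = ⊥ := by
      rw [hA, ← derivedSeries_succ, ← hj]
      exact Nat.find_spec hex
    have h2 := Subgroup.commutator_eq_bot_iff_le_centralizer.mp h1 ha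
    exact (h2 b hb).symm
  haveI hAn : A.Normal := derivedSeries_normal Λ j
  -- `A` is a two-group
  let B : Subgroup Λ :=
    { carrier := {a | a ∈ A ∧ Odd (orderOf a)}
      one_mem' := ⟨one_mem _, by simp⟩
      mul_mem' := fun {a b} ha hb => ⟨mul_mem ha.1 hb.1, by
        exact (ha.2.mul hb.2).of_dvd_nat (Commute.orderOf_mul_dvd_mul_orderOf (hAab a ha.1 b hb.1))⟩
      inv_mem' := fun {a} ha => ⟨inv_mem ha.1, by rw [orderOf_inv]; exact ha.2⟩ }
  haveI : B.Normal := ⟨fun a ha g => ⟨hAn.conj_mem a ha.1 g, by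
    rw [show orderOf (g * a * g⁻¹) = orderOf a from MulEquiv.orderOf_eq (MulAut.conj g) a]
    exact ha.2⟩⟩
  have hBodd : Odd (Nat.card B) := by
    rw [← Nat.not_even_iff_odd, even_iff_two_dvd]
    intro h
    obtain ⟨b, hb⟩ := exists_prime_orderOf_dvd_card' 2 h
    have := b.2.2
    rw [Subgroup.orderOf_coe, hb] at this
    exact absurd this (by decide)
  have hB : B = ⊥ := le_bot_iff.mp (hO ▸ CfsgLib.le_oddCore hBodd)
  have hA2 : IsPGroup 2 A := fun a => by
    obtain ⟨p, y, hp, hy, hpy, ⟨k, hk⟩, hyo⟩ := two_odd_split (a : Λ)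
    refine ⟨k, Subtype.ext ?_⟩
    have hy1 : y ∈ B := ⟨(Subgroup.zpowers_le.mpr a.2) hy, hyo⟩
    rw [hB, Subgroup.mem_bot] at hy1
    rw [hy1, mul_one] at hpy
    push_cast
    rw [hpy, hk]
  have hAV : A ≤ V := fun a ha => le_of_sylow hidx le_sup_right (hA2.to_sup_of_normal_left hVp)
    (Subgroup.mem_sup_left ha)
  obtain ⟨c, hcA, hc1⟩ := A.bot_or_exists_ne_one.resolve_left hAne
  by_cases hA4 : Nat.card A = 4
  · exact (Subgroup.eq_of_le_of_card_ge hAV (by omega) : A = V) ▸ hAn
  · have hA2' : Nat.card A = 2 := by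
      have h1 := Subgroup.card_dvd_of_le hAV
      rw [hcard] at h1
      have h2 : Nat.card A ≠ 1 := fun h => hAne (Subgroup.card_eq_one.mp h)
      have := Nat.le_of_dvd (by norm_num) h1
      have h3 : Nat.card A ≠ 3 := fun h => by rw [h] at h1; norm_num at h1
      have := Nat.card_pos (α := A)
      omega
    refine ⟨fun y _ g => top_of_central hO hV hcard hidx (hAV hcA) hc1 (fun g => ?_) _⟩
    have h := hAn.conj_mem c hcA g
    obtain ⟨b, -, hu⟩ := (Nat.card_eq_two_iff' (1 : A)).mp hA2'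
    have e1 := hu ⟨c, hcA⟩ fun e => hc1 (congrArg Subtype.val e)
    have e2 := hu ⟨_, h⟩ fun e => hc1 (conj_eq_one_iff.mp (congrArg Subtype.val e))
    exact mul_inv_eq_iff_eq_mul.mp (congrArg Subtype.val (e2.trans e1.symm))

theorem solvable_case (hO : oddCore Λ = ⊥) {V : Subgroup Λ} (hV : ∀ a ∈ V, a * a = 1) (hcard : Nat.card V = 4)
    (hidx : ¬ 2 ∣ V.index) (hs : Group.IsSolvable Λ) {x : Λ} (hx : ∀ a ∈ V, x * a = a * x)
    (hxo : Odd (orderOf x)) : x = 1 := by
  haveI := normal_of_solvable hO hV hcard hidx hs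
  set C := Subgroup.centralizer (V : Set Λ) with hC
  haveI : C.Normal := Subgroup.normal_centralizer
  have hVC : V ≤ C := fun a ha => Subgroup.mem_centralizer_iff.mpr fun b hb => ea_comm_of_sq hV hb ha
  have hctl : Ctl C V := burnside2 hVC hV (fun P h1 _ h3 => le_of_sylow hidx h1 h3)
    fun n hn _ a ha => by rw [← Subgroup.mem_centralizer_iff.mp hn a ha, mul_inv_cancel_right]
  obtain ⟨m, hm, o, ho, rfl⟩ := hctl x (Subgroup.mem_centralizer_iff.mpr fun a ha => (hx a ha).symm)
  rw [core_normal_bot hO, Subgroup.mem_bot] at ho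
  subst ho
  exact eq_one_of_odd_sq (hV _ (by rwa [mul_one])) hxo

/-- The odd elements centralising the Sylow four-group are centralised by its normaliser. -/
theorem field_comm (hO : oddCore Λ = ⊥) {V : Subgroup Λ} (hV : ∀ a ∈ V, a * a = 1) (hcard : Nat.card V = 4)
    (hidx : ¬ 2 ∣ V.index) {n x : Λ} (hn : n ∈ Subgroup.normalizer (V : Set Λ)) (hx : ∀ a ∈ V, x * a = a * x)
    (hxo : Odd (orderOf x)) : n * x * n⁻¹ = x := by
  haveI := Fact.mk Nat.prime_two
  have hVp : IsPGroup 2 V := fun b => ⟨1, Subtype.ext (by simpa [pow_two] using hV _ b.2)⟩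
  obtain ⟨k, hk⟩ := exists_perfect_derived Λ
  set L := derivedSeries Λ k with hL
  haveI := hk
  haveI : L.Normal := derivedSeries_normal Λ k
  by_cases hLb : L = ⊥
  · have hs : Group.IsSolvable Λ := (Group.isSolvable_def (G := Λ)).mpr ⟨k, hLb⟩
    rw [solvable_case hO hV hcard hidx hs hx hxo]; group
  -- the four-group lies in `L`
  have hLodd : ¬ Odd (Nat.card L) := fun h => by
    haveI := CfsgLib.OddOrder.feitThompson h
    obtain ⟨N, hN⟩ := (Group.isSolvable_def (G := L)).mp this
    rw [derived_eq_top_of_perfect] at hN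
    apply hLb
    rw [← Subgroup.card_eq_one, ← Subgroup.card_top (G := L), hN, Subgroup.card_bot]
  have hsylL : ∀ P : Subgroup Λ, V ⊓ L ≤ P → P ≤ L → IsPGroup 2 P → P ≤ V ⊓ L := by
    intro P h1 h2 h3
    obtain ⟨g, -, hg⟩ := conj_into (X := ⊤) (P := V) (R := P) le_top hVp
      (by rwa [Subgroup.relIndex_top_right]) le_top h3
    have h4 : Nat.card P ≤ Nat.card (V ⊓ L : Subgroup Λ) := by
      rw [← Subgroup.card_map_of_injective (f := (MulAut.conj g).toMonoidHom) (MulAut.conj g).injective]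
      refine Nat.le_of_dvd Nat.card_pos (Subgroup.card_dvd_of_le ?_)
      rintro _ ⟨p, hp, rfl⟩
      exact ⟨by simpa using hg p hp, (inferInstance : L.Normal).conj_mem p (h2 hp) g⟩
    exact le_of_eq (Subgroup.eq_of_le_of_card_ge h1 h4).symm
  have hVL : V ≤ L := by
    by_contra hVL
    have hlt : Nat.card (V ⊓ L : Subgroup Λ) ≤ 2 := by
      have h1 : Nat.card (V ⊓ L : Subgroup Λ) ∣ 4 := hcard ▸ Subgroup.card_dvd_of_le inf_le_left
      have h2 : Nat.card (V ⊓ L : Subgroup Λ) ≠ 4 := fun h =>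
        hVL (inf_eq_left.mp (Subgroup.eq_of_le_of_card_ge inf_le_left (by omega)))
      have := Nat.le_of_dvd (by norm_num) h1
      have h3 : Nat.card (V ⊓ L : Subgroup Λ) ≠ 3 := fun h => by rw [h] at h1; norm_num at h1
      omega
    have hctl : Ctl L (V ⊓ L) := by
      refine burnside2 inf_le_right (fun a ha => hV a ha.1) hsylL fun m hm hmn a ha => ?_
      by_cases ha1 : a = 1
      · subst ha1; simp
      have h2 : Nat.card (V ⊓ L : Subgroup Λ) = 2 := by
        have : Nat.card (V ⊓ L : Subgroup Λ) ≠ 1 := fun h =>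
          ha1 (Subgroup.mem_bot.mp (Subgroup.card_eq_one.mp h ▸ ha))
        have := Nat.card_pos (α := (V ⊓ L : Subgroup Λ))
        omega
      obtain ⟨b, -, hu⟩ := (Nat.card_eq_two_iff' (1 : (V ⊓ L : Subgroup Λ))).mp h2
      have e1 := hu ⟨a, ha⟩ fun e => ha1 (congrArg Subtype.val e)
      have e2 := hu ⟨_, hmn a ha⟩ fun e => ha1 (conj_eq_one_iff.mp (congrArg Subtype.val e))
      exact congrArg Subtype.val (e2.trans e1.symm)
    have hLle : L ≤ V ⊓ L := fun y hy => by
      obtain ⟨m, hm, o, ho, rfl⟩ := hctl y hy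
      rw [core_normal_bot hO, Subgroup.mem_bot] at ho
      rwa [ho, mul_one]
    have hcomm : ⁅L, L⁆ = ⊥ := Subgroup.commutator_eq_bot_iff_le_centralizer.mpr fun a ha b hb =>
      ea_comm_of_sq hV (hLle hb).1 (hLle ha).1
    exact hLb (by rw [← Subgroup.commutator_eq_self (H := L), hcomm])
  have hd : GWDihedral L := by
    have hidx' : ¬ 2 ∣ (V.subgroupOf L).index := fun h => hidx (h.trans (Subgroup.relIndex_dvd_index_of_le hVL))
    haveI : IsKleinFour ↥(V.subgroupOf L) := by
      have hc : Nat.card ↥(V.subgroupOf L) = 4 := by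
        rw [Nat.card_congr (Subgroup.subgroupOfEquivOfLe hVL).toEquiv, hcard]
      refine ⟨hc, ?_⟩
      haveI : Nontrivial ↥(V.subgroupOf L) := by
        rw [← Finite.one_lt_card_iff_nontrivial, hc]; norm_num
      refine Monoid.exponent_eq_prime_iff Nat.prime_two |>.mpr fun g hg => orderOf_eq_prime ?_ hg
      exact Subtype.ext (Subtype.ext (by simpa [pow_two] using hV _ g.2))
    obtain ⟨eD⟩ := IsKleinFour.nonempty_mulEquiv (G₁ := ↥(V.subgroupOf L)) (G₂ := DihedralGroup 2)
    exact ⟨(hVp.of_equiv (Subgroup.subgroupOfEquivOfLe hVL).symm).toSylow hidx', 2, le_rfl, ⟨eD⟩⟩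
  have hLO : oddCore L = ⊥ := by
    have h := core_normal_bot hO (L := L)
    rwa [core, Subgroup.map_eq_bot_iff_of_injective _ L.subtype_injective] at h
  have hodd : Odd (Nat.card (Subgroup.centralizer (L : Set Λ))) := by
    rw [← Nat.not_even_iff_odd, even_iff_two_dvd]
    intro h
    obtain ⟨c, hc⟩ := exists_prime_orderOf_dvd_card' 2 h
    rw [← Subgroup.orderOf_coe] at hc
    haveI : (Subgroup.centralizer (L : Set Λ)).Normal := Subgroup.normal_centralizer
    obtain ⟨g, -, hg⟩ := conj_into (X := ⊤) (P := V) (R := Subgroup.zpowers (c : Λ)) le_top hVp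
      (by rwa [Subgroup.relIndex_top_right]) le_top
      (two_elt_isPGroup (k := 1) (by rw [pow_one, ← hc, pow_orderOf_eq_one]))
    have hc' := hg _ (Subgroup.mem_zpowers _)
    have hcC := (inferInstance : (Subgroup.centralizer (L : Set Λ)).Normal).conj_mem _ c.2 g
    have hZ : (⟨_, hVL hc'⟩ : L) ∈ Subgroup.center L :=
      Subgroup.mem_center_iff.mpr fun l => Subtype.ext (hcC l l.2)
    have h2 := odd_orderOf hd.center_odd hZ
    rw [Subgroup.orderOf_mk, show orderOf (g * (c : Λ) * g⁻¹) = orderOf (c : Λ) from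
      MulEquiv.orderOf_eq (MulAut.conj g) _, hc] at h2
    exact absurd h2 (by decide)
  have hcore : oddCore L = Subgroup.center L := by
    rw [hLO, eq_comm, eq_bot_iff]
    intro y hy
    exact (hLO ▸ CfsgLib.le_oddCore hd.center_odd) hy
  have hdΛ : GWDihedral Λ := by
    haveI : IsKleinFour V := by
      refine ⟨hcard, ?_⟩
      haveI : Nontrivial V := by
        rw [← Finite.one_lt_card_iff_nontrivial, hcard]; norm_num
      refine Monoid.exponent_eq_prime_iff Nat.prime_two |>.mpr fun g hg => orderOf_eq_prime ?_ hg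
      exact Subtype.ext (by simpa [pow_two] using hV _ g.2)
    obtain ⟨eD⟩ := IsKleinFour.nonempty_mulEquiv (G₁ := V) (G₂ := DihedralGroup 2)
    exact ⟨hVp.toSylow hidx, 2, le_rfl, ⟨eD⟩⟩
  have hCL : Subgroup.centralizer (L : Set Λ) = ⊥ := by
    haveI : (Subgroup.centralizer (L : Set Λ)).Normal := Subgroup.normal_centralizer
    exact le_bot_iff.mp (hO ▸ CfsgLib.le_oddCore hodd)
  rcases exists_frame hdΛ L hcore (gwThm L hd) hodd with hfr | hfr
  · obtain ⟨fr⟩ := hfr
    haveI := CfsgLib.Chev.ringAut_cyclic_finite fr.F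
    have hxn : ∀ a ∈ V, (n * x * n⁻¹ * x⁻¹) * a = a * (n * x * n⁻¹ * x⁻¹) := by
      intro a ha
      have hb : n⁻¹ * a * n ∈ V := by simpa using norm_conj (inv_mem hn) ha
      have h1 : n * x * n⁻¹ * a = a * (n * x * n⁻¹) := by
        calc n * x * n⁻¹ * a = n * (x * (n⁻¹ * a * n)) * n⁻¹ := by group
          _ = n * ((n⁻¹ * a * n) * x) * n⁻¹ := by rw [hx _ hb]
          _ = a * (n * x * n⁻¹) := by group
      exact (show Commute (n * x * n⁻¹) a from h1).mul_left (show Commute x a from hx a ha).inv_left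
    set c := n * x * n⁻¹ * x⁻¹ with hc
    have hcd : c ∈ fr.diag := by
      rw [fr.mem_diag]
      set f := (CfsgLib.PSL2.fieldPart fr.p).comp fr.ψ
      show f c = 1
      obtain ⟨g, hg⟩ := IsCyclic.exists_generator (α := RingAut fr.F)
      obtain ⟨i, hi⟩ := Subgroup.mem_zpowers_iff.mp (hg (f n))
      obtain ⟨l, hl⟩ := Subgroup.mem_zpowers_iff.mp (hg (f x))
      rw [hc, map_mul, map_mul, map_mul, map_inv, map_inv, ← hi, ← hl, (Commute.zpow_zpow_self g i l).eq]
      group
    obtain ⟨a, ha, ha1⟩ := V.bot_or_exists_ne_one.resolve_left fun h => by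
      rw [h, Subgroup.card_bot] at hcard; omega
    obtain ⟨b, hb, hba⟩ : ∃ b ∈ V, b ∉ ({1, a} : Set Λ) := by
      by_contra h
      push Not at h
      have h2 := Set.ncard_le_ncard (s := (V : Set Λ)) (t := {1, a}) h (Set.toFinite _)
      rw [← Nat.card_coe_set_eq, Set.ncard_pair (Ne.symm ha1)] at h2
      change Nat.card V ≤ 2 at h2
      omega
    simp only [Set.mem_insert_iff, Set.mem_singleton_iff, not_or] at hba
    have hinj : ∀ y : fr.diag, fr.pgl y = 1 → (y : Λ) = 1 := fun y hy => by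
      have h := (fr.pgl_eq_one_iff y).mp hy
      rwa [hCL, Subgroup.mem_bot] at h
    have hinj' : ∀ y w : fr.diag, fr.pgl y = fr.pgl w → y = w := fun y w e => by
      have h := hinj (y⁻¹ * w) (by rw [map_mul, map_inv, e, inv_mul_cancel])
      exact inv_mul_eq_one.mp (Subtype.ext h)
    let a' : fr.diag := ⟨a, fr.L_le_diag (hVL ha)⟩
    let b' : fr.diag := ⟨b, fr.L_le_diag (hVL hb)⟩
    have hcomm : ∀ y w : fr.diag, (y : Λ) * w = w * y → fr.pgl y * fr.pgl w = fr.pgl w * fr.pgl y :=
      fun y w e => by rw [← map_mul, ← map_mul, show y * w = w * y from Subtype.ext e]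
    have hcV : c ∈ V := by
      rcases Model.centralizer_pair fr.odd fr.three_lt
        (τ := fr.pgl a') (σ := fr.pgl b') (x := fr.pgl ⟨c, hcd⟩)
        (by rw [← map_mul, show a' * a' = 1 from Subtype.ext (hV a ha), map_one])
        (fun e => ha1 (hinj _ e))
        (by rw [← map_mul, show b' * b' = 1 from Subtype.ext (hV b hb), map_one])
        (fun e => hba.1 (hinj _ e))
        (fun e => hba.2 (congrArg Subtype.val (hinj' _ _ e)))
        (hcomm b' a' (ea_comm_of_sq hV hb ha)) (hcomm ⟨c, hcd⟩ a' (hxn a ha)) (hcomm ⟨c, hcd⟩ b' (hxn b hb))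
        with e | e | e | e
      · exact (show c = 1 from hinj _ e) ▸ one_mem V
      · exact (show c = a from congrArg Subtype.val (hinj' _ _ e)) ▸ ha
      · exact (show c = b from congrArg Subtype.val (hinj' _ _ e)) ▸ hb
      · rw [← map_mul] at e
        exact (show c = a * b from congrArg Subtype.val (hinj' _ _ e)) ▸ mul_mem ha hb
    have e : n * x * n⁻¹ = c * x := by rw [hc, inv_mul_cancel_right]
    have hpow : (n * x * n⁻¹) ^ orderOf x = 1 := by rw [conj_pow, pow_orderOf_eq_one]; group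
    rw [e, (show Commute c x from (hx c hcV).symm).mul_pow, pow_orderOf_eq_one, mul_one,
      invol_pow (hV c hcV) _ hxo] at hpow
    rw [e, hpow, one_mul]
  · obtain ⟨fr⟩ := hfr
    have h1 : Nat.card (alternatingGroup (Fin 7)) ∣ Nat.card L := by
      have := Subgroup.card_map_dvd L fr.π
      rwa [fr.map_L, Subgroup.card_top] at this
    rw [nat_card_alternatingGroup, Nat.card_fin] at h1
    have h2 := (show 8 ∣ Nat.factorial 7 / 2 by decide).trans (h1.trans L.card_subgroup_dvd_card)
    rw [← V.card_mul_index, hcard] at h2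
    exact absurd ((Nat.mul_dvd_mul_iff_left (by norm_num : 0 < 4)).mp (show 4 * 2 ∣ 4 * V.index by simpa using h2))
      hidx

end CfsgJTwo
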