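import Cfsg.Agent.Lib.JTwoType.Shape
import Cfsg.Agent.Lib.PSolvable

/-!
The centraliser of the central involution modulo its odd core, as a setting for part B.

Blueprint: `blueprint/S1776.md`.
-/

set_option autoImplicit false
set_option linter.unusedSectionVars false

namespace CfsgJTwo

open Cfsg CfsgA8C

universe u

variable {G : Type u} [Group G] [Finite G] (D : Emb G)

namespace Emb

/-- The centraliser of the central involution. -/
abbrev Cz : Subgroup G := Subgroup.centralizer ({D.ι W.z} : Set G)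

theorem ι_mem_Cz (w : W) : D.ι w ∈ D.Cz := mem_cent.mpr (D.comm_iff.mpr (W.z_central w).symm)

/-- The embedding in the centraliser. -/
def ιC : W →* D.Cz := D.ι.codRestrict D.Cz D.ι_mem_Cz

theorem ιC_inj : Function.Injective D.ιC := fun _ _ h => D.inj (congrArg Subtype.val h)

/-- The embedding in the quotient by the odd core. -/
def ιX : W →* ↥D.Cz ⧸ oddCore ↥D.Cz := (QuotientGroup.mk' _).comp D.ιC

theorem ιX_inj : Function.Injective D.ιX := by
  refine (injective_iff_map_eq_one _).mpr fun w hw => ?_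
  have h1 : D.ιC w ∈ oddCore ↥D.Cz := (QuotientGroup.eq_one_iff _).mp hw
  have h2 : orderOf (D.ιC w) = orderOf w := orderOf_injective D.ιC D.ιC_inj w
  have h3 := odd_orderOf CfsgLib.odd_card_oddCore h1
  have h4 : orderOf w ∣ 2 ^ 7 := by
    have := orderOf_dvd_natCard w
    rwa [W.card_W] at this
  obtain ⟨j, -, hj⟩ := (Nat.dvd_prime_pow Nat.prime_two).mp h4
  rw [h2, hj] at h3
  rcases Nat.eq_zero_or_pos j with rfl | hj0
  · exact orderOf_eq_one_iff.mp (by simpa using hj)
  · exact absurd h3 (Nat.not_odd_iff_even.mpr (even_iff_two_dvd.mpr (dvd_pow_self 2 hj0.ne')))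

theorem range_le_Cz : (D.T : Subgroup G) ≤ D.Cz := fun x hx => by
  obtain ⟨w, rfl⟩ := D.exists_pre hx
  exact D.ι_mem_Cz w

theorem index_ιC : ¬ 2 ∣ D.ιC.range.index := by
  have := Fact.mk Nat.prime_two
  have e : D.ιC.range = (D.T : Subgroup G).subgroupOf D.Cz := by
    ext x
    constructor
    · rintro ⟨w, rfl⟩
      exact D.mem_T w
    · intro hx
      obtain ⟨w, hw⟩ := D.exists_pre hx
      exact ⟨w, Subtype.ext hw⟩
  rw [e]
  exact fun h => D.T.not_dvd_index (h.trans (Subgroup.relIndex_dvd_index_of_le D.range_le_Cz))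

/-- The Sylow subgroup of the centraliser. -/
noncomputable def sylC : Sylow 2 D.Cz :=
  haveI := Fact.mk Nat.prime_two
  (IsPGroup.of_card (n := 7) (by
    rw [Nat.card_congr (MonoidHom.ofInjective D.ιC_inj).toEquiv.symm, W.card_W]; rfl) :
      IsPGroup 2 D.ιC.range).toSylow D.index_ιC

/-- The Sylow subgroup of the quotient. -/
noncomputable def sylX : Sylow 2 (↥D.Cz ⧸ oddCore ↥D.Cz) :=
  haveI := Fact.mk Nat.prime_two
  D.sylC.mapSurjective (QuotientGroup.mk'_surjective _)

/-- The setting of part B in the centraliser modulo its odd core. -/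
noncomputable def ctx (h2 : ∀ H : Subgroup G, H.Normal → H.index ≠ 2) : Ctx (↥D.Cz ⧸ oddCore ↥D.Cz) where
  ι := D.ιX
  inj := D.ιX_inj
  T := D.sylX
  range := by
    show D.ιX.range = D.ιC.range.map (QuotientGroup.mk' _)
    rw [ιX, MonoidHom.range_comp]
  zc x := by
    obtain ⟨x, rfl⟩ := QuotientGroup.mk'_surjective _ x
    show QuotientGroup.mk' _ x * QuotientGroup.mk' _ (D.ιC W.z) = QuotientGroup.mk' _ (D.ιC W.z) * QuotientGroup.mk' _ x
    rw [← map_mul, ← map_mul]
    exact congrArg _ (Subtype.ext (mem_cent.mp x.2))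
  hO := CfsgLib.pPrimeCore_quotient_eq_bot 2
  fus := by
    obtain ⟨g, hg, a, ha, e⟩ := D.sig_to_v h2
    refine ⟨QuotientGroup.mk' (oddCore ↥D.Cz) (⟨g, mem_cent.mpr hg⟩ : D.Cz), a, ha, ?_⟩
    show QuotientGroup.mk' (oddCore ↥D.Cz) (⟨g, mem_cent.mpr hg⟩ : D.Cz) * QuotientGroup.mk' _ (D.ιC W.σ) *
        (QuotientGroup.mk' _ (⟨g, mem_cent.mpr hg⟩ : D.Cz))⁻¹ = QuotientGroup.mk' _ (D.ιC a)
    rw [← map_inv, ← map_mul, ← map_mul]
    exact congrArg _ (Subtype.ext e)

/-- A central involution of the Sylow subgroup is the image of `z`. -/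
theorem eq_z {z : G} (hz : orderOf z = 2) (hzT : z ∈ (D.T : Subgroup G))
    (hzc : ∀ s ∈ (D.T : Subgroup G), s * z = z * s) : z = D.ι W.z := by
  obtain ⟨w, rfl⟩ := D.exists_pre hzT
  rcases W.center_cases w fun y => (D.comm_iff.mp (hzc _ (D.mem_T y))).symm with e | e
  · rw [e, map_one, orderOf_one] at hz; omega
  · rw [e]

end Emb

end CfsgJTwo
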