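import Mathlib
import Cfsg.Agent.Lib.Signalizer.Functor

/-!
The functor attached to a balanced family of subgroups of odd order on an elementary abelian group: the construction
for `k`-balanced groups with the cores replaced by an arbitrary family.

Blueprint: `blueprint/S1776.md`, part C.
-/

set_option autoImplicit false
set_option linter.unusedSectionVars false

namespace CfsgJTwo.Fun

open Cfsg Subgroup CfsgLib CfsgLib.Signalizer
open scoped commutatorElement

universe u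
variable {G : Type u} [Group G] [Finite G] {p k : ℕ} [Fact p.Prime] {A : Subgroup G} {Ω : G → Subgroup G}

/-- The intersection of the members of the family at the non-trivial elements. -/
def Del (Ω : G → Subgroup G) (E : Subgroup G) : Subgroup G := ⨅ e : {e : G // e ∈ E ∧ e ≠ 1}, Ω e

/-- A family on `A` balanced at the subgroups of order `p ^ k`. -/
structure Family (p k : ℕ) (A : Subgroup G) (Ω : G → Subgroup G) : Prop where
  bal : ∀ D ≤ A, Nat.card D = p ^ k → ∀ a ∈ A, a ≠ 1 → Del Ω D ⊓ Subgroup.centralizer {a} ≤ Ω a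
  prime : ∀ a ∈ A, a ≠ 1 → ¬ p ∣ Nat.card (Ω a)
  inv : ∀ a ∈ A, a ≠ 1 → A ≤ Subgroup.normalizer (Ω a : Set G)
  solv : ∀ a ∈ A, a ≠ 1 → Group.IsSolvable ↥(Ω a)

/-- Hyperplanes. -/
def Hyp (p : ℕ) (A E : Subgroup G) : Prop := E ≤ A ∧ E.relIndex A ≤ p

theorem mem_delta {E : Subgroup G} {x : G} : x ∈ Del Ω E ↔ ∀ e ∈ E, e ≠ 1 → x ∈ Ω e := by
  rw [Del, Subgroup.mem_iInf]
  exact ⟨fun h e he h1 => h ⟨e, he, h1⟩, fun h e => h e e.2.1 e.2.2⟩

theorem promote (hbal : Family p k A Ω) (hA : IsElementaryAbelian p A) {D E : Subgroup G} (hD : D ≤ A)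
    (hDk : Nat.card D = p ^ k) (hE : E ≤ A) {x : G} (hx : x ∈ Del Ω D)
    (hxE : x ∈ Subgroup.centralizer (E : Set G)) : x ∈ Del Ω E :=
  mem_delta.2 fun e he he1 => hbal.bal D hD hDk e (hE he) he1
    ⟨hx, Subgroup.mem_centralizer_singleton_iff.2 (Subgroup.mem_centralizer_iff.1 hxE e he).symm⟩

theorem exists_sub (hA : IsElementaryAbelian p A) {E : Subgroup G} (hE : E ≤ A) (hk : p ^ k ≤ Nat.card E) :
    ∃ D : Subgroup G, D ≤ E ∧ Nat.card D = p ^ k := by
  obtain ⟨n, hn⟩ := IsPGroup.iff_card.mp (isPGroup_ea (ea_le hA hE))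
  have hkn : k ≤ n := by
    rw [hn] at hk
    exact (Nat.pow_le_pow_iff_right (Fact.out : p.Prime).one_lt).1 hk
  obtain ⟨D, hD⟩ := Sylow.exists_subgroup_card_pow_prime (G := E) p (n := k) (hn ▸ pow_dvd_pow p hkn)
  exact ⟨D.map E.subtype, Subgroup.map_subtype_le D,
    by rw [Subgroup.card_map_of_injective E.subtype_injective]; exact hD⟩

theorem hyp_card {E : Subgroup G} (hE : Hyp p A E) (hAk : p ^ (k + 2) ≤ Nat.card A) : p ^ k ≤ Nat.card E := by
  have h := (E.subgroupOf A).card_mul_index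
  rw [Nat.card_congr (Subgroup.subgroupOfEquivOfLe hE.1).toEquiv] at h
  have h1 : Nat.card A ≤ Nat.card E * p := h ▸ Nat.mul_le_mul_left _ hE.2
  have hp := (Fact.out : p.Prime).one_lt
  have h2 : p ^ (k + 1) ≤ Nat.card E := Nat.le_of_mul_le_mul_right (by rw [← pow_succ]; exact hAk.trans h1) (by omega)
  exact (Nat.pow_le_pow_right (by omega) (by omega)).trans h2

theorem inter_card {E E' : Subgroup G} (hE : Hyp p A E) (hE' : Hyp p A E') (hAk : p ^ (k + 2) ≤ Nat.card A) :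
    p ^ k ≤ Nat.card (E ⊓ E' : Subgroup G) := by
  have h1 : (E ⊓ E').relIndex A ≤ p * p := Subgroup.relIndex_inf_le.trans (Nat.mul_le_mul hE.2 hE'.2)
  have h := ((E ⊓ E').subgroupOf A).card_mul_index
  rw [Nat.card_congr (Subgroup.subgroupOfEquivOfLe (inf_le_left.trans hE.1)).toEquiv] at h
  have h2 : Nat.card A ≤ Nat.card (E ⊓ E' : Subgroup G) * (p * p) := h ▸ Nat.mul_le_mul_left _ h1
  have hp := (Fact.out : p.Prime).pos
  exact Nat.le_of_mul_le_mul_right (by rw [show p ^ k * (p * p) = p ^ (k + 2) by ring]; exact hAk.trans h2)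
    (Nat.mul_pos hp hp)

theorem delta_normalizes (hbal : Family p k A Ω) {D : Subgroup G} (hD : D ≤ A) :
    A ≤ Subgroup.normalizer (Del Ω D : Set G) := fun g hg =>
  Comp.mem_normalizer_of_maps fun x hx => mem_delta.2 fun e he he1 =>
    (Subgroup.mem_normalizer_iff.mp (hbal.inv e (hD he) he1 hg) x).mp (mem_delta.1 hx e he he1)

variable {X : Subgroup G}

/-- The good part at a hyperplane. -/
def Gd (Ω : G → Subgroup G) (X E : Subgroup G) : Subgroup G := X ⊓ Subgroup.centralizer (E : Set G) ⊓ Del Ω E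

theorem gd_normalizes (hbal : Family p k A Ω) (hA : IsElementaryAbelian p A) (hXA : A ≤ Subgroup.normalizer (X : Set G)) {E : Subgroup G}
    (hE : E ≤ A) : A ≤ Subgroup.normalizer (Gd Ω X E : Set G) :=
  inf_normalizes (inf_normalizes hXA (le_normalizer_centralizer hA hE)) (delta_normalizes hbal hE)

/-- An invariant subgroup inside some `Δ(D)` lies in the span of the good parts. -/
theorem le_span (hbal : Family p k A Ω) (hA : IsElementaryAbelian p A) {D K Y : Subgroup G} (hD : D ≤ A)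
    (hDk : Nat.card D = p ^ k) (hK : K ≤ Del Ω D) (hKp : ¬ p ∣ Nat.card K)
    (hKA : A ≤ Subgroup.normalizer (K : Set G)) (hKX : K ≤ X) (hKY : K ≤ Y) :
    K ≤ ⨆ E : {E : Subgroup G // Hyp p A E}, Y ⊓ Gd Ω X E := by
  rw [gen_index hA hKp hKA]
  refine iSup_le fun E => ?_
  refine le_trans ?_ (le_iSup (fun E : {E : Subgroup G // Hyp p A E} => Y ⊓ Gd Ω X E) ⟨E, E.2.1, E.2.2⟩)
  intro x hx
  obtain ⟨hxK, hxE⟩ := Subgroup.mem_inf.1 hx
  exact ⟨hKY hxK, ⟨hKX hxK, hxE⟩, promote hbal hA hD hDk E.2.1 (hK hxK) hxE⟩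

/-- Conjugation by `e` maps an invariant subgroup into itself. -/
theorem conj_mem {K : Subgroup G} (hKA : A ≤ Subgroup.normalizer (K : Set G)) {e y : G} (he : e ∈ A) (hy : y ∈ K) :
    e * y * e⁻¹ ∈ K :=
  (Subgroup.mem_normalizer_iff.mp (hKA he) y).mp hy

/-- The derived term is spanned by good parts if the group is. -/
theorem span_step (hbal : Family p k A Ω) (hA : IsElementaryAbelian p A) (hAk : p ^ (k + 2) ≤ Nat.card A)
    (hXA : A ≤ Subgroup.normalizer (X : Set G)) (hXp : ¬ p ∣ Nat.card X) {Y : Subgroup G} (hYX : Y ≤ X)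
    (hYA : A ≤ Subgroup.normalizer (Y : Set G)) (hgen : Y = ⨆ E : {E : Subgroup G // Hyp p A E}, Y ⊓ Gd Ω X E) :
    ⁅Y, Y⁆ = ⨆ E : {E : Subgroup G // Hyp p A E}, ⁅Y, Y⁆ ⊓ Gd Ω X E := by
  set Y' := ⁅Y, Y⁆ with hY'
  have hY'Y : Y' ≤ Y := Subgroup.commutator_le.2 fun a ha b hb => by
    rw [commutatorElement_def]; exact mul_mem (mul_mem (mul_mem ha hb) (inv_mem ha)) (inv_mem hb)
  have hY'A : A ≤ Subgroup.normalizer (Y' : Set G) := fun g hg => Comp.mem_normalizer_of_maps fun x hx => by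
    have h1 : Y'.map (MulAut.conj g).toMonoidHom ≤ Y' := by
      rw [hY', Subgroup.map_commutator]
      exact Subgroup.commutator_mono (by rintro _ ⟨y, hy, rfl⟩; exact conj_mem hYA hg hy)
        (by rintro _ ⟨y, hy, rfl⟩; exact conj_mem hYA hg hy)
    exact h1 ⟨x, hx, rfl⟩
  set Γ := ⨆ E : {E : Subgroup G // Hyp p A E}, Y' ⊓ Gd Ω X E with hΓ
  refine le_antisymm ?_ (iSup_le fun E => inf_le_left)
  have hY'n : ∀ g ∈ Y, ∀ z ∈ Y', g * z * g⁻¹ ∈ Y' := fun g hg z hz => by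
    rw [show g * z * g⁻¹ = ⁅g, z⁆ * z by rw [commutatorElement_def]; group]
    exact mul_mem (Subgroup.commutator_mem_commutator hg (hY'Y hz)) hz
  have hcomm : ∀ E E' : {E : Subgroup G // Hyp p A E}, ∀ g ∈ Y ⊓ Gd Ω X E, ∀ z ∈ Y ⊓ Gd Ω X E', ⁅g, z⁆ ∈ Γ := by
    intro E E' g hg z hz
    obtain ⟨D, hD, hDk⟩ := exists_sub (k := k) hA (inf_le_left.trans E.2.1) (inter_card E.2 E'.2 hAk)
    have hDA : D ≤ A := hD.trans (inf_le_left.trans E.2.1)
    have hgΔ : g ∈ Del Ω D := mem_delta.2 fun e he he1 => mem_delta.1 hg.2.2 e (hD he).1 he1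
    have hzΔ : z ∈ Del Ω D := mem_delta.2 fun e he he1 => mem_delta.1 hz.2.2 e (hD he).2 he1
    refine le_span hbal hA hDA hDk (K := Y' ⊓ (X ⊓ Del Ω D)) (inf_le_right.trans inf_le_right)
      (fun h => hXp (h.trans (Subgroup.card_dvd_of_le (inf_le_right.trans inf_le_left))))
      (inf_normalizes hY'A (inf_normalizes hXA (delta_normalizes hbal hDA))) (inf_le_right.trans inf_le_left)
      inf_le_left ?_
    refine ⟨Subgroup.commutator_mem_commutator hg.1 hz.1, hYX (hY'Y (Subgroup.commutator_mem_commutator hg.1 hz.1)), ?_⟩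
    rw [commutatorElement_def]
    exact Subgroup.mul_mem _ (Subgroup.mul_mem _ (Subgroup.mul_mem _ hgΔ hzΔ) (Subgroup.inv_mem _ hgΔ))
      (Subgroup.inv_mem _ hzΔ)
  have hnorm1 : ∀ E : {E : Subgroup G // Hyp p A E}, ∀ g ∈ Y ⊓ Gd Ω X E, g ∈ Subgroup.normalizer (Γ : Set G) := by
    intro E g hg
    refine Comp.mem_normalizer_of_maps fun w hw => ?_
    have h1 : Γ.map (MulAut.conj g).toMonoidHom ≤ Γ := by
      conv_lhs => rw [hΓ, Subgroup.map_iSup]
      refine iSup_le fun E' => ?_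
      rintro _ ⟨z, hz, rfl⟩
      show g * z * g⁻¹ ∈ Γ
      rw [show g * z * g⁻¹ = ⁅g, z⁆ * z by rw [commutatorElement_def]; group]
      exact mul_mem (hcomm E E' g hg z ⟨hY'Y hz.1, hz.2⟩)
        (le_iSup (fun E : {E : Subgroup G // Hyp p A E} => Y' ⊓ Gd Ω X E) E' hz)
    exact h1 ⟨w, hw, rfl⟩
  have hnorm : Y ≤ Subgroup.normalizer (Γ : Set G) := by
    rw [hgen]; exact iSup_le fun E g hg => hnorm1 E g hg
  have hn : ∀ {g w : G}, g ∈ Y → w ∈ Γ → g * w * g⁻¹ ∈ Γ := fun hg hw =>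
    (Subgroup.mem_normalizer_iff.1 (hnorm hg) _).1 hw
  have inner : ∀ E : {E : Subgroup G // Hyp p A E}, ∀ g ∈ Y ⊓ Gd Ω X E,
      ∀ b ∈ ⨆ E : {E : Subgroup G // Hyp p A E}, Y ⊓ Gd Ω X E, b ∈ Y ∧ ⁅g, b⁆ ∈ Γ := by
    intro E g hg b hb
    induction hb using Subgroup.iSup_induction' with
    | hp E' z hz => exact ⟨hz.1, hcomm E E' g hg z hz⟩
    | h1 => exact ⟨one_mem Y, by rw [commutatorElement_one_right]; exact one_mem Γ⟩
    | hmul b c _ _ ihb ihc =>
      refine ⟨mul_mem ihb.1 ihc.1, ?_⟩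
      rw [show ⁅g, b * c⁆ = ⁅g, b⁆ * (b * ⁅g, c⁆ * b⁻¹) by simp only [commutatorElement_def]; group]
      exact mul_mem ihb.2 (hn ihb.1 ihc.2)
  rw [hY', Subgroup.commutator_le]
  intro a ha b hb
  rw [hgen] at ha hb
  suffices h : ∀ a ∈ ⨆ E : {E : Subgroup G // Hyp p A E}, Y ⊓ Gd Ω X E, a ∈ Y ∧ ⁅a, b⁆ ∈ Γ from (h a ha).2
  intro a ha
  induction ha using Subgroup.iSup_induction' with
  | hp E g hg => exact ⟨hg.1, (inner E g hg b hb).2⟩
  | h1 => exact ⟨one_mem Y, by rw [commutatorElement_one_left]; exact one_mem Γ⟩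
  | hmul a c _ _ iha ihc =>
    refine ⟨mul_mem iha.1 ihc.1, ?_⟩
    rw [show ⁅a * c, b⁆ = (a * ⁅c, b⁆ * a⁻¹) * ⁅a, b⁆ by simp only [commutatorElement_def]; group]
    exact mul_mem (hn iha.1 ihc.2) iha.2

/-- The centralizer of a hyperplane lies in the good part, going down the derived series. -/
theorem cent_step (hbal : Family p k A Ω) (hA : IsElementaryAbelian p A) (hAk : p ^ (k + 2) ≤ Nat.card A)
    (hXA : A ≤ Subgroup.normalizer (X : Set G)) (hXp : ¬ p ∣ Nat.card X) {Y : Subgroup G} (hYX : Y ≤ X)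
    (hYA : A ≤ Subgroup.normalizer (Y : Set G)) (hgen : Y = ⨆ E : {E : Subgroup G // Hyp p A E}, Y ⊓ Gd Ω X E)
    {E : Subgroup G} (hE : Hyp p A E)
    (ih : ⁅Y, Y⁆ ⊓ Subgroup.centralizer (E : Set G) ≤ Gd Ω X E) :
    Y ⊓ Subgroup.centralizer (E : Set G) ≤ Gd Ω X E := by
  classical
  set T := Y ⊓ Gd Ω X E with hT
  let f : Y →* Abelianization Y := Abelianization.of
  haveI := Fintype.ofFinite E
  let act : E → Y →* Y := fun e =>
    { toFun := fun y => ⟨(e : G) * y * (e : G)⁻¹, conj_mem hYA (hE.1 e.2) y.2⟩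
      map_one' := Subtype.ext (by simp)
      map_mul' := fun a b => Subtype.ext (by simp [mul_assoc]) }
  let N : Y →* Abelianization Y :=
    { toFun := fun y => ∏ e : E, f (act e y)
      map_one' := by simp
      map_mul' := fun a b => by simp only [map_mul, Finset.prod_mul_distrib] }
  have hfix : ∀ y : Y, (y : G) ∈ Subgroup.centralizer (E : Set G) → N y = f y ^ Fintype.card E := by
    intro y hy
    show ∏ e : E, f (act e y) = _
    have : ∀ e : E, act e y = y := fun e => Subtype.ext (by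
      show (e : G) * y * (e : G)⁻¹ = y
      rw [Subgroup.mem_centralizer_iff.1 hy e e.2, mul_inv_cancel_right])
    simp only [this, Finset.prod_const, Finset.card_univ]
  have hinv : ∀ (e₀ : E) (y : Y), N (act e₀ y) = N y := by
    intro e₀ y
    show ∏ e : E, f (act e (act e₀ y)) = ∏ e : E, f (act e y)
    refine Fintype.prod_equiv (Equiv.mulRight e₀) _ _ fun e => ?_
    congr 1
    apply Subtype.ext
    show (e : G) * ((e₀ : G) * y * (e₀ : G)⁻¹) * (e : G)⁻¹ = ((e * e₀ : E) : G) * y * ((e * e₀ : E) : G)⁻¹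
    rw [Subgroup.coe_mul]; group
  set S : Subgroup Y := ((T.subgroupOf Y).map f).comap N with hS
  have hTS : ∀ y : Y, (y : G) ∈ T → y ∈ S := fun y hy => by
    rw [hS, Subgroup.mem_comap, hfix y hy.2.1.2]
    exact pow_mem (Subgroup.mem_map_of_mem f hy) _
  have hall : Y ≤ S.map Y.subtype := by
    conv_lhs => rw [hgen]
    refine iSup_le fun E' => ?_
    set K := Y ⊓ Gd Ω X E'
    have hKA : A ≤ Subgroup.normalizer (K : Set G) := inf_normalizes hYA (gd_normalizes hbal hA hXA E'.2.1)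
    have hcop : (Nat.card E).Coprime (Nat.card K) := ea_coprime (ea_le hA hE.1)
      fun h => hXp (h.trans (Subgroup.card_dvd_of_le (inf_le_left.trans hYX)))
    rw [← coprime_commutator_sup (hE.1.trans hKA) hcop (Or.inl (ea_solvable (ea_le hA hE.1)))]
    refine sup_le ?_ ?_
    · rw [Subgroup.commutator_le]
      intro g hg e he
      have hgY : g ∈ Y := hg.1
      have hgi : e * g⁻¹ * e⁻¹ ∈ Y := conj_mem hYA (hE.1 he) (inv_mem hgY)
      refine ⟨⟨g, hgY⟩ * ⟨_, hgi⟩, ?_, ?_⟩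
      · rw [SetLike.mem_coe, hS, Subgroup.mem_comap, map_mul,
          show (⟨_, hgi⟩ : Y) = act ⟨e, he⟩ (⟨g, hgY⟩⁻¹) from rfl, hinv, map_inv, mul_inv_cancel]
        exact one_mem _
      · show g * (e * g⁻¹ * e⁻¹) = _
        rw [commutatorElement_def]; group
    · intro g hg
      obtain ⟨D, hD, hDk⟩ := exists_sub (k := k) hA E'.2.1 (hyp_card E'.2 hAk)
      have hgΔ : g ∈ Del Ω D := mem_delta.2 fun e he he1 => mem_delta.1 hg.1.2.2 e (hD he) he1
      exact ⟨⟨g, hg.1.1⟩, hTS ⟨g, hg.1.1⟩ ⟨hg.1.1, ⟨hg.1.2.1.1, hg.2⟩,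
        promote hbal hA (hD.trans E'.2.1) hDk hE.1 hgΔ hg.2⟩, rfl⟩
  rintro x ⟨hxY, hxE⟩
  obtain ⟨x', hx', e'⟩ := hall hxY
  rw [show x' = ⟨x, hxY⟩ from Subtype.ext e'] at hx'
  have hpow : f ⟨x, hxY⟩ ^ Fintype.card E ∈ (T.subgroupOf Y).map f := by
    rw [← hfix _ hxE]; exact hx'
  have hco : (orderOf (f ⟨x, hxY⟩)).Coprime (Fintype.card E) := by
    have h2 : (Nat.card E).Coprime (Nat.card Y) := ea_coprime (ea_le hA hE.1)
      fun h => hXp (h.trans (Subgroup.card_dvd_of_le hYX))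
    rw [Nat.card_eq_fintype_card (α := E)] at h2
    exact h2.symm.coprime_dvd_left ((orderOf_map_dvd f _).trans (orderOf_dvd_natCard _))
  obtain ⟨m, hm⟩ := exists_pow_eq_self_of_coprime hco.symm
  have hfx : f ⟨x, hxY⟩ ∈ (T.subgroupOf Y).map f := hm ▸ pow_mem hpow m
  obtain ⟨g, hg, e⟩ := hfx
  have hker : g⁻¹ * ⟨x, hxY⟩ ∈ commutator Y := by
    rw [← Abelianization.ker_of, MonoidHom.mem_ker, map_mul, map_inv]
    show (f g)⁻¹ * f ⟨x, hxY⟩ = 1
    rw [e, inv_mul_cancel]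
  have h1 : (g : G)⁻¹ * x ∈ ⁅Y, Y⁆ := by
    have h0 : ((g⁻¹ * ⟨x, hxY⟩ : Y) : G) ∈ (commutator Y).map Y.subtype := ⟨_, hker, rfl⟩
    rw [_root_.commutator_def, Subgroup.map_commutator, ← MonoidHom.range_eq_map, Subgroup.range_subtype] at h0
    simpa using h0
  have h2 := ih (Subgroup.mem_inf.2 ⟨h1, mul_mem (inv_mem hg.2.1.2) hxE⟩)
  have hg2 : (g : G) ∈ Gd Ω X E := hg.2
  have := mul_mem hg2 h2
  rwa [mul_inv_cancel_left] at this

/-- The main inclusion. -/
theorem cent_le (hbal : Family p k A Ω) (hA : IsElementaryAbelian p A) (hAk : p ^ (k + 2) ≤ Nat.card A)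
    (hXA : A ≤ Subgroup.normalizer (X : Set G)) (hXp : ¬ p ∣ Nat.card X) (hXs : Group.IsSolvable X)
    (hgen : X = ⨆ E : {E : Subgroup G // Hyp p A E}, X ⊓ Gd Ω X E) {E : Subgroup G} (hE : Hyp p A E) :
    X ⊓ Subgroup.centralizer (E : Set G) ≤ Gd Ω X E := by
  let Y : ℕ → Subgroup G := fun n => (derivedSeries X n).map X.subtype
  have hstep : ∀ n, Y (n + 1) = ⁅Y n, Y n⁆ := fun n => by
    simp only [Y, derivedSeries_succ, Subgroup.map_commutator]
  have hYX : ∀ n, Y n ≤ X := fun n => Subgroup.map_subtype_le _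
  have hY0 : Y 0 = X := by simp [Y, ← MonoidHom.range_eq_map]
  have hY : ∀ n, A ≤ Subgroup.normalizer (Y n : Set G) ∧ Y n = ⨆ E : {E : Subgroup G // Hyp p A E}, Y n ⊓ Gd Ω X E := by
    intro n
    induction n with
    | zero => rw [hY0]; exact ⟨hXA, hgen⟩
    | succ n ih =>
      rw [hstep]
      refine ⟨fun g hg => Comp.mem_normalizer_of_maps fun x hx => ?_,
        span_step hbal hA hAk hXA hXp (hYX n) ih.1 ih.2⟩
      have h1 : (⁅Y n, Y n⁆).map (MulAut.conj g).toMonoidHom ≤ ⁅Y n, Y n⁆ := by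
        rw [Subgroup.map_commutator]
        exact Subgroup.commutator_mono (by rintro _ ⟨y, hy, rfl⟩; exact conj_mem ih.1 hg hy)
          (by rintro _ ⟨y, hy, rfl⟩; exact conj_mem ih.1 hg hy)
      exact h1 ⟨x, hx, rfl⟩
  obtain ⟨N, hN⟩ := (Group.isSolvable_def (G := X)).mp hXs
  have hdown : ∀ j ≤ N, Y (N - j) ⊓ Subgroup.centralizer (E : Set G) ≤ Gd Ω X E := by
    intro j
    induction j with
    | zero =>
      intro _ x hx
      have h1 : x ∈ Y N := (Subgroup.mem_inf.1 hx).1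
      simp only [Y, hN, Subgroup.map_bot, Subgroup.mem_bot] at h1
      rw [h1]; exact one_mem _
    | succ j ih =>
      intro hj
      have e : N - j = N - (j + 1) + 1 := by omega
      have ih' := ih (by omega)
      rw [e, hstep] at ih'
      exact cent_step hbal hA hAk hXA hXp (hYX _) (hY _).1 (hY _).2 hE ih'
  have := hdown N le_rfl
  rwa [Nat.sub_self, hY0] at this

/-- The functor of a `k`-balanced group. -/
theorem isSignalizerFunctor (hbal : Family p k A Ω) (hA : IsElementaryAbelian p A)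
    (hAk : p ^ (k + 2) ≤ Nat.card A) :
    IsSolvableSignalizerFunctor p A (fun a => ⨆ D : {D : Subgroup G // D ≤ A ∧ Nat.card ↥D = p ^ k},
      Del Ω (D : Subgroup G) ⊓ Subgroup.centralizer {a}) := by
  have hle : ∀ a ∈ A, a ≠ 1 → (⨆ D : {D : Subgroup G // D ≤ A ∧ Nat.card ↥D = p ^ k},
      Del Ω (D : Subgroup G) ⊓ Subgroup.centralizer {a}) ≤ Ω a :=
    fun a ha ha1 => iSup_le fun D => hbal.bal D D.2.1 D.2.2 a ha ha1
  have hinv : ∀ a ∈ A, A ≤ Subgroup.normalizer ((⨆ D : {D : Subgroup G // D ≤ A ∧ Nat.card ↥D = p ^ k},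
      Del Ω (D : Subgroup G) ⊓ Subgroup.centralizer {a} : Subgroup G) : Set G) := by
    intro a ha g hg
    refine Comp.mem_normalizer_of_maps fun x hx => ?_
    have h1 : (⨆ D : {D : Subgroup G // D ≤ A ∧ Nat.card ↥D = p ^ k},
        Del Ω (D : Subgroup G) ⊓ Subgroup.centralizer {a}).map (MulAut.conj g).toMonoidHom ≤
        ⨆ D : {D : Subgroup G // D ≤ A ∧ Nat.card ↥D = p ^ k},
          Del Ω (D : Subgroup G) ⊓ Subgroup.centralizer {a} := by
      rw [Subgroup.map_iSup]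
      refine iSup_mono fun D => ?_
      rintro _ ⟨y, hy, rfl⟩
      exact (Subgroup.mem_normalizer_iff.mp
        (inf_normalizes (delta_normalizes hbal D.2.1) (centralizer_singleton_normalizes hA ha) hg) y).mp hy
    exact h1 ⟨x, hx, rfl⟩
  refine ⟨⟨fun a _ _ => iSup_le fun D => inf_le_right,
    fun a ha ha1 h => hbal.prime a ha ha1 (h.trans (Subgroup.card_dvd_of_le (hle a ha ha1))),
    fun a ha _ b hb x hx => (Subgroup.mem_normalizer_iff.mp (hinv a ha hb) x).mp hx,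
    fun a ha ha1 b hb _ => ?_⟩, fun a ha ha1 => by
      haveI := hbal.solv a ha ha1
      exact Group.isSolvable_of_isSolvable_injective (f := Subgroup.inclusion (hle a ha ha1))
        (Subgroup.inclusion_injective _)⟩
  set X := ⨆ D : {D : Subgroup G // D ≤ A ∧ Nat.card ↥D = p ^ k},
    Del Ω (D : Subgroup G) ⊓ Subgroup.centralizer {a} with hX
  have hXA : A ≤ Subgroup.normalizer (X : Set G) := hinv a ha
  have hXp : ¬ p ∣ Nat.card X := fun h => hbal.prime a ha ha1 (h.trans (Subgroup.card_dvd_of_le (hle a ha ha1)))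
  haveI := hbal.solv a ha ha1
  have hXs : Group.IsSolvable X :=
    Group.isSolvable_of_isSolvable_injective (f := Subgroup.inclusion (hle a ha ha1)) (Subgroup.inclusion_injective _)
  have hgen : X = ⨆ E : {E : Subgroup G // Hyp p A E}, X ⊓ Gd Ω X E := by
    refine le_antisymm ?_ (iSup_le fun E => inf_le_left)
    conv_lhs => rw [hX]
    refine iSup_le fun D => ?_
    have hDX : Del Ω (D : Subgroup G) ⊓ Subgroup.centralizer {a} ≤ X :=
      le_iSup (fun D : {D : Subgroup G // D ≤ A ∧ Nat.card ↥D = p ^ k} =>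
        Del Ω (D : Subgroup G) ⊓ Subgroup.centralizer {a}) D
    exact le_span hbal hA D.2.1 D.2.2 inf_le_left (fun h => hXp (h.trans (Subgroup.card_dvd_of_le hDX)))
      (inf_normalizes (delta_normalizes hbal D.2.1) (centralizer_singleton_normalizes hA ha)) hDX hDX
  have hKp : ¬ p ∣ Nat.card (X ⊓ Subgroup.centralizer {b} : Subgroup G) :=
    fun h => hXp (h.trans (Subgroup.card_dvd_of_le inf_le_left))
  rw [gen_index hA hKp (inf_normalizes hXA (centralizer_singleton_normalizes hA hb))]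
  refine iSup_le fun E x hx => ?_
  obtain ⟨⟨hxX, hxb⟩, hxE⟩ := hx
  have hg := cent_le hbal hA hAk hXA hXp hXs hgen (E := E) ⟨E.2.1, E.2.2⟩ ⟨hxX, hxE⟩
  obtain ⟨D, hD, hDk⟩ := exists_sub (k := k) hA E.2.1 (hyp_card (E := (E : Subgroup G)) ⟨E.2.1, E.2.2⟩ hAk)
  exact le_iSup (fun D : {D : Subgroup G // D ≤ A ∧ Nat.card ↥D = p ^ k} =>
    Del Ω (D : Subgroup G) ⊓ Subgroup.centralizer {b}) ⟨D, hD.trans E.2.1, hDk⟩
    ⟨mem_delta.2 fun e he he1 => mem_delta.1 hg.2 e (hD he) he1, hxb⟩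

end CfsgJTwo.Fun
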