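import Cfsg.Agent.Lib.JTwoType.GFus

/-!
The cores of centralisers of involutions, and the stabiliser part of the centraliser of `z`.

Blueprint: `blueprint/S1776.md`, part C.
-/

set_option autoImplicit false
set_option linter.unusedSectionVars false
set_option maxRecDepth 100000

namespace CfsgJTwo

open Cfsg CfsgA8C Equiv

universe u

section

variable {G : Type u} [Group G] [Finite G]

/-- The core of the centraliser of an element. -/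
def Kc (a : G) : Subgroup G := core (Subgroup.centralizer ({a} : Set G))

theorem Kc_odd (a : G) : Odd (Nat.card (Kc a)) := core_odd _

theorem Kc_le (a : G) : Kc a ≤ Subgroup.centralizer ({a} : Set G) := core_le _

theorem Kc_comm {a x : G} (hx : x ∈ Kc a) : x * a = a * x := mem_cent.mp (Kc_le a hx)

theorem Kc_conj {a g x : G} (hx : x ∈ Kc a) : g * x * g⁻¹ ∈ Kc (g * a * g⁻¹) := core_conj cent_conj hx

theorem Kc_norm {a g x : G} (hg : g * a = a * g) (hx : x ∈ Kc a) : g * x * g⁻¹ ∈ Kc a :=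
  core_conj_mem (mem_cent.mpr hg) hx

theorem le_Kc {a : G} {R : Subgroup G} (hR : R ≤ Subgroup.centralizer ({a} : Set G)) (ho : Odd (Nat.card R))
    (hn : ∀ g, g * a = a * g → ∀ r ∈ R, g * r * g⁻¹ ∈ R) : R ≤ Kc a :=
  le_core hR ho fun x hx r hr => hn x (mem_cent.mp hx) r hr

end

variable {G : Type u} [Group G] [Finite G] [IsSimpleGroup G] (D : Emb G)

namespace Emb

/-- The odd core of the centraliser of `z`. -/
abbrev K : Subgroup G := Kc (D.ι W.z)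

/-- The centraliser of `z` modulo its core. -/
noncomputable abbrev ctxG : Ctx (↥D.Cz ⧸ oddCore ↥D.Cz) := D.ctx (simple_no_two D)

/-- The quotient map. -/
abbrev qz : D.Cz →* ↥D.Cz ⧸ oddCore ↥D.Cz := QuotientGroup.mk' (oddCore ↥D.Cz)

theorem ctxG_ι (w : W) : D.ctxG.ι w = D.qz ⟨D.ι w, D.ι_mem_Cz w⟩ := rfl

theorem qz_eq_one {x : G} (hx : x ∈ D.Cz) : D.qz ⟨x, hx⟩ = 1 ↔ x ∈ D.K := by
  rw [QuotientGroup.mk'_apply, QuotientGroup.eq_one_iff]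
  constructor
  · exact fun h => ⟨⟨x, hx⟩, h, rfl⟩
  · rintro ⟨y, hy, e⟩
    have : y = ⟨x, hx⟩ := Subtype.ext e
    exact this ▸ hy

theorem qz_eq {x y : G} (hx : x ∈ D.Cz) (hy : y ∈ D.Cz) : D.qz ⟨x, hx⟩ = D.qz ⟨y, hy⟩ ↔ x⁻¹ * y ∈ D.K := by
  rw [← D.qz_eq_one (mul_mem (inv_mem hx) hy),
    show (⟨x⁻¹ * y, _⟩ : D.Cz) = (⟨x, hx⟩ : D.Cz)⁻¹ * ⟨y, hy⟩ from rfl, map_mul, map_inv, inv_mul_eq_one]

theorem mem_qz_map {R : Subgroup G} {x : G} (hx : x ∈ D.Cz) (h : D.qz ⟨x, hx⟩ ∈ (R.subgroupOf D.Cz).map D.qz) :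
    ∃ r ∈ R, r⁻¹ * x ∈ D.K := by
  obtain ⟨⟨r, hr⟩, hrR, e⟩ := h
  exact ⟨r, hrR, (D.qz_eq hr hx).mp e⟩

/-- An odd subgroup of the centraliser of `z` normalised by a four-group of the stabiliser lies in the core. -/
theorem odd_le_K {R : Subgroup G} (hR : R ≤ D.Cz) (ho : Odd (Nat.card R)) {y₁ y₂ : W} (h1 : W.IsT y₁) (h2 : W.IsT y₂)
    (hq1 : ¬ W.IsQ y₁) (hq2 : ¬ W.IsQ y₂) (hq3 : ¬ W.IsQ (y₁ * y₂))
    (hn1 : ∀ r ∈ R, D.ι y₁ * r * (D.ι y₁)⁻¹ ∈ R) (hn2 : ∀ r ∈ R, D.ι y₂ * r * (D.ι y₂)⁻¹ ∈ R) : R ≤ D.K := by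
  set R' := (R.subgroupOf D.Cz).map D.qz
  have hR' : Odd (Nat.card R') := by
    refine ho.of_dvd_nat ((Subgroup.card_map_dvd _ D.qz).trans ?_)
    rw [Nat.card_congr (Subgroup.subgroupOfEquivOfLe hR).toEquiv]
  have hn : ∀ y : W, (∀ r ∈ R, D.ι y * r * (D.ι y)⁻¹ ∈ R) → ∀ r ∈ R', D.ctxG.ι y * r * (D.ctxG.ι y)⁻¹ ∈ R' := by
    rintro y hy _ ⟨⟨r, hr⟩, hrR, rfl⟩
    exact ⟨⟨D.ι y, D.ι_mem_Cz y⟩ * ⟨r, hr⟩ * ⟨D.ι y, D.ι_mem_Cz y⟩⁻¹, hy r hrR,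
      by rw [map_mul, map_mul, map_inv]; rfl⟩
  have hb : R' = ⊥ := D.ctxG.odd_bot hR' h1 h2 hq1 hq2 hq3 (hn _ hn1) (hn _ hn2)
  intro r hr
  refine (D.qz_eq_one (hR hr)).mp (Subgroup.mem_bot.mp ?_)
  rw [← hb]
  exact ⟨⟨r, hR hr⟩, hr, rfl⟩

theorem odd_le_K_A1 {R : Subgroup G} (hR : R ≤ D.Cz) (ho : Odd (Nat.card R))
    (hn : ∀ a, W.IsA1 a → ∀ r ∈ R, D.ι a * r * (D.ι a)⁻¹ ∈ R) : R ≤ D.K :=
  D.odd_le_K hR ho W.u_facts.1.1 W.u_facts.2.1.1 W.u_facts.2.2.2.2.1 W.u_facts.2.2.2.2.2.1 W.u_facts.2.2.2.2.2.2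
    (hn _ W.u_facts.1) (hn _ W.u_facts.2.1)

theorem exists_to_z {a : W} (ha : W.IsW0 a) (ha1 : a ≠ 1) : ∃ g ∈ D.NA, g * D.ι a * g⁻¹ = D.ι W.z := by
  obtain ⟨k, hk, hkv⟩ := D.exists_k
  rcases W.W0_cases a ha with e | e | e | e
  · exact absurd e ha1
  · exact ⟨1, one_mem _, by subst e; simp⟩
  · exact ⟨k, hk, e ▸ hkv⟩
  · refine ⟨D.ι W.σ * k * (D.ι W.σ)⁻¹, ⟨mem_norm_of ?_, mem_norm_of ?_⟩, ?_⟩
    · rintro _ ⟨b, hb, rfl⟩
      obtain ⟨c, hc, hce⟩ := norm_conj hk.2 (D.mem_sub.mpr (show W.σ⁻¹ * b * W.σ⁻¹⁻¹ ∈ W.A2s by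
        rw [inv_eq_of_mul_eq_one_right W.σ_sq]; exact (W.σ_A b).1 hb))
      rw [show D.ι W.σ * k * (D.ι W.σ)⁻¹ * D.ι b * (D.ι W.σ * k * (D.ι W.σ)⁻¹)⁻¹ =
        D.ι W.σ * (k * D.ι (W.σ⁻¹ * b * W.σ⁻¹⁻¹) * k⁻¹) * (D.ι W.σ)⁻¹ by
          simp only [map_mul, map_inv]; group, ← hce]
      exact D.sub_conj _ ((W.σ_A c).2 hc)
    · rintro _ ⟨b, hb, rfl⟩
      obtain ⟨c, hc, hce⟩ := norm_conj hk.1 (D.mem_sub.mpr (show W.σ⁻¹ * b * W.σ⁻¹⁻¹ ∈ W.A1s by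
        rw [inv_eq_of_mul_eq_one_right W.σ_sq]; exact (W.σ_A b).2 hb))
      rw [show D.ι W.σ * k * (D.ι W.σ)⁻¹ * D.ι b * (D.ι W.σ * k * (D.ι W.σ)⁻¹)⁻¹ =
        D.ι W.σ * (k * D.ι (W.σ⁻¹ * b * W.σ⁻¹⁻¹) * k⁻¹) * (D.ι W.σ)⁻¹ by
          simp only [map_mul, map_inv]; group, ← hce]
      exact D.sub_conj _ ((W.σ_A c).1 hc)
    · rw [e, show D.ι W.σ * k * (D.ι W.σ)⁻¹ * D.ι (W.v * W.z) * (D.ι W.σ * k * (D.ι W.σ)⁻¹)⁻¹ =
        D.ι W.σ * (k * ((D.ι W.σ)⁻¹ * D.ι (W.v * W.z) * D.ι W.σ) * k⁻¹) * (D.ι W.σ)⁻¹ by group,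
        show (D.ι W.σ)⁻¹ * D.ι (W.v * W.z) * D.ι W.σ = D.ι W.v by
          rw [← W.σ_swap_v, ← D.conj_map]; group,
        hkv, D.conj_map, ← W.z_central W.σ, mul_inv_cancel_right]

/-- An odd subgroup of the centraliser of an element of the four-group, normalised by `A1`, lies in the core. -/
theorem le_Kw {a : W} (ha : W.IsW0 a) (ha1 : a ≠ 1) {R : Subgroup G}
    (hR : R ≤ Subgroup.centralizer ({D.ι a} : Set G)) (ho : Odd (Nat.card R))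
    (hn : ∀ b, W.IsA1 b → ∀ r ∈ R, D.ι b * r * (D.ι b)⁻¹ ∈ R) : R ≤ Kc (D.ι a) := by
  obtain ⟨g, hg, hga⟩ := D.exists_to_z ha ha1
  set R' := R.map (MulAut.conj g).toMonoidHom
  have hle : R' ≤ D.K := by
    refine D.odd_le_K_A1 ?_ ?_ ?_
    · rintro _ ⟨r, hr, rfl⟩
      show g * r * g⁻¹ ∈ Subgroup.centralizer ({D.ι W.z} : Set G)
      rw [← hga]
      exact (cent_conj r).mp (hR hr)
    · rw [Subgroup.card_map_of_injective (f := (MulAut.conj g).toMonoidHom) (MulAut.conj g).injective]; exact ho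
    · rintro b hb _ ⟨r, hr, rfl⟩
      obtain ⟨c, hc, hce⟩ := D.NA_map (inv_mem hg) hb
      refine ⟨D.ι c * r * (D.ι c)⁻¹, hn c hc r hr, ?_⟩
      show g * (D.ι c * r * (D.ι c)⁻¹) * g⁻¹ = D.ι b * (g * r * g⁻¹) * (D.ι b)⁻¹
      rw [← hce]; group
  intro r hr
  have h := Kc_conj (g := g⁻¹) (hle ⟨r, hr, rfl⟩)
  rwa [show g⁻¹ * ((MulAut.conj g).toMonoidHom r) * g⁻¹⁻¹ = r by simp [mul_assoc],
    show g⁻¹ * D.ι W.z * g⁻¹⁻¹ = D.ι a by rw [← hga]; group] at h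

/-- An element of odd order generating, with the Sylow subgroup and the core, the stabiliser in the centraliser. -/
structure IsD (d : G) : Prop where
  mem : d ∈ D.NA
  cz : d * D.ι W.z = D.ι W.z * d
  cv : d * D.ι W.v = D.ι W.v * d
  nT : ∀ w : W, ∃ w', d * D.ι w * d⁻¹ = D.ι w'
  stab : ∀ (x : G) (hx : x ∈ D.Cz), D.ctxG.permX (D.qz ⟨x, hx⟩) 0 = 0 →
    ∃ y ∈ (D.T : Subgroup G) ⊔ Subgroup.zpowers d, y⁻¹ * x ∈ D.K
  cyc : ∀ u : W, W.IsA1 u → ¬ W.IsW0 u → ∀ u' : W, W.IsA1 u' → ¬ W.IsW0 u' →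
    ∃ g ∈ D.sub W.Ts ⊔ Subgroup.zpowers d, g * D.ι u * g⁻¹ = D.ι u'

theorem qz_inj {a b : W} (h : D.ctxG.ι a = D.ctxG.ι b) : a = b := D.ctxG.inj h

theorem exists_dG : ∃ d, D.IsD d := by
  obtain ⟨g, hgo, hgv, hgT, hgne, hgstab⟩ := D.ctxG.exists_d
  obtain ⟨⟨x, hxC⟩, hx⟩ := QuotientGroup.mk'_surjective _ g
  change D.qz ⟨x, hxC⟩ = g at hx
  have hTC : (D.T : Subgroup G) ≤ D.Cz := D.range_le_Cz
  have hTK : ∀ h ∈ (D.T : Subgroup G), ∀ o ∈ D.K, h * o * h⁻¹ ∈ D.K := fun h hh o ho =>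
    core_conj_mem (hTC hh) ho
  obtain ⟨o, ho, hn⟩ := lift_norm D.T.2 (Kc_odd _) hTK (x := x) (by
    intro h hh
    obtain ⟨w, rfl⟩ := D.exists_pre hh
    obtain ⟨w', hw'⟩ := D.ctxG.exists_pre (norm_conj hgT (D.ctxG.mem_T w))
    have hmem : x * D.ι w * x⁻¹ ∈ D.Cz := mul_mem (mul_mem hxC (D.ι_mem_Cz w)) (inv_mem hxC)
    have hK : (D.ι w')⁻¹ * (x * D.ι w * x⁻¹) ∈ D.K := by
      refine (D.qz_eq (D.ι_mem_Cz w') hmem).mp ?_
      show D.ctxG.ι w' = _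
      rw [hw', show (⟨_, hmem⟩ : D.Cz) = ⟨x, hxC⟩ * ⟨D.ι w, D.ι_mem_Cz w⟩ * ⟨x, hxC⟩⁻¹ from rfl, map_mul, map_mul,
        map_inv, hx]
      rfl
    rw [show x * D.ι w * x⁻¹ = D.ι w' * ((D.ι w')⁻¹ * (x * D.ι w * x⁻¹)) by group]
    exact mul_mem (Subgroup.mem_sup_left (D.mem_T w')) (Subgroup.mem_sup_right hK))
  obtain ⟨p, d, hp, hd, hpd, ⟨k, hk⟩, hdo⟩ := two_odd_split (o * x)
  have hoxC : o * x ∈ D.Cz := mul_mem (core_le _ ho) hxC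
  have hdC : d ∈ D.Cz := (Subgroup.zpowers_le.mpr hoxC) hd
  have hpC : p ∈ D.Cz := (Subgroup.zpowers_le.mpr hoxC) hp
  have hox : D.qz ⟨o * x, hoxC⟩ = g := by
    rw [show (⟨o * x, hoxC⟩ : D.Cz) = ⟨o, core_le _ ho⟩ * ⟨x, hxC⟩ from rfl, map_mul, hx,
      (D.qz_eq_one _).mpr ho, one_mul]
  have hdg : D.qz ⟨d, hdC⟩ = g := by
    have hp1 : D.qz ⟨p, hpC⟩ = 1 := by
      obtain ⟨i, hi⟩ := Subgroup.mem_zpowers_iff.mp hp
      have e : D.qz ⟨p, hpC⟩ = g ^ i := by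
        rw [← hox, ← map_zpow]; exact congrArg D.qz (Subtype.ext (by simp [← hi]))
      refine eq_one_of_two_odd (H := Subgroup.zpowers (D.qz ⟨p, hpC⟩)) (O := Subgroup.zpowers g)
        (two_elt_isPGroup (k := k) (by rw [← map_pow]; exact (congrArg D.qz (Subtype.ext hk)).trans (map_one _)))
        (by rw [Nat.card_zpowers]; exact hgo) (Subgroup.mem_zpowers _) (e ▸ zpow_mem (Subgroup.mem_zpowers g) i)
    rw [← hox, show (⟨o * x, hoxC⟩ : D.Cz) = ⟨p, hpC⟩ * ⟨d, hdC⟩ from Subtype.ext hpd, map_mul, hp1, one_mul]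
  have hdT : ∀ w : W, ∃ w', d * D.ι w * d⁻¹ = D.ι w' := fun w => by
    have hN : d ∈ Subgroup.normalizer ((D.T : Subgroup G) : Set G) :=
      (Subgroup.zpowers_le.mpr (mem_norm_of hn)) hd
    obtain ⟨w', hw'⟩ := D.exists_pre (norm_conj hN (D.mem_T w))
    exact ⟨w', hw'.symm⟩
  have hdq : ∀ {w w' : W}, d * D.ι w * d⁻¹ = D.ι w' → g * D.ctxG.ι w * g⁻¹ = D.ctxG.ι w' := by
    intro w w' e
    rw [← hdg, D.ctxG_ι, D.ctxG_ι, ← map_inv, ← map_mul, ← map_mul]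
    exact congrArg D.qz (Subtype.ext e)
  have hdv : d * D.ι W.v = D.ι W.v * d := by
    obtain ⟨w', e⟩ := hdT W.v
    have h := hdq e
    rw [hgv, mul_inv_cancel_right] at h
    rwa [← D.qz_inj h, mul_inv_eq_iff_eq_mul] at e
  have hdTs : ∀ w, W.IsT w → d * D.ι w * d⁻¹ ∈ D.sub W.Ts := fun w hw =>
    D.Ts_stable (fun y _ => by obtain ⟨y', e⟩ := hdT y; exact e ▸ D.mem_T y') hw
  have hdNA : d ∈ D.NA := D.A_odd hdo hdTs
  refine ⟨d, hdNA, mem_cent.mp hdC, hdv, hdT, ?_, ?_⟩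
  · intro y hy h0
    have h1 := hgstab _ h0
    have hle : (D.ctxG.T : Subgroup (↥D.Cz ⧸ oddCore ↥D.Cz)) ⊔ Subgroup.zpowers g ≤
        (((D.T : Subgroup G) ⊔ Subgroup.zpowers d).subgroupOf D.Cz).map D.qz := by
      refine sup_le ?_ (Subgroup.zpowers_le.mpr ?_)
      · intro t ht
        obtain ⟨w, rfl⟩ := D.ctxG.exists_pre ht
        exact ⟨⟨D.ι w, D.ι_mem_Cz w⟩, Subgroup.mem_sup_left (D.mem_T w), rfl⟩
      · exact ⟨⟨d, hdC⟩, Subgroup.mem_sup_right (Subgroup.mem_zpowers d), hdg⟩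
    exact D.mem_qz_map hy (hle h1)
  · intro u hu hu0 u' hu' hu'0
    have hstep : ∀ a : W, W.IsA1 a → ¬ W.IsW0 a → ∃ b c : W, W.IsA1 b ∧ ¬ W.IsW0 b ∧ W.IsA1 c ∧ ¬ W.IsW0 c ∧
        d * D.ι a * d⁻¹ = D.ι b ∧ d * D.ι b * d⁻¹ = D.ι c ∧ a.a ≠ b.a ∧ a.a ≠ c.a ∧ b.a ≠ c.a := by
      intro a ha ha0
      obtain ⟨b, hb, hb0, eb⟩ := D.NA_out hdNA ha ha0
      obtain ⟨c, hc, hc0, ec⟩ := D.NA_out hdNA hb hb0
      simp only [List.mem_cons, not_or] at hgne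
      have hmoves : ∀ s, W.IsA1 s → ¬ W.IsW0 s →
          D.ctxG.permX g * D.ctxG.permX (D.ctxG.ι s) * (D.ctxG.permX g)⁻¹ ≠ D.ctxG.permX (D.ctxG.ι s) ∧
          D.ctxG.permX g * D.ctxG.permX g * D.ctxG.permX (D.ctxG.ι s) * (D.ctxG.permX g * D.ctxG.permX g)⁻¹ ≠
            D.ctxG.permX (D.ctxG.ι s) := fun s hs hs0 =>
        three_cycle_moves _ (D.ctxG.sign_permX g) (D.ctxG.permX_fix hgv) (by simp [List.mem_cons, hgne]) _
          (D.ctxG.permX_dbl hs.1 (W.A1_not_Q s hs hs0))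
      have hsame : ∀ s t : W, W.IsA1 s → W.IsA1 t → s.a = t.a →
          D.ctxG.permX (D.ctxG.ι s) = D.ctxG.permX (D.ctxG.ι t) := fun s t hs ht e => by
        have h0 := (W.A1_eq_mod s t hs ht).mp e
        have h1 : D.ctxG.permX (D.ctxG.ι s) * D.ctxG.permX (D.ctxG.ι t) = 1 := by
          rw [← map_mul, ← map_mul, D.ctxG.permX_eq_one_iff]
          exact D.ctxG.mem_sub.mpr ((show ∀ y : W, W.IsW0 y → W.IsQ y by decide +kernel) _ h0)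
        exact mul_right_cancel (h1.trans (D.ctxG.permX_sq ht.1).symm)
      have pb : D.ctxG.permX (D.ctxG.ι b) =
          D.ctxG.permX g * D.ctxG.permX (D.ctxG.ι a) * (D.ctxG.permX g)⁻¹ := by
        rw [← hdq eb]; simp
      have pc : D.ctxG.permX (D.ctxG.ι c) =
          D.ctxG.permX g * D.ctxG.permX (D.ctxG.ι b) * (D.ctxG.permX g)⁻¹ := by
        rw [← hdq ec]; simp
      refine ⟨b, c, hb, hb0, hc, hc0, eb, ec, fun e => ?_, fun e => ?_, fun e => ?_⟩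
      · exact (hmoves a ha ha0).1 (pb.symm.trans (hsame a b ha hb e).symm)
      · refine (hmoves a ha ha0).2 (Eq.trans ?_ (hsame a c ha hc e).symm)
        rw [pc, pb]; group
      · exact (hmoves b hb hb0).1 (pc.symm.trans (hsame b c hb hc e).symm)
    obtain ⟨b, c, hb, hb0, hc, hc0, eb, ec, hab, hac, hbc⟩ := hstep u hu hu0
    have hne : ∀ s : W, W.IsA1 s → ¬ W.IsW0 s → s.a ≠ 0 := fun s hs hs0 h => hs0 ((W.A1_zero s hs).mp h)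
    have hfin : ∀ s : W, W.IsA1 s → ¬ W.IsW0 s → u'.a = s.a →
        ∀ g₀ ∈ D.sub W.Ts ⊔ Subgroup.zpowers d, g₀ * D.ι u * g₀⁻¹ = D.ι s →
        ∃ g ∈ D.sub W.Ts ⊔ Subgroup.zpowers d, g * D.ι u * g⁻¹ = D.ι u' := by
      intro s hs hs0 e g₀ hg₀ e₀
      obtain ⟨t, ht, et⟩ := W.coset_T s u' hs hs0 hu' e
      refine ⟨D.ι t * g₀, mul_mem (Subgroup.mem_sup_left (D.mem_sub.mpr ht)) hg₀, ?_⟩
      rw [show D.ι t * g₀ * D.ι u * (D.ι t * g₀)⁻¹ = D.ι t * (g₀ * D.ι u * g₀⁻¹) * (D.ι t)⁻¹ by group, e₀,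
        D.conj_map, et]
    have hdm : d ∈ D.sub W.Ts ⊔ Subgroup.zpowers d := Subgroup.mem_sup_right (Subgroup.mem_zpowers d)
    rcases W.three_cosets _ _ _ _ (hne u hu hu0) (hne b hb hb0) (hne c hc hc0) (hne u' hu' hu'0) hab hac hbc with
      e | e | e
    · exact hfin u hu hu0 e 1 (one_mem _) (by simp)
    · exact hfin b hb hb0 e d hdm eb
    · refine hfin c hc hc0 e (d * d) (mul_mem hdm hdm) ?_
      rw [← ec, ← eb]; group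

variable {D} {d : G}

theorem IsD.comm_W0 (hd : D.IsD d) {a : W} (ha : W.IsW0 a) : d * D.ι a = D.ι a * d := by
  rcases W.W0_list a ha with e | e | e | e <;> subst e
  · simp
  · exact hd.cz
  · exact hd.cv
  · rw [map_mul]
    exact (show Commute d _ from hd.cv).mul_right (show Commute d _ from hd.cz)

/-- The centraliser of the four-group. -/
theorem IsD.cent_zv (hd : D.IsD d) {x : G} (hz : x * D.ι W.z = D.ι W.z * x) (hv : x * D.ι W.v = D.ι W.v * x) :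
    ∃ y ∈ (D.T : Subgroup G) ⊔ Subgroup.zpowers d, ∃ o ∈ D.K, o * D.ι W.v = D.ι W.v * o ∧ x = y * o := by
  have hxC : x ∈ D.Cz := mem_cent.mpr hz
  have h0 : D.ctxG.permX (D.qz ⟨x, hxC⟩) 0 = 0 := D.ctxG.permX_fix (by
    rw [D.ctxG_ι, ← map_mul, ← map_mul]
    exact congrArg D.qz (Subtype.ext hv))
  obtain ⟨y, hy, hyo⟩ := hd.stab x hxC h0
  refine ⟨y, hy, y⁻¹ * x, hyo, ?_, by group⟩
  have hyC : y ∈ D.Cz := (sup_le D.range_le_Cz (Subgroup.zpowers_le.mpr (mem_cent.mpr hd.cz))) hy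
  have hyW : y ∈ Subgroup.normalizer (D.sub W.W0s : Set G) := by
    refine (sup_le ?_ (Subgroup.zpowers_le.mpr (D.NA_norm_W0 hd.mem))) hy
    intro t ht
    obtain ⟨w, rfl⟩ := D.exists_pre ht
    exact mem_norm_of (by
      rintro _ ⟨a, ha, rfl⟩
      exact D.sub_conj _ ((show ∀ t a : W, W.IsW0 a → W.IsW0 (t * a * t⁻¹) by decide +kernel) w a ha))
  obtain ⟨a, ha, hae⟩ := norm_conj hyW (D.mem_sub.mpr (show W.IsW0 W.v by decide : W.v ∈ W.W0s))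
  have hq : D.qz ⟨y, hyC⟩ = D.qz ⟨x, hxC⟩ := (D.qz_eq hyC hxC).mpr hyo
  have hva : a = W.v := by
    refine D.qz_inj ?_
    rw [D.ctxG_ι, D.ctxG_ι]
    calc D.qz ⟨D.ι a, _⟩ = D.qz ⟨y, hyC⟩ * D.qz ⟨D.ι W.v, D.ι_mem_Cz _⟩ * (D.qz ⟨y, hyC⟩)⁻¹ := by
          rw [← map_inv, ← map_mul, ← map_mul]; exact congrArg D.qz (Subtype.ext hae)
      _ = D.qz ⟨D.ι W.v, D.ι_mem_Cz _⟩ := by
          rw [hq, mul_inv_eq_iff_eq_mul, ← map_mul, ← map_mul]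
          exact congrArg D.qz (Subtype.ext hv)
  rw [hva, eq_mul_inv_iff_mul_eq] at hae
  exact (show Commute y (D.ι W.v) from hae.symm).inv_left.mul_left (show Commute x (D.ι W.v) from hv)

/-- The normaliser of the four-group in a subgroup containing its generators. -/
theorem IsD.norm_W0_le (hd : D.IsD d) {M : Subgroup G} (hT : (D.T : Subgroup G) ≤ M) (hdM : d ∈ M)
    (hk : ∀ a : W, W.IsW0 a → a ≠ 1 → ∃ g ∈ M, g * D.ι a * g⁻¹ = D.ι W.z ∧ g ∈ D.NA)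
    (hK : ∀ o ∈ D.K, o * D.ι W.v = D.ι W.v * o → o ∈ M) :
    Subgroup.normalizer (D.sub W.W0s : Set G) ≤ M := by
  intro x hx
  obtain ⟨a, ha, hae⟩ := norm_conj hx (D.mem_sub.mpr (show W.IsW0 W.z by decide : W.z ∈ W.W0s))
  have ha1 : a ≠ 1 := fun e => D.ne_one W.z_ne (by
    rw [e, map_one] at hae
    exact conj_eq_one_iff.mp hae.symm)
  obtain ⟨g, hgM, hga, hgNA⟩ := hk a ha ha1
  have hgx : g * x * D.ι W.z = D.ι W.z * (g * x) := by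
    rw [← mul_inv_eq_iff_eq_mul, show g * x * D.ι W.z * (g * x)⁻¹ = g * (x * D.ι W.z * x⁻¹) * g⁻¹ by group, ← hae,
      hga]
  have hgxN : g * x ∈ Subgroup.normalizer (D.sub W.W0s : Set G) := mul_mem (D.NA_norm_W0 hgNA) hx
  obtain ⟨b, hb, hbe⟩ := norm_conj hgxN (D.mem_sub.mpr (show W.IsW0 W.v by decide : W.v ∈ W.W0s))
  have hcase : ∀ y : G, y * D.ι W.z = D.ι W.z * y → y * D.ι W.v = D.ι W.v * y → y ∈ M := by
    intro y hz hv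
    obtain ⟨t, ht, o, ho, hov, rfl⟩ := hd.cent_zv hz hv
    exact mul_mem ((sup_le hT (Subgroup.zpowers_le.mpr hdM)) ht) (hK o ho hov)
  suffices h : g * x ∈ M by
    have := mul_mem (inv_mem hgM) h
    rwa [inv_mul_cancel_left] at this
  rcases W.W0_list b hb with e | e | e | e <;> subst e
  · exact absurd (conj_eq_one_iff.mp (by rw [← hbe, map_one])) (D.ne_one W.v_ne)
  · exact absurd (D.inj (mul_left_cancel (mul_right_cancel (hbe.symm.trans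
      (mul_inv_eq_iff_eq_mul.mpr hgx).symm)))) W.v_ne_z
  · exact hcase _ hgx (mul_inv_eq_iff_eq_mul.mp hbe.symm)
  · have h1 : D.ι W.σ * (g * x) ∈ M := by
      refine hcase _ ((show Commute (D.ι W.σ) _ from D.comm_iff.mpr (W.z_central W.σ).symm).mul_left
        (show Commute (g * x) _ from hgx)) ?_
      rw [← mul_inv_eq_iff_eq_mul, show D.ι W.σ * (g * x) * D.ι W.v * (D.ι W.σ * (g * x))⁻¹ =
        D.ι W.σ * ((g * x) * D.ι W.v * (g * x)⁻¹) * (D.ι W.σ)⁻¹ by group, ← hbe, D.conj_map]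
      exact congrArg D.ι (by decide)
    have := mul_mem (inv_mem (hT (D.mem_T W.σ))) h1
    rwa [inv_mul_cancel_left] at this

end Emb

end CfsgJTwo
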