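import Cfsg.Agent.Lib.JTwoType.XCore
import Cfsg.Agent.Lib.JTwoType.FromG
import Cfsg.Agent.S0215

/-!
Fusion of involutions in the simple group: `z` is fused to `v`, the normaliser elements permuting the four-group and
the three cosets in `A1`.

Blueprint: `blueprint/S1776.md`, part A.
-/

set_option autoImplicit false
set_option linter.unusedSectionVars false
set_option maxRecDepth 100000
set_option synthInstance.maxSize 4000

namespace CfsgJTwo

open Cfsg CfsgA8C Equiv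

universe u

theorem three_cycle_moves : ∀ τ : Perm (Fin 5), Perm.sign τ = 1 → τ 0 = 0 → τ ∉ (1 : Perm (Fin 5)) :: dbl →
    ∀ h ∈ dbl, τ * h * τ⁻¹ ≠ h ∧ τ * τ * h * (τ * τ)⁻¹ ≠ h := by
  decide +kernel

namespace W

/-- A candidate for the conjugates of `z` in `A1`: `z` and some cosets of the centre. -/
def inS (b : F4 → Bool) (x : W) : Prop := IsA1 x ∧ (x = z ∨ (¬ IsW0 x ∧ b x.a = true))

instance (b : F4 → Bool) (x : W) : Decidable (inS b x) := by unfold inS; infer_instance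

theorem inS_count : ∀ b : F4 → Bool, ∀ u : W, inS b u → ¬ IsW0 u →
    (Finset.univ.filter fun s : W => inS b s ∧ inS b (u * s)).card <
      (Finset.univ.filter fun s : W => inS b s ∧ inS b (z * s)).card := by
  decide +kernel

theorem coset_T : ∀ u w : W, IsA1 u → ¬ IsW0 u → IsA1 w → w.a = u.a → ∃ t : W, IsT t ∧ t * u * t⁻¹ = w := by
  decide +kernel

theorem three_cosets : ∀ a b c d : F4, a ≠ 0 → b ≠ 0 → c ≠ 0 → d ≠ 0 → a ≠ b → a ≠ c → b ≠ c →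
    d = a ∨ d = b ∨ d = c := by decide

theorem A1_eq_mod : ∀ u w : W, IsA1 u → IsA1 w → (u.a = w.a ↔ IsW0 (u * w)) := by decide +kernel

theorem out_swap : ∀ x : W, IsOut x → ¬ IsA1 x → IsA1 (σ * x * σ⁻¹) ∧ ¬ IsW0 (σ * x * σ⁻¹) := by decide +kernel

theorem T_not_A : ∀ x : W, IsA1 x → ¬ IsW0 x → ¬ IsA2 x := by decide +kernel

end W

section

variable {G : Type u} [Group G] [Finite G] (D : Emb G)

namespace Emb

theorem A_cases {n : G} (hn : ∀ w, W.IsT w → n * D.ι w * n⁻¹ ∈ D.sub W.Ts) :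
    (n ∈ Subgroup.normalizer (D.sub W.A1s : Set G) ∧ n ∈ Subgroup.normalizer (D.sub W.A2s : Set G)) ∨
      ((∀ a, W.IsA1 a → n * D.ι a * n⁻¹ ∈ D.sub W.A2s) ∧ ∀ a, W.IsA2 a → n * D.ι a * n⁻¹ ∈ D.sub W.A1s) := by
  have hsq : ∀ (H : Subgroup W), (∀ a ∈ H, W.IsT a ∧ a * a = 1) → Nat.card ↥(D.sub H) = 16 →
      (D.sub H).map (MulAut.conj n).toMonoidHom = D.sub W.A1s ∨
        (D.sub H).map (MulAut.conj n).toMonoidHom = D.sub W.A2s := fun H hH hc =>
    D.E16_cases (by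
      rintro _ ⟨_, ⟨b, hb, rfl⟩, rfl⟩
      simpa using D.sub_le _ (hn b (hH b hb).1)) (by
      rintro _ ⟨_, ⟨b, hb, rfl⟩, rfl⟩
      rw [← map_mul, ← map_mul, (hH b hb).2, map_one, map_one]) (by
      rw [Subgroup.card_map_of_injective (MulAut.conj n).injective, hc])
  have hne : D.sub W.A1s ≠ D.sub W.A2s := fun e => by
    have h : D.ι ⟨.e, 0, 0, false⟩ ∈ D.sub W.A2s := e ▸ D.mem_sub.mpr (show W.IsA1 _ from ⟨rfl, rfl⟩)
    exact absurd (D.mem_sub.mp h).2 (by decide)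
  have hinj : Function.Injective (Subgroup.map (MulAut.conj n).toMonoidHom : Subgroup G → Subgroup G) :=
    Subgroup.map_injective (MulAut.conj n).injective
  have hmem : ∀ {B C : Subgroup G}, B.map (MulAut.conj n).toMonoidHom = C → ∀ x ∈ B, n * x * n⁻¹ ∈ C :=
    fun e x hx => e ▸ ⟨x, hx, by simp⟩
  rcases hsq W.A1s (fun a ha => ⟨ha.1, W.A1_sq a ha⟩) D.card_A1s with e1 | e1 <;>
    rcases hsq W.A2s (fun a ha => ⟨ha.1, W.A2_sq a ha⟩) D.card_A2s with e2 | e2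
  · exact absurd (hinj (e1.trans e2.symm)) hne
  · exact Or.inl ⟨mem_norm_of (hmem e1), mem_norm_of (hmem e2)⟩
  · exact Or.inr ⟨fun a ha => hmem e1 _ (D.mem_sub.mpr ha), fun a ha => hmem e2 _ (D.mem_sub.mpr ha)⟩
  · exact absurd (hinj (e1.trans e2.symm)) hne

theorem A_odd {n : G} (ho : Odd (orderOf n)) (hn : ∀ w, W.IsT w → n * D.ι w * n⁻¹ ∈ D.sub W.Ts) :
    n ∈ Subgroup.normalizer (D.sub W.A1s : Set G) ∧ n ∈ Subgroup.normalizer (D.sub W.A2s : Set G) := by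
  refine (D.A_cases hn).resolve_right fun ⟨h1, h2⟩ => ?_
  have hle : ∀ (B C : Subgroup W), (∀ a, a ∈ B → n * D.ι a * n⁻¹ ∈ D.sub C) →
      (∀ a, a ∈ C → n * D.ι a * n⁻¹ ∈ D.sub B) → n * n ∈ Subgroup.normalizer (D.sub B : Set G) := by
    intro B C hB hC
    refine mem_norm_of ?_
    rintro _ ⟨a, ha, rfl⟩
    obtain ⟨b, hb, e⟩ := hB a ha
    have := hC b hb
    rw [show n * n * D.ι a * (n * n)⁻¹ = n * (n * D.ι a * n⁻¹) * n⁻¹ by group, ← e]
    exact this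
  have hnn := (Subgroup.zpowers_le.mpr (hle W.A1s W.A2s h1 h2)) (mem_zpowers_sq ho)
  obtain ⟨b, hb, hbe⟩ := h1 W.u₁ W.u_facts.1
  obtain ⟨c, hc, hce⟩ := norm_conj hnn (D.mem_sub.mpr (show W.u₁ ∈ W.A1s from W.u_facts.1))
  have hbc : c = b := D.inj (hce.trans hbe.symm)
  subst hbc
  have h0 : W.IsW0 c := W.inter c hc hb
  obtain ⟨e, he, hee⟩ : n⁻¹ * D.ι c * n ∈ D.sub W.A2s := by
    have hn2 : n⁻¹ * n⁻¹ ∈ Subgroup.normalizer (D.sub W.A2s : Set G) := by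
      have := inv_mem (hle W.A2s W.A1s h2 h1)
      rwa [mul_inv_rev] at this
    obtain ⟨e, he, hee⟩ := h1 c (W.W0_le c h0).1
    have := norm_conj hn2 (D.mem_sub.mpr he)
    rw [hee] at this
    simpa [mul_assoc] using this
  have he' : e = W.u₁ := D.inj (by rw [hee, hbe]; group)
  exact W.T_not_A W.u₁ W.u_facts.1 W.u_facts.2.2.1.2 (he' ▸ he)

theorem sub_conj {t w : W} (H : Subgroup W) (h : t * w * t⁻¹ ∈ H) :
    D.ι t * D.ι w * (D.ι t)⁻¹ ∈ D.sub H := by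
  rw [D.conj_map]; exact D.mem_sub.mpr h

/-- The elements normalising both elementary abelian subgroups of order sixteen. -/
def NA : Subgroup G := Subgroup.normalizer (D.sub W.A1s : Set G) ⊓ Subgroup.normalizer (D.sub W.A2s : Set G)

theorem T_NA {t : W} (ht : W.IsT t) : D.ι t ∈ D.NA :=
  ⟨mem_norm_of (by rintro _ ⟨a, ha, rfl⟩; exact D.sub_conj _ ((W.A_normal_T t a ht).1 ha)),
    mem_norm_of (by rintro _ ⟨a, ha, rfl⟩; exact D.sub_conj _ ((W.A_normal_T t a ht).2 ha))⟩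

theorem NA_map {g : G} (hg : g ∈ D.NA) {a : W} (ha : W.IsA1 a) :
    ∃ b, W.IsA1 b ∧ g * D.ι a * g⁻¹ = D.ι b := by
  obtain ⟨b, hb, e⟩ := norm_conj hg.1 (D.mem_sub.mpr (show a ∈ W.A1s from ha))
  exact ⟨b, hb, e.symm⟩

theorem NA_W0 {g : G} (hg : g ∈ D.NA) {a : W} (ha : W.IsW0 a) :
    ∃ b, W.IsW0 b ∧ g * D.ι a * g⁻¹ = D.ι b := by
  obtain ⟨b, hb, e⟩ := D.NA_map hg (W.W0_le a ha).1
  obtain ⟨c, hc, e'⟩ := norm_conj hg.2 (D.mem_sub.mpr (show a ∈ W.A2s from (W.W0_le a ha).2.1))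
  exact ⟨b, W.inter b hb ((D.inj (e.symm.trans e'.symm)) ▸ hc), e⟩

theorem NA_out {g : G} (hg : g ∈ D.NA) {a : W} (ha : W.IsA1 a) (h0 : ¬ W.IsW0 a) :
    ∃ b, W.IsA1 b ∧ ¬ W.IsW0 b ∧ g * D.ι a * g⁻¹ = D.ι b := by
  obtain ⟨b, hb, e⟩ := D.NA_map hg ha
  refine ⟨b, hb, fun hb0 => h0 ?_, e⟩
  obtain ⟨c, hc, e'⟩ := D.NA_W0 (inv_mem hg) hb0
  have : c = a := D.inj (by rw [← e', ← e]; group)
  exact this ▸ hc

theorem NA_norm_W0 {g : G} (hg : g ∈ D.NA) : g ∈ Subgroup.normalizer (D.sub W.W0s : Set G) :=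
  mem_norm_of (by
    rintro _ ⟨a, ha, rfl⟩
    obtain ⟨b, hb, e⟩ := D.NA_W0 hg ha
    exact e ▸ D.mem_sub.mpr hb)

theorem NA_norm_Ts {g : G} (hg : g ∈ D.NA) {w : W} (hw : W.IsT w) : g * D.ι w * g⁻¹ ∈ D.sub W.Ts := by
  obtain ⟨p, q, hp, hq, rfl⟩ := W.T_mem hw
  rw [map_mul, ← conj_mul]
  exact mul_mem
    (Subgroup.map_mono (fun x (hx : x ∈ W.A1s) => (hx.1 : W.IsT x)) (norm_conj hg.1 (D.mem_sub.mpr hp)))
    (Subgroup.map_mono (fun x (hx : x ∈ W.A2s) => (hx.1 : W.IsT x)) (norm_conj hg.2 (D.mem_sub.mpr hq)))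

/-- A conjugate of an element of `A1` in the centre, by an element normalising `A1`. -/
theorem into_z {u : W} (hu : W.IsA1 u) (h : IsConj (D.ι u) (D.ι W.z)) :
    ∃ g : G, g ∈ Subgroup.normalizer (D.sub W.A1s : Set G) ∧ g * D.ι u * g⁻¹ = D.ι W.z := by
  obtain ⟨g, hg, hgy⟩ := D.into_ext D.ext_z h
  set B := (D.sub W.A1s).map (MulAut.conj g).toMonoidHom with hB
  have hBT : B ≤ (D.T : Subgroup G) := by
    rintro _ ⟨_, ⟨a, ha, rfl⟩, rfl⟩
    obtain ⟨y, -, e⟩ := hgy a (W.A_comm a u ha hu)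
    simpa [e] using D.mem_T y
  rcases D.E16_cases hBT (by
      rintro _ ⟨_, ⟨b, hb, rfl⟩, rfl⟩
      rw [← map_mul, ← map_mul, W.A1_sq b hb, map_one, map_one]) (by
      rw [hB, Subgroup.card_map_of_injective (MulAut.conj g).injective, D.card_A1s]) with e | e
  · exact ⟨g, mem_norm_of fun x hx => e ▸ ⟨x, hx, by simp⟩, hg⟩
  · refine ⟨D.ι W.σ * g, mem_norm_of fun x hx => ?_, ?_⟩
    · have : g * x * g⁻¹ ∈ D.sub W.A2s := e ▸ ⟨x, hx, by simp⟩
      obtain ⟨a, ha, hae⟩ := this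
      rw [show D.ι W.σ * g * x * (D.ι W.σ * g)⁻¹ = D.ι W.σ * (g * x * g⁻¹) * (D.ι W.σ)⁻¹ by group, ← hae]
      exact D.sub_conj _ ((W.σ_A a).2 ha)
    · rw [show D.ι W.σ * g * D.ι u * (D.ι W.σ * g)⁻¹ = D.ι W.σ * (g * D.ι u * g⁻¹) * (D.ι W.σ)⁻¹ by group, hg,
        D.conj_map, ← W.z_central W.σ, mul_inv_cancel_right]

theorem coset_conj {u w : W} (hu : W.IsA1 u) (h0 : ¬ W.IsW0 u) (hw : W.IsA1 w) (he : w.a = u.a) :
    IsConj (D.ι u) (D.ι w) := by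
  obtain ⟨t, -, e⟩ := W.coset_T u w hu h0 hw he
  exact isConj_iff.mpr ⟨D.ι t, by rw [D.conj_map, e]⟩

theorem A1_of_out {x : W} (hx : W.IsOut x) : ∃ u, W.IsA1 u ∧ ¬ W.IsW0 u ∧ IsConj (D.ι x) (D.ι u) := by
  by_cases h : W.IsA1 x
  · exact ⟨x, h, hx.2, IsConj.refl _⟩
  · exact ⟨_, (W.out_swap x hx h).1, (W.out_swap x hx h).2, isConj_iff.mpr ⟨D.ι W.σ, D.conj_map _ _⟩⟩

end Emb

end

/-- A finite simple group with the model as a Sylow 2-subgroup has no subgroup of index two. -/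
theorem simple_no_two {G : Type u} [Group G] [Finite G] [IsSimpleGroup G] (D : Emb G) :
    ∀ H : Subgroup G, H.Normal → H.index ≠ 2 := fun H hH hi => by
  rcases hH.eq_bot_or_eq_top with rfl | rfl
  · have h := Subgroup.card_dvd_of_le (le_top : (D.T : Subgroup G) ≤ ⊤)
    rw [D.card_T, Subgroup.card_top, ← Subgroup.index_bot, hi] at h
    norm_num at h
  · simp at hi

/-- An odd normal subgroup of the simple group is trivial. -/
theorem simple_odd {G : Type u} [Group G] [Finite G] [IsSimpleGroup G] (D : Emb G) {N : Subgroup G} (hN : N.Normal)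
    (ho : Odd (Nat.card N)) : N = ⊥ := by
  refine hN.eq_bot_or_eq_top.resolve_right fun h => ?_
  have h2 : Even (Nat.card N) := by
    rw [h, Subgroup.card_top]
    exact even_iff_two_dvd.mpr ((show 2 ∣ 128 by norm_num).trans (D.card_T ▸
      (D.T : Subgroup G).card_subgroup_dvd_card))
  exact (Nat.not_even_iff_odd.mpr ho) h2

theorem simple_center {G : Type u} [Group G] [Finite G] [IsSimpleGroup G] (D : Emb G) {x : G}
    (hx : ∀ g : G, g * x = x * g) : x = 1 := by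
  rcases (inferInstance : (Subgroup.center G).Normal).eq_bot_or_eq_top with h | h
  · exact Subgroup.mem_bot.mp (h ▸ Subgroup.mem_center_iff.mpr hx)
  · obtain ⟨p, q, -, -, hpq, -⟩ := W.cent_σ_witness
    exact absurd (D.comm_iff.mp (Subgroup.mem_center_iff.mp (h ▸ Subgroup.mem_top (D.ι q)) (D.ι p))) hpq

namespace Emb

variable {G : Type u} [Group G] [Finite G] [IsSimpleGroup G] (D : Emb G)

theorem v_conj_vz {a : W} (ha : W.IsV a) : IsConj (D.ι W.v) (D.ι a) := by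
  rcases ha with rfl | rfl
  · exact IsConj.refl _
  · exact isConj_iff.mpr ⟨D.ι W.σ, by rw [D.conj_map, W.σ_swap_v]⟩

theorem z_conj_v : IsConj (D.ι W.z) (D.ι W.v) := by
  classical
  by_contra hne
  obtain ⟨g, hgT, hgne⟩ : ∃ g : G, g * D.ι W.z * g⁻¹ ∈ (D.T : Subgroup G) ∧ g * D.ι W.z * g⁻¹ ≠ D.ι W.z := by
    by_contra h
    push Not at h
    obtain ⟨N, hN, hNo, hNc⟩ := Cfsg.Agent.S0215.result D.T (D.ι W.z)
      (orderOf_eq_prime (by rw [pow_two, ← map_mul, W.z_sq, map_one]) (D.ne_one W.z_ne)) (D.mem_T _) h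
    refine D.ne_one W.z_ne (simple_center D fun g => ?_)
    have h1 := hNc g
    rw [simple_odd D hN hNo, Subgroup.mem_bot, mul_inv_eq_one, mul_inv_eq_iff_eq_mul] at h1
    exact h1.symm
  obtain ⟨x, hx⟩ := D.exists_pre hgT
  have hxz : IsConj (D.ι W.z) (D.ι x) := isConj_iff.mpr ⟨g, hx.symm⟩
  have hxne : x ≠ W.z := fun e => hgne (by rw [← hx, e])
  have hx2 : x * x = 1 := D.inj (by
    rw [map_mul, hx, conj_mul, ← map_mul, W.z_sq, map_one, mul_one, mul_inv_cancel])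
  have hx1 : x ≠ 1 := fun e => D.ne_one W.z_ne (by
    rw [e, map_one] at hx
    exact conj_eq_one_iff.mp hx.symm)
  rcases W.invol_cases x hx2 with e | e | e | e | e
  · exact hx1 e
  · exact hxne e
  · exact hne (hxz.trans (D.v_conj_vz e).symm)
  · obtain ⟨c, hc⟩ := W.sig_conj x e
    obtain ⟨h, -, a, ha, hh⟩ := D.sig_to_v (simple_no_two D)
    refine hne ((hxz.trans ?_).trans (D.v_conj_vz ha).symm)
    exact (isConj_iff.mpr ⟨D.ι c, by rw [D.conj_map, hc]⟩ : IsConj (D.ι W.σ) (D.ι x)).symm.trans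
      (isConj_iff.mpr ⟨h, hh⟩)
  · obtain ⟨u, hu, hu0, huc⟩ := D.A1_of_out e
    have huz : IsConj (D.ι u) (D.ι W.z) := (hxz.trans huc).symm
    obtain ⟨k, hk, hku⟩ := D.into_z hu huz
    let b : F4 → Bool := fun c => decide (IsConj (D.ι ⟨c, 0, 0, false⟩) (D.ι W.z))
    have hS : ∀ s : W, W.IsA1 s → (W.inS b s ↔ IsConj (D.ι s) (D.ι W.z)) := by
      intro s hs
      by_cases h0 : W.IsW0 s
      · constructor
        · rintro ⟨-, h | ⟨h, -⟩⟩
          · exact h ▸ IsConj.refl _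
          · exact absurd h0 h
        · intro h
          rcases W.W0_cases s h0 with rfl | rfl | hV
          · exact absurd (isConj_one_left.mp (by rw [map_one] at h; exact h.symm)) (D.ne_one W.z_ne)
          · exact ⟨hs, Or.inl rfl⟩
          · exact absurd (h.symm.trans (D.v_conj_vz hV).symm) hne
      · have hc : IsConj (D.ι ⟨s.a, 0, 0, false⟩) (D.ι s) := by
          refine D.coset_conj ⟨rfl, rfl⟩ (fun h => h0 ?_) hs rfl
          exact (W.A1_zero s hs).mp h.2.1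
        constructor
        · rintro ⟨-, h | ⟨-, h⟩⟩
          · exact h ▸ IsConj.refl _
          · exact hc.symm.trans (of_decide_eq_true h)
        · exact fun h => ⟨hs, Or.inr ⟨h0, decide_eq_true (hc.trans h)⟩⟩
    have hlt := W.inS_count b u ((hS u hu).mpr huz) hu0
    refine absurd ?_ (not_le.mpr hlt)
    -- conjugation by `k` maps the pairs at `z` to those at `u`
    have hpre : ∀ s : W, W.IsA1 s → ∃ r, W.IsA1 r ∧ k⁻¹ * D.ι s * k = D.ι r := fun s hs => by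
      obtain ⟨r, hr, e⟩ := norm_conj (inv_mem hk) (D.mem_sub.mpr (show s ∈ W.A1s from hs))
      exact ⟨r, hr, by rw [e, inv_inv]⟩
    rw [← Fintype.card_subtype, ← Fintype.card_subtype]
    refine Fintype.card_le_of_injective (fun s => ⟨(hpre s.1 s.2.1.1).choose, ?_⟩) ?_
    · obtain ⟨hr, e⟩ := (hpre s.1 s.2.1.1).choose_spec
      have hzs : W.IsA1 (W.z * s.1) := s.2.2.1
      have e2 : D.ι (u * (hpre s.1 s.2.1.1).choose) = k⁻¹ * D.ι (W.z * s.1) * k := by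
        rw [map_mul, map_mul, ← e, ← hku]; group
      refine ⟨(hS _ hr).mpr ?_, (hS _ (W.A1_mul _ _ hu hr)).mpr ?_⟩
      · exact (isConj_iff.mpr ⟨k, by rw [← e]; group⟩ : IsConj _ (D.ι s.1)).trans ((hS _ s.2.1.1).mp s.2.1)
      · exact (isConj_iff.mpr ⟨k, by rw [e2]; group⟩ : IsConj _ (D.ι (W.z * s.1))).trans ((hS _ hzs).mp s.2.2)
    · intro s s' e
      have e1 := congrArg (fun r => D.ι r.1) e
      simp only [← (hpre s.1 s.2.1.1).choose_spec.2, ← (hpre s'.1 s'.2.1.1).choose_spec.2] at e1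
      exact Subtype.ext (D.inj (mul_left_cancel (mul_right_cancel e1)))

theorem W0_conj_z {a : W} (ha : W.IsW0 a) (ha1 : a ≠ 1) : IsConj (D.ι a) (D.ι W.z) := by
  rcases W.W0_cases a ha with e | e | e
  · exact absurd e ha1
  · exact e ▸ IsConj.refl _
  · exact (D.v_conj_vz e).symm.trans D.z_conj_v.symm

theorem sig_conj_z {x : W} (hx : W.IsSig x) : IsConj (D.ι x) (D.ι W.z) := by
  obtain ⟨c, hc⟩ := W.sig_conj x hx
  obtain ⟨h, -, a, ha, hh⟩ := D.sig_to_v (simple_no_two D)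
  exact (isConj_iff.mpr ⟨D.ι c, by rw [D.conj_map, hc]⟩ : IsConj (D.ι W.σ) (D.ι x)).symm.trans
    ((isConj_iff.mpr ⟨h, hh⟩).trans ((D.v_conj_vz ha).symm.trans D.z_conj_v.symm))

theorem invol_class {x : G} (hx : x * x = 1) (hx1 : x ≠ 1) :
    IsConj x (D.ι W.z) ∨ ∃ u, W.IsA1 u ∧ ¬ W.IsW0 u ∧ IsConj x (D.ι u) := by
  obtain ⟨g, hg⟩ := into_top D.T (two_elt_isPGroup (k := 1) (x := x) (by rw [pow_one, pow_two, hx]))
  obtain ⟨w, hw⟩ := D.exists_pre (hg x (Subgroup.mem_zpowers x))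
  have hxw : IsConj x (D.ι w) := isConj_iff.mpr ⟨g, hw.symm⟩
  have hw2 : w * w = 1 := D.inj (by rw [map_mul, hw, conj_mul, hx, mul_one, mul_inv_cancel, map_one])
  have hw1 : w ≠ 1 := fun e => hx1 (by
    rw [e, map_one] at hw
    exact conj_eq_one_iff.mp hw.symm)
  rcases W.invol_cases w hw2 with e | e | e | e | e
  · exact absurd e hw1
  · exact Or.inl (e ▸ hxw)
  · exact Or.inl ((hxw.trans (D.v_conj_vz e).symm).trans D.z_conj_v.symm)
  · exact Or.inl (hxw.trans (D.sig_conj_z e))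
  · obtain ⟨u, hu, hu0, hc⟩ := D.A1_of_out e
    exact Or.inr ⟨u, hu, hu0, hxw.trans hc⟩

/-- An element sending `v` to `z` and normalising both elementary abelian subgroups. -/
theorem exists_k : ∃ k ∈ D.NA, k * D.ι W.v * k⁻¹ = D.ι W.z := by
  obtain ⟨k, hk, hky⟩ := D.into_ext D.ext_z D.z_conj_v.symm
  have hT : ∀ y, W.IsT y → k * D.ι y * k⁻¹ ∈ D.sub W.Ts := fun y hy => D.Ts_stable (fun w hw => by
    obtain ⟨y', -, e⟩ := hky w ((W.cent_v W.v w (Or.inl rfl)).mpr hw)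
    exact e ▸ D.mem_T y') hy
  rcases D.A_cases hT with h | ⟨h1, h2⟩
  · exact ⟨k, ⟨h.1, h.2⟩, hk⟩
  · refine ⟨D.ι W.σ * k, ⟨mem_norm_of ?_, mem_norm_of ?_⟩, ?_⟩
    · rintro _ ⟨a, ha, rfl⟩
      obtain ⟨b, hb, e⟩ := h1 a ha
      rw [show D.ι W.σ * k * D.ι a * (D.ι W.σ * k)⁻¹ = D.ι W.σ * (k * D.ι a * k⁻¹) * (D.ι W.σ)⁻¹ by group, ← e]
      exact D.sub_conj _ ((W.σ_A b).2 hb)
    · rintro _ ⟨a, ha, rfl⟩
      obtain ⟨b, hb, e⟩ := h2 a ha
      rw [show D.ι W.σ * k * D.ι a * (D.ι W.σ * k)⁻¹ = D.ι W.σ * (k * D.ι a * k⁻¹) * (D.ι W.σ)⁻¹ by group, ← e]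
      exact D.sub_conj _ ((W.σ_A b).1 hb)
    · rw [show D.ι W.σ * k * D.ι W.v * (D.ι W.σ * k)⁻¹ = D.ι W.σ * (k * D.ι W.v * k⁻¹) * (D.ι W.σ)⁻¹ by group,
        hk, D.conj_map, ← W.z_central W.σ, mul_inv_cancel_right]

end Emb

end CfsgJTwo
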