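import Cfsg.Agent.Lib.JTwoType.Field

/-!
The Sylow 2-subgroup of the Hall–Janko group: the unitriangular matrices over four letters extended by a
graph-field automorphism.

Blueprint: `blueprint/S1776.md`.
-/

set_option autoImplicit false

namespace CfsgJTwo

open F4 (fr)

/-- An element: the three entries and the flag of the automorphism. -/
@[ext]
structure W where
  a : F4
  b : F4
  c : F4
  s : Bool
deriving DecidableEq

namespace W

/-- The underlying product. -/
def equivProd : W ≃ F4 × F4 × F4 × Bool where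
  toFun x := (x.a, x.b, x.c, x.s)
  invFun p := ⟨p.1, p.2.1, p.2.2.1, p.2.2.2⟩
  left_inv _ := rfl
  right_inv _ := rfl

instance : Fintype W := Fintype.ofEquiv _ equivProd.symm

/-- The first two entries and the third of the image of a triple under the automorphism. -/
def phA (s : Bool) (x : W) : F4 := if s then fr x.b else x.a
def phB (s : Bool) (x : W) : F4 := if s then fr x.a else x.b
def phC (s : Bool) (x : W) : F4 := if s then fr x.c + fr x.a * fr x.b else x.c

instance : Mul W := ⟨fun x y =>
  ⟨x.a + phA x.s y, x.b + phB x.s y, x.c + phC x.s y + x.a * phB x.s y, Bool.xor x.s y.s⟩⟩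
instance : One W := ⟨⟨0, 0, 0, false⟩⟩
instance : Inv W := ⟨fun x =>
  if x.s then ⟨fr x.b, fr x.a, fr x.c, true⟩ else ⟨x.a, x.b, x.c + x.a * x.b, false⟩⟩

theorem mul_def (x y : W) : x * y =
    ⟨x.a + phA x.s y, x.b + phB x.s y, x.c + phC x.s y + x.a * phB x.s y, Bool.xor x.s y.s⟩ := rfl

theorem one_def : (1 : W) = ⟨0, 0, 0, false⟩ := rfl

theorem inv_def (x : W) : x⁻¹ =
    if x.s then ⟨fr x.b, fr x.a, fr x.c, true⟩ else ⟨x.a, x.b, x.c + x.a * x.b, false⟩ := rfl

theorem mul_assoc' (x y z : W) : x * y * z = x * (y * z) := by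
  obtain ⟨a, b, c, s⟩ := x
  obtain ⟨a', b', c', s'⟩ := y
  obtain ⟨a'', b'', c'', s''⟩ := z
  cases s <;> cases s' <;>
    simp only [mul_def, phA, phB, phC, Bool.xor_false, Bool.false_xor, Bool.true_xor, Bool.not_false, Bool.not_true,
      if_true, if_false, Bool.false_eq_true, F4.fr_add, F4.fr_mul, F4.fr_fr, W.mk.injEq]
  all_goals refine ⟨?_, ?_, ?_, ?_⟩ <;> first | trivial | ring1 | (ring_nf; simp [F4.two_eq_zero]) | simp

theorem inv_mul' : ∀ x : W, x⁻¹ * x = 1 := by decide +kernel

instance : Group W where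
  mul_assoc := mul_assoc'
  one_mul := by decide +kernel
  mul_one := by decide +kernel
  inv_mul_cancel := inv_mul'

theorem card_W : Nat.card W = 128 := by
  rw [Nat.card_eq_fintype_card]
  decide +kernel

/-- The central involution. -/
def z : W := ⟨0, 0, .e, false⟩
/-- The other central involution of the unitriangular group. -/
def v : W := ⟨0, 0, .w, false⟩
/-- The automorphism. -/
def σ : W := ⟨0, 0, 0, true⟩

end W

end CfsgJTwo
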