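import Cfsg.Agent.Lib.HallJanko.FusionSimple
import Cfsg.Agent.Lib.JTwoType.Model

/-!
The model is a Sylow 2-subgroup of the Hall–Janko group.
-/

set_option autoImplicit false

namespace CfsgJTwo

open Equiv CfsgHJ

/-- The position of a letter. -/
def n4 : F4 → ℕ
  | .o => 0
  | .e => 1
  | .w => 2
  | .w2 => 3

/-- The position of an element. -/
def wNum (x : W) : ℕ := n4 x.a + 4 * n4 x.b + 16 * n4 x.c + cond x.s 64 0

/-- The list of places in the list of the Sylow subgroup. -/
def wPlace : List ℕ := [0,7,76,90,54,125,17,15,79,28,59,116,75,85,123,43,1,10,78,95,51,124,2,19,99,91,107,102,88,65,110,120,5,33,89,101,109,119,21,4,96,68,113,118,98,87,122,55,12,36,94,100,108,121,13,26,97,86,50,39,82,23,56,117,14,66,45,112,64,127,47,52,60,44,77,74,104,41,93,30,22,67,57,106,69,126,34,9,61,37,18,16,103,6,31,92,25,27,111,46,29,83,8,35,115,11,63,62,40,32,71,80,3,24,105,58,20,84,49,48,114,53,73,72,42,38,81,70]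

/-- The code of an element. -/
def wCode (x : W) : ℕ := syList.getD (wPlace.getD (wNum x) 0) 0

/-- Generators of the model. -/
def wGens : List W := [⟨.e, 0, 0, false⟩, ⟨.w, 0, 0, false⟩, W.σ]

theorem wNum_lt : ∀ x : W, wPlace.getD (wNum x) 0 < 128 := by decide +kernel

theorem wPlace_inj : ∀ x y : W, wPlace.getD (wNum x) 0 = wPlace.getD (wNum y) 0 → x = y := by decide +kernel

theorem wCode_step : ∀ x : W, wGens.all (fun g => Nat.beq (cp 100 (wCode x) (wCode g)) (wCode (x * g))) = true := by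
  decide +kernel

theorem wCode_norm : ∀ x : W, x = (⟨x.a, 0, 0, false⟩ : W) *
    (W.σ * ⟨F4.fr x.b, 0, 0, false⟩ * W.σ) *
    ((⟨x.c + x.a * x.b, 0, 0, false⟩ : W) * (W.σ * ⟨.e, 0, 0, false⟩ * W.σ) *
      (⟨x.c + x.a * x.b, 0, 0, false⟩ : W)⁻¹ * (W.σ * ⟨.e, 0, 0, false⟩ * W.σ)⁻¹) *
    (cond x.s W.σ 1) := by decide +kernel

theorem closure_wGens : Subgroup.closure {g : W | g ∈ wGens} = ⊤ := by
  set C := Subgroup.closure {g : W | g ∈ wGens}
  have hs : W.σ ∈ C := Subgroup.subset_closure (show W.σ ∈ wGens by simp [wGens])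
  have he : (⟨.e, 0, 0, false⟩ : W) ∈ C := Subgroup.subset_closure (show _ ∈ wGens by simp [wGens])
  have hw : (⟨.w, 0, 0, false⟩ : W) ∈ C := Subgroup.subset_closure (show _ ∈ wGens by simp [wGens])
  have hp : ∀ a : F4, (⟨a, 0, 0, false⟩ : W) ∈ C := by
    intro a
    cases a
    · exact one_mem C
    · exact he
    · exact hw
    · rw [show (⟨.w2, 0, 0, false⟩ : W) = ⟨.e, 0, 0, false⟩ * ⟨.w, 0, 0, false⟩ by decide]
      exact mul_mem he hw
  have hq : ∀ a : F4, W.σ * ⟨a, 0, 0, false⟩ * W.σ ∈ C := fun a => mul_mem (mul_mem hs (hp a)) hs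
  refine eq_top_iff.mpr fun x _ => ?_
  rw [wCode_norm x]
  refine mul_mem (mul_mem (mul_mem (hp _) (hq _))
    (mul_mem (mul_mem (mul_mem (hp _) (hq _)) (inv_mem (hp _))) (inv_mem (hq _)))) ?_
  cases x.s
  · exact one_mem C
  · exact hs

attribute [local irreducible] syList wPlace syGens chainSy chainData

/-- The model is a Sylow subgroup of the Hall–Janko group. -/
theorem sylow_iso (P : Sylow 2 Cfsg.Spor.J2) : Nonempty (↥(P : Subgroup Cfsg.Spor.J2) ≃* W) := by
  classical
  haveI : Fact (Nat.Prime 2) := ⟨Nat.prime_two⟩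
  obtain ⟨hlist, -⟩ := sy_list
  simp only [List.all_eq_true, List.mem_range, Bool.and_eq_true] at hlist
  obtain ⟨hin, -⟩ := sy_inG
  simp only [List.all_append, Bool.and_eq_true] at hin
  have hperm := sy_perm
  simp only [List.all_append, Bool.and_eq_true] at hperm
  obtain ⟨⟨vS, -⟩, -⟩ := hperm
  obtain ⟨hS, -⟩ := sy_chains
  have sS := chain_sound (by norm_num) hS (valid_of_isPermC vS)
  have hle : genG 100 syGens ≤ hjGroup := by
    rw [genG, Subgroup.closure_le]
    rintro p ⟨c, hc, hp⟩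
    exact ((chain_sound (by norm_num) chain_check valid_gens).mem_iff _ _ hp).mp (List.all_eq_true.mp hin.1.1 c hc)
  have hel : ∀ x : W, ∃ p : Perm (Fin 100), Rep 100 (wCode x) p ∧ p ∈ hjGroup := by
    intro x
    obtain ⟨⟨⟨hp, hs⟩, -⟩, -⟩ := hlist _ (wNum_lt x)
    obtain ⟨p, hp'⟩ := exists_of_isPermC hp
    exact ⟨p, hp', hle ((sS.mem_iff _ _ hp').mp hs)⟩
  choose f hf hfm using hel
  have hgen : ∀ x, ∀ g ∈ wGens, f (x * g) = f x * f g := fun x g hg =>
    ((hf x).comp (hf g)).eq_beq (hf (x * g)) (List.all_eq_true.mp (wCode_step x) g hg) |>.symm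
  have hone : f 1 = 1 := by
    have h := hgen 1 W.σ (by simp [wGens])
    rw [one_mul] at h
    exact mul_eq_right.mp h.symm
  have hmul : ∀ x y, f (x * y) = f x * f y := by
    have key : ∀ y ∈ Subgroup.closure {g : W | g ∈ wGens}, ∀ x, f (x * y) = f x * f y := by
      intro y hy
      induction hy using Subgroup.closure_induction with
      | mem g hg => exact fun x => hgen x g hg
      | one => intro x; rw [mul_one, hone, mul_one]
      | mul a b _ _ iha ihb => intro x; rw [← mul_assoc, ihb, iha, ihb a, mul_assoc]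
      | inv a _ iha =>
        intro x
        have h1 : f (x * a⁻¹) * f a = f x := by rw [← iha, inv_mul_cancel_right]
        have h2 : f a⁻¹ * f a = 1 := by rw [← iha, inv_mul_cancel, hone]
        rw [eq_inv_of_mul_eq_one_left h2]
        exact eq_mul_inv_of_mul_eq h1
    exact fun x y => key y (closure_wGens ▸ Subgroup.mem_top y) x
  let φ : W →* hjGroup := MonoidHom.mk' (fun x => ⟨f x, hfm x⟩) fun x y => Subtype.ext (hmul x y)
  have hinj : Function.Injective φ := by
    intro x y e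
    have e' : f x = f y := congrArg Subtype.val e
    refine wPlace_inj x y ?_
    rcases lt_trichotomy (wPlace.getD (wNum x) 0) (wPlace.getD (wNum y) 0) with h | h | h
    · exfalso
      obtain ⟨i, hi, hne⟩ := List.any_eq_true.mp ((hlist _ (wNum_lt y)).1.2 _ h)
      rw [List.mem_range] at hi
      have h1 := hf x ⟨i, hi⟩
      rw [e', ← hf y ⟨i, hi⟩] at h1
      simp only [wCode] at h1
      rw [h1, Nat.beq_refl] at hne
      simp at hne
    · exact h
    · exfalso
      obtain ⟨i, hi, hne⟩ := List.any_eq_true.mp ((hlist _ (wNum_lt x)).1.2 _ h)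
      rw [List.mem_range] at hi
      have h1 := hf x ⟨i, hi⟩
      rw [e', ← hf y ⟨i, hi⟩] at h1
      simp only [wCode] at h1
      rw [h1, Nat.beq_refl] at hne
      simp at hne
  let ψ : W →* Cfsg.Spor.J2 := hjEquiv.symm.toMonoidHom.comp φ
  have hψ : Function.Injective ψ := hjEquiv.symm.injective.comp hinj
  have hc : Nat.card ψ.range = 2 ^ 7 := by
    rw [← Nat.card_congr (MonoidHom.ofInjective hψ).toEquiv, W.card_W]
    norm_num
  haveI : Finite Cfsg.Spor.J2 := Finite.of_equiv hjGroup hjEquiv.symm.toEquiv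
  let P₀ : Sylow 2 Cfsg.Spor.J2 := (IsPGroup.of_card hc).toSylow (by
    have h := ψ.range.card_mul_index
    rw [hc, card_J2] at h
    omega)
  exact ⟨(Sylow.equiv P P₀).trans (MonoidHom.ofInjective hψ).symm⟩

end CfsgJTwo
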