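import Cfsg.Agent.Lib.JTwoType.FromG
import Cfsg.Agent.Lib.JTwoType.Iso
import Cfsg.Agent.Lib.HallJanko.ReflCent

/-!
The Hall–Janko group itself as an instance of part B: a central involution with core-free centraliser.

Blueprint: `blueprint/S1776.md`.
-/

set_option autoImplicit false
set_option linter.unusedSectionVars false

namespace CfsgJTwo

open Cfsg CfsgA8C Cfsg.Spor CfsgHJ

theorem J2_not_two : ∀ H : Subgroup J2, H.Normal → H.index ≠ 2 := by
  intro H hH h
  haveI := isSimple_J2
  haveI : Finite J2 := Nat.finite_of_card_ne_zero (by rw [card_J2]; norm_num)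
  rcases hH.eq_bot_or_eq_top with e | e
  · rw [e, Subgroup.index_bot, card_J2] at h
    omega
  · rw [e, Subgroup.index_top] at h
    omega

/-- An involution of `J₂` central in a Sylow 2-subgroup with the shape of part B and a core-free centraliser. -/
theorem exists_J2 : ∃ (_ : Finite J2) (D : Emb J2), oddCore ↥D.Cz = ⊥ := by
  haveI hfin : Finite J2 := Nat.finite_of_card_ne_zero (by rw [card_J2]; norm_num)
  haveI := Fact.mk Nat.prime_two
  set f : Equiv.Perm ↥icoLeech := (reflEl base0).1 with hf
  have hsh := refl_centralizer f (isRefl_iff.mpr ⟨_, isMin_lineAt base0, rfl⟩) (reflEl base0).2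
  set z' : J2 := QuotientGroup.mk ⟨f, (reflEl base0).2⟩
  set C := Subgroup.centralizer ({z'} : Set J2)
  obtain ⟨φ, hφ, h32, zq, hzq, hzq1, hzqc, hcen, hsq, -⟩ := hsh
  have hcard : Nat.card C = 1920 := by
    have h := φ.ker.card_mul_index
    rw [Subgroup.index_ker, MonoidHom.range_eq_top.mpr hφ, Subgroup.card_top, h32, nat_card_alternatingGroup,
      Nat.card_fin] at h
    norm_num [Nat.factorial] at h
    exact h.symm
  -- the centraliser is core-free
  have hO : oddCore ↥C = ⊥ := by
    set O := oddCore ↥C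
    have hodd : Odd (Nat.card O) := CfsgLib.odd_card_oddCore
    have hker : ∀ x : C, x ∈ O → x ∈ φ.ker → x = 1 := fun x hx hxk => by
      have h1 := Nat.dvd_gcd (Subgroup.orderOf_dvd_natCard _ hxk) (Subgroup.orderOf_dvd_natCard _ hx)
      rw [h32, show (32 : ℕ) = 2 ^ 5 by norm_num, Nat.Coprime.pow_left 5 (Nat.coprime_two_left.mpr hodd)] at h1
      exact orderOf_eq_one_iff.mp (Nat.dvd_one.mp h1)
    haveI : (O.map φ).Normal := Subgroup.Normal.map inferInstance φ hφ
    rcases alternatingGroup.isSimpleGroup_five.eq_bot_or_eq_top_of_normal (O.map φ) inferInstance with e | e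
    · rw [eq_bot_iff]
      intro x hx
      rw [Subgroup.mem_bot]
      refine hker x hx (φ.mem_ker.mpr ?_)
      have : φ x ∈ O.map φ := ⟨x, hx, rfl⟩
      rwa [e, Subgroup.mem_bot] at this
    · exfalso
      have h := Subgroup.card_map_dvd O φ
      rw [e, Subgroup.card_top, nat_card_alternatingGroup, Nat.card_fin] at h
      norm_num [Nat.factorial] at h
      exact (Nat.not_even_iff_odd.mpr hodd) (even_iff_two_dvd.mpr ((by norm_num : (2 : ℕ) ∣ 60).trans h))
  -- a Sylow subgroup inside the centraliser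
  obtain ⟨P₀⟩ := (inferInstance : Nonempty (Sylow 2 ↥C))
  have hPc : Nat.card ↥((P₀ : Subgroup C).map C.subtype) = 128 := by
    rw [Subgroup.card_map_of_injective C.subtype_injective, P₀.card_eq_multiplicity, hcard]
    rw [show (1920 : ℕ) = 2 ^ 7 * 15 by norm_num, Nat.factorization_mul (by norm_num) (by norm_num),
      Nat.Prime.factorization_pow Nat.prime_two]
    simp [Finsupp.single_eq_same, Nat.factorization_eq_zero_of_not_dvd (by norm_num : ¬ 2 ∣ 15)]
  obtain ⟨P, hP⟩ := (P₀.2.map C.subtype).exists_le_sylow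
  obtain ⟨e⟩ := sylow_iso P
  set D := Emb.ofEquiv P e
  have hPeq : (P₀ : Subgroup C).map C.subtype = (P : Subgroup J2) :=
    Subgroup.eq_of_le_of_card_ge hP (by rw [hPc]; exact le_of_eq D.card_T)
  have hPC : (P : Subgroup J2) ≤ C := hPeq ▸ Subgroup.map_subtype_le _
  have hz'C : z' ∈ C := mem_cent.mpr rfl
  have hz'2 : orderOf z' = 2 := by
    have h2 : (zq : J2) ∈ C := zq.2
    -- `z'` is the involution in the centre of the kernel
    have hzk : (⟨z', hz'C⟩ : C) ∈ φ.ker := by
      rw [φ.mem_ker]
      have hcent : ∀ y : alternatingGroup (Fin 5), φ ⟨z', hz'C⟩ * y = y * φ ⟨z', hz'C⟩ := by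
        intro y
        obtain ⟨x, rfl⟩ := hφ y
        rw [← map_mul, ← map_mul]
        exact congrArg φ (Subtype.ext (mem_cent.mp x.2).symm)
      exact (by decide +kernel : ∀ a : alternatingGroup (Fin 5), (∀ y, a * y = y * a) → a = 1) _ hcent
    have hne : z' ≠ 1 := by
      intro h
      have hC : C = ⊤ := by
        ext x
        simp [C, h, mem_cent]
      rw [hC, Subgroup.card_top, card_J2] at hcard
      omega
    rcases hcen _ hzk (fun r _ => Subtype.ext (mem_cent.mp r.2).symm) with e | e
    · exact absurd (congrArg Subtype.val e) hne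
    · rcases hsq zq hzq with h | h
      · refine orderOf_eq_prime ?_ hne
        rw [pow_two]
        have := congrArg Subtype.val (e ▸ h : (⟨z', hz'C⟩ : C) * ⟨z', hz'C⟩ = 1)
        simpa using this
      · exact absurd (mul_eq_left.mp h) hzq1
  have hz'P : z' ∈ (P : Subgroup J2) := by
    have hn : z' ∈ Subgroup.normalizer ((P : Subgroup J2) : Set J2) := mem_norm_of fun p hp => by
      rw [← mem_cent.mp (hPC hp), mul_inv_cancel_right]; exact hp
    have hR : IsPGroup 2 ↥(Subgroup.zpowers z' ⊔ (P : Subgroup J2)) :=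
      IsPGroup.to_sup_of_normal_right' (two_elt_isPGroup (k := 1) (by rw [pow_one, ← hz'2, pow_orderOf_eq_one]))
        P.2 (Subgroup.zpowers_le.mpr hn)
    exact P.is_maximal' hR le_sup_right ▸ Subgroup.mem_sup_left (Subgroup.mem_zpowers z')
  have hzz : z' = D.ι W.z := D.eq_z hz'2 hz'P fun s hs => mem_cent.mp (hPC hs)
  refine ⟨hfin, D, ?_⟩
  show oddCore ↥(Subgroup.centralizer ({D.ι W.z} : Set J2)) = ⊥
  rw [← hzz]
  exact hO

end CfsgJTwo
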