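import Cfsg.Agent.Lib.JTwoType.Closure

/-!
The core `K` of the centraliser of `z` under the extraspecial group: it is generated by the centralisers of the
non-central involutions, and each of them is centralised by the centraliser of the involution in the group.

Blueprint: `blueprint/S1776.md`, part C.
-/

set_option autoImplicit false
set_option linter.unusedSectionVars false
set_option maxRecDepth 100000
set_option synthInstance.maxSize 4000

namespace CfsgJTwo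

open Cfsg CfsgA8C CfsgLib.Signalizer

universe u

namespace W

/-- Representatives of the four cosets of the fourth maximal subgroup permuting the points other than that of `v`. -/
def reps : List W := [1, u₁, u₂, u₁ * u₂]

theorem reps_T : ∀ t ∈ reps, IsT t := by decide

theorem reps_prod : (u₁ * σ * u₁⁻¹) * ((u₁ * u₂) * σ * (u₁ * u₂)⁻¹) * (σ * (u₂ * σ * u₂⁻¹)) = v ∨
    (u₁ * σ * u₁⁻¹) * ((u₁ * u₂) * σ * (u₁ * u₂)⁻¹) * (σ * (u₂ * σ * u₂⁻¹)) = v * z := by decide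

theorem v_cent_T : ∀ w : W, w * v = v * w → IsT w := fun w h => (cent_v v w (Or.inl rfl)).mp h

end W

variable {G : Type u} [Group G] [Finite G] [IsSimpleGroup G] (D : Emb G)

namespace Emb

theorem K_le_Cz : D.K ≤ D.Cz := Kc_le _

theorem z_comm_K {x : G} (hx : x ∈ D.K) : x * D.ι W.z = D.ι W.z * x := Kc_comm hx

theorem T_conj_K {w : W} {x : G} (hx : x ∈ D.K) : D.ι w * x * (D.ι w)⁻¹ ∈ D.K :=
  Kc_norm (D.comm_iff.mpr (W.z_central w).symm) hx

/-- `K` is generated by the centralisers of `v` and of the conjugates of `σ`. -/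
theorem K_le_of_cent {M : Subgroup G} (hv : ∀ x ∈ D.K, x * D.ι W.v = D.ι W.v * x → x ∈ M)
    (hs : ∀ t ∈ W.reps, ∀ x ∈ D.K, x * D.ι (t * W.σ * t⁻¹) = D.ι (t * W.σ * t⁻¹) * x → x ∈ M) : D.K ≤ M := by
  set C := D.Cz
  set Z : Subgroup C := (Subgroup.zpowers (D.ι W.z)).subgroupOf C with hZ
  haveI : Z.Normal := ⟨fun x hx g => by
    rw [hZ, Subgroup.mem_subgroupOf] at hx ⊢
    push_cast
    obtain ⟨i, hi⟩ := Subgroup.mem_zpowers_iff.mp hx
    have h1 : Commute (g : G) (D.ι W.z ^ i) := (show Commute (g : G) (D.ι W.z) from mem_cent.mp g.2).zpow_right i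
    rw [← hi, h1.eq, mul_inv_cancel_right]
    exact zpow_mem (Subgroup.mem_zpowers _) i⟩
  set π := QuotientGroup.mk' Z
  have hZ2 : IsPGroup 2 (Subgroup.zpowers (D.ι W.z)) :=
    two_elt_isPGroup (k := 1) (by rw [pow_one, pow_two, ← map_mul, W.z_sq, map_one])
  have hKinj : ∀ y : C, (y : G) ∈ D.K → π y = 1 → (y : G) = 1 := fun y hy e =>
    eq_one_of_two_odd hZ2 (Kc_odd _) (Subgroup.mem_subgroupOf.mp ((QuotientGroup.eq_one_iff y).mp e)) hy
  let q : W → C := fun w => ⟨D.ι w, D.ι_mem_Cz w⟩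
  have hqmul : ∀ a b : W, π (q (a * b)) = π (q a) * π (q b) := fun a b => by
    rw [← map_mul]; exact congrArg π (Subtype.ext (map_mul D.ι a b))
  set Qb := ((D.sub W.Qs).subgroupOf C).map π with hQb
  have hQmem : ∀ {w : W}, W.IsQ w → π (q w) ∈ Qb := fun {w} hw =>
    ⟨q w, Subgroup.mem_subgroupOf.mpr (D.mem_sub.mpr hw), rfl⟩
  have hQsq : ∀ a ∈ Qb, a * a = 1 := by
    rintro _ ⟨⟨a, haC⟩, ha, rfl⟩
    obtain ⟨w, hw, rfl⟩ := Subgroup.mem_subgroupOf.mp ha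
    rw [← map_mul]
    refine (QuotientGroup.eq_one_iff _).mpr (Subgroup.mem_subgroupOf.mpr ?_)
    show D.ι w * D.ι w ∈ Subgroup.zpowers (D.ι W.z)
    rw [← map_mul]
    rcases W.Q_sq w hw with e | e <;> rw [e]
    · rw [map_one]; exact one_mem _
    · exact Subgroup.mem_zpowers _
  have hQ : IsElementaryAbelian 2 Qb :=
    CfsgLib.SolvSF.ea_of_comm (fun _ ha _ hb => ea_comm_of_sq hQsq ha hb) fun a ha => by rw [pow_two, hQsq a ha]
  set Kb := (D.K.subgroupOf C).map π with hKb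
  have hKo : Odd (Nat.card Kb) := by
    refine (Kc_odd (D.ι W.z)).of_dvd_nat ((Subgroup.card_map_dvd _ π).trans ?_)
    rw [Nat.card_congr (Subgroup.subgroupOfEquivOfLe D.K_le_Cz).toEquiv]
  have hKn : Qb ≤ Subgroup.normalizer (Kb : Set (C ⧸ Z)) := by
    rintro _ ⟨a, -, rfl⟩
    refine mem_norm_of ?_
    rintro _ ⟨y, hy, rfl⟩
    exact ⟨a * y * a⁻¹, Subgroup.mem_subgroupOf.mpr (Kc_norm (mem_cent.mp a.2) (Subgroup.mem_subgroupOf.mp hy)),
      by rw [map_mul, map_mul, map_inv]⟩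
  have hle : Kb ≤ ((D.K ⊓ M).subgroupOf C).map π := by
    rw [gen_index hQ (fun h => Nat.not_even_iff_odd.mpr hKo (even_iff_two_dvd.mpr h)) hKn]
    refine iSup_le fun F x hx => ?_
    obtain ⟨⟨y, hy, rfl⟩, hxF⟩ := Subgroup.mem_inf.mp hx
    refine ⟨y, Subgroup.mem_subgroupOf.mpr (Subgroup.mem_inf.mpr ⟨Subgroup.mem_subgroupOf.mp hy, ?_⟩), rfl⟩
    have hyK : (y : G) ∈ D.K := Subgroup.mem_subgroupOf.mp hy
    have hcomm : ∀ w : W, π (q w) ∈ (F : Subgroup (C ⧸ Z)) → (y : G) * D.ι w = D.ι w * y := by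
      intro w hw
      have h1 := Subgroup.mem_centralizer_iff.mp hxF _ hw
      have h2 := hKinj (q w * y * (q w)⁻¹ * y⁻¹) (mul_mem (D.T_conj_K hyK) (inv_mem hyK))
        (by rw [map_mul, map_mul, map_mul, map_inv, map_inv, h1, mul_inv_cancel_right, mul_inv_cancel])
      push_cast at h2
      exact (mul_inv_eq_iff_eq_mul.mp (mul_inv_eq_one.mp h2)).symm
    let s : W → W := fun t => t * W.σ * t⁻¹
    by_cases hex : ∃ t ∈ W.reps, π (q (s t)) ∈ (F : Subgroup (C ⧸ Z))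
    · obtain ⟨t, ht, htF⟩ := hex
      exact hs t ht _ hyK (hcomm _ htF)
    push Not at hex
    have hm : ∀ a b : W, W.IsQ a → W.IsQ b → π (q a) ∉ (F : Subgroup (C ⧸ Z)) → π (q b) ∉ (F : Subgroup (C ⧸ Z)) →
        π (q (a * b)) ∈ (F : Subgroup (C ⧸ Z)) := fun a b ha hb ha' hb' => by
      rw [hqmul]; exact mul_mem_of_le_two F.2.2 (hQmem ha) (hQmem hb) ha' hb'
    have hsQ : ∀ t, W.IsQ (s t) := fun t => W.Q_normal t W.σ W.σ_Q
    have h12 := hm _ _ (hsQ W.u₁) (hsQ (W.u₁ * W.u₂)) (hex _ (by decide)) (hex _ (by decide))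
    have h34 := hm _ _ (hsQ 1) (hsQ W.u₂) (hex _ (by decide)) (hex _ (by decide))
    have h := mul_mem h12 h34
    rw [← hqmul, show s 1 = W.σ by simp [s]] at h
    refine hv _ hyK ?_
    rcases W.reps_prod with e | e <;> simp only [s, e] at h
    · exact hcomm _ h
    · refine hcomm _ ?_
      rwa [hqmul, show π (q W.z) = 1 from (QuotientGroup.eq_one_iff _).mpr
        (Subgroup.mem_subgroupOf.mpr (Subgroup.mem_zpowers _)), mul_one] at h
  intro x hx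
  obtain ⟨m, hm, e⟩ := hle ⟨⟨x, D.K_le_Cz hx⟩, Subgroup.mem_subgroupOf.mpr hx, rfl⟩
  obtain ⟨hmK, hmM⟩ := Subgroup.mem_inf.mp (Subgroup.mem_subgroupOf.mp hm)
  have h := hKinj (m⁻¹ * ⟨x, D.K_le_Cz hx⟩) (mul_mem (inv_mem hmK) hx) (by rw [map_mul, map_inv, e, inv_mul_cancel])
  push_cast at h
  exact (inv_mul_eq_one.mp h) ▸ hmM

/-- An element of the centraliser of `z` moving `σ` to `v`. -/
theorem exists_sig_v : ∃ g : G, g * D.ι W.z = D.ι W.z * g ∧ g * D.ι W.σ * g⁻¹ = D.ι W.v := by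
  obtain ⟨g, hgz, a, ha, hga⟩ := D.sig_to_v (simple_no_two D)
  rcases ha with rfl | rfl
  · exact ⟨g, hgz, hga⟩
  · refine ⟨D.ι W.σ * g, (show Commute (D.ι W.σ) _ from D.comm_iff.mpr (W.z_central W.σ).symm).mul_left
      (show Commute g _ from hgz), ?_⟩
    rw [show D.ι W.σ * g * D.ι W.σ * (D.ι W.σ * g)⁻¹ = D.ι W.σ * (g * D.ι W.σ * g⁻¹) * (D.ι W.σ)⁻¹ by group, hga,
      D.conj_map]
    exact congrArg D.ι (by decide)

/-- If the part at `v` is centralised by the unitriangular group, the part at `σ` is centralised by the centraliser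
of `σ` in the extraspecial group. -/
theorem cent_sig_Q
    (hT : ∀ x ∈ D.K, x * D.ι W.v = D.ι W.v * x → ∀ t : W, W.IsT t → x * D.ι t = D.ι t * x)
    {y : G} (hy : y ∈ D.K) (hys : y * D.ι W.σ = D.ι W.σ * y) {w : W} (hw : W.IsQ w) (hws : w * W.σ = W.σ * w) :
    y * D.ι w = D.ι w * y := by
  obtain ⟨g, hgz, hgv⟩ := D.exists_sig_v
  set O := D.K ⊓ Subgroup.centralizer ({D.ι W.v} : Set G) with hO
  set H := D.sub (W.Qs ⊓ W.Ts) with hH
  have hmove : ∀ b : G, b * D.ι W.σ = D.ι W.σ * b → g * b * g⁻¹ * D.ι W.v = D.ι W.v * (g * b * g⁻¹) := by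
    intro b hb
    rw [← hgv, conj_mul, conj_mul, hb]
  have hy' : g * y * g⁻¹ ∈ O := Subgroup.mem_inf.mpr ⟨Kc_norm hgz hy, mem_cent.mpr (hmove y hys)⟩
  have hcomm : ∀ h ∈ H, ∀ o ∈ O, o * h = h * o := by
    rintro _ ⟨t, ht, rfl⟩ o ho
    exact hT o ho.1 (mem_cent.mp ho.2) t ht.2
  have hHO : ∀ h ∈ H, ∀ o ∈ O, h * o * h⁻¹ ∈ O := fun h hh o ho => by
    rw [← hcomm h hh o ho, mul_inv_cancel_right]; exact ho
  set R := ((D.sub W.Qs) ⊓ Subgroup.centralizer ({D.ι W.σ} : Set G)).map (MulAut.conj g).toMonoidHom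
  haveI hQn := D.ctxG.Q_normal
  have hR : R ≤ H ⊔ O := by
    rintro _ ⟨b, hb, rfl⟩
    obtain ⟨⟨a, ha, rfl⟩, hbs⟩ := Subgroup.mem_inf.mp hb
    have hgC : g ∈ D.Cz := mem_cent.mpr hgz
    obtain ⟨t, ht, e⟩ := hQn.conj_mem (D.ctxG.ι a) (D.ctxG.mem_sub.mpr ha) (D.qz ⟨g, hgC⟩)
    rw [D.ctxG_ι, D.ctxG_ι, ← map_inv, ← map_mul, ← map_mul] at e
    show g * D.ι a * g⁻¹ ∈ H ⊔ O
    set k := (D.ι t)⁻¹ * (g * D.ι a * g⁻¹) with hk
    have hkK : k ∈ D.K := (D.qz_eq (D.ι_mem_Cz t) (mul_mem (mul_mem hgC (D.ι_mem_Cz a)) (inv_mem hgC))).mp e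
    have hgav := hmove _ (mem_cent.mp hbs)
    have htv : t * W.v * t⁻¹ = W.v := by
      refine D.qz_inj ?_
      have e2 : D.ctxG.ι t = D.qz ⟨g * D.ι a * g⁻¹, mul_mem (mul_mem hgC (D.ι_mem_Cz a)) (inv_mem hgC)⟩ := e
      rw [map_mul, map_mul, map_inv, e2, D.ctxG_ι, ← map_inv, ← map_mul, ← map_mul]
      refine congrArg D.qz (Subtype.ext ?_)
      show g * D.ι a * g⁻¹ * D.ι W.v * (g * D.ι a * g⁻¹)⁻¹ = D.ι W.v
      rw [hgav, mul_inv_cancel_right]
    have htv' : t * W.v = W.v * t := mul_inv_eq_iff_eq_mul.mp htv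
    have hkv : k ∈ Subgroup.centralizer ({D.ι W.v} : Set G) :=
      mem_cent.mpr ((show Commute (D.ι t) (D.ι W.v) from D.comm_iff.mpr htv').inv_left.mul_left
        (show Commute (g * D.ι a * g⁻¹) (D.ι W.v) from hgav))
    rw [show g * D.ι a * g⁻¹ = D.ι t * k by rw [hk]; group]
    exact mul_mem (Subgroup.mem_sup_left (D.mem_sub.mpr (Subgroup.mem_inf.mpr ⟨ht, W.v_cent_T t htv'⟩)))
      (Subgroup.mem_sup_right (Subgroup.mem_inf.mpr ⟨hkK, hkv⟩))
  obtain ⟨m, hm, hmH⟩ := conj_into (X := H ⊔ O) le_sup_left (D.sub_pGroup _)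
    (sup_index (D.sub_pGroup _) (odd_mono inf_le_left (Kc_odd _)) hHO) hR
    (((D.sub_pGroup W.Qs).to_le inf_le_left).map _)
  have hmn : ∀ o ∈ O, m * o * m⁻¹ ∈ O := by
    intro o ho
    obtain ⟨h, hh, o', ho', rfl⟩ := mem_normal_sup hHO hm
    rw [show h * o' * o * (h * o')⁻¹ = h * (o' * o * o'⁻¹) * h⁻¹ by group]
    exact hHO h hh _ (mul_mem (mul_mem ho' ho) (inv_mem ho'))
  have hr : g * D.ι w * g⁻¹ ∈ R :=
    ⟨_, Subgroup.mem_inf.mpr ⟨D.mem_sub.mpr hw, mem_cent.mpr (D.comm_iff.mpr hws)⟩, rfl⟩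
  have h1 := hcomm _ (hmH _ hr) _ (hmn _ hy')
  rw [conj_mul, conj_mul, conj_mul, conj_mul] at h1
  exact mul_left_cancel (mul_right_cancel (mul_left_cancel (mul_right_cancel h1)))

end Emb

end CfsgJTwo
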