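import Cfsg.Agent.Lib.JTwoType.MainTwo
import Cfsg.Agent.S0223
import Cfsg.Agent.S1221

/-!
One class of involutions: the core of the centraliser of `z` is trivial.

Blueprint: `blueprint/S1776.md`, part C.
-/

set_option autoImplicit false
set_option linter.unusedSectionVars false
set_option maxRecDepth 100000
set_option synthInstance.maxSize 4000

namespace CfsgJTwo

open Cfsg CfsgA8C CfsgLib.Signalizer

universe u

namespace W

/-- The four-group of `σ` and `z`. -/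
def Es : Subgroup W where
  carrier := {x | x = 1 ∨ x = z ∨ x = σ ∨ x = σ * z}
  one_mem' := Or.inl rfl
  mul_mem' := fun {a b} ha hb => by
    rcases ha with rfl | rfl | rfl | rfl <;> rcases hb with rfl | rfl | rfl | rfl <;> decide
  inv_mem' := fun {a} ha => by rcases ha with rfl | rfl | rfl | rfl <;> decide

/-- Two non-commuting square roots of `z` commuting with `σ`. -/
def wp : W := ⟨.e, .e, .w, false⟩
def wq : W := ⟨.w, .w2, .w, false⟩

theorem wpq : (wp * σ = σ * wp ∧ wq * σ = σ * wq) ∧ wp * wp = z ∧ wq * wq = z ∧ wp * wq * (wp * wq) = z := by decide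

theorem Ts_of_comm : ∀ w : W, w * v = v * w → IsT w := v_cent_T

end W

variable {G : Type u} [Group G] [Finite G] [IsSimpleGroup G] {D : Emb G}

namespace Emb

theorem all_conj (h : ¬ D.Two) {u : W} (hu : W.IsA1 u) (hu1 : u ≠ 1) : IsConj (D.ι u) (D.ι W.z) := by
  by_cases h0 : W.IsW0 u
  · exact D.W0_conj_z h0 hu1
  simp only [Two] at h
  push Not at h
  obtain ⟨u₀, hu₀, hu₀0, hz⟩ := h
  obtain ⟨d, hd⟩ := D.exists_dG
  obtain ⟨g, -, hg⟩ := hd.cyc u hu h0 u₀ hu₀ hu₀0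
  exact (isConj_iff.mpr ⟨g, hg⟩ : IsConj (D.ι u) (D.ι u₀)).trans hz

/-- An odd subgroup of the centraliser of an element of `A1` normalised by `A1` lies in the core. -/
theorem le_Ka (h : ¬ D.Two) {b : W} (hb : W.IsA1 b) (hb1 : b ≠ 1) {R : Subgroup G}
    (hR : R ≤ Subgroup.centralizer ({D.ι b} : Set G)) (ho : Odd (Nat.card R))
    (hn : ∀ a, W.IsA1 a → ∀ r ∈ R, D.ι a * r * (D.ι a)⁻¹ ∈ R) : R ≤ Kc (D.ι b) := by
  obtain ⟨g, hg, hgb⟩ := D.into_z hb (all_conj h hb hb1)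
  set R' := R.map (MulAut.conj g).toMonoidHom
  have hle : R' ≤ D.K := by
    refine D.odd_le_K_A1 ?_ ?_ ?_
    · rintro _ ⟨r, hr, rfl⟩
      show g * r * g⁻¹ ∈ Subgroup.centralizer ({D.ι W.z} : Set G)
      rw [← hgb]
      exact (cent_conj r).mp (hR hr)
    · rw [Subgroup.card_map_of_injective (f := (MulAut.conj g).toMonoidHom) (MulAut.conj g).injective]; exact ho
    · rintro a ha _ ⟨r, hr, rfl⟩
      obtain ⟨c, hc, hce⟩ := norm_conj (inv_mem hg) (D.mem_sub.mpr (show a ∈ W.A1s from ha))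
      refine ⟨D.ι c * r * (D.ι c)⁻¹, hn c hc r hr, ?_⟩
      show g * (D.ι c * r * (D.ι c)⁻¹) * g⁻¹ = D.ι a * (g * r * g⁻¹) * (D.ι a)⁻¹
      rw [hce]; group
  intro r hr
  have h := Kc_conj (g := g⁻¹) (hle ⟨r, hr, rfl⟩)
  rwa [show g⁻¹ * ((MulAut.conj g).toMonoidHom r) * g⁻¹⁻¹ = r by simp [mul_assoc],
    show g⁻¹ * D.ι W.z * g⁻¹⁻¹ = D.ι b by rw [← hgb]; group] at h

theorem balA_one (h : ¬ D.Two) : D.BalA := by
  intro a b ha _ hb hb1
  obtain ⟨q, hq, hq1, rfl⟩ := mem_A hb hb1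
  refine le_Ka h hq hq1 inf_le_right (odd_mono inf_le_left (Kc_odd _)) fun s hs r hr =>
    Subgroup.mem_inf.mpr ⟨norm_conj (D.Kc_A_inv ha (D.mem_sub.mpr hs)) hr.1, ?_⟩
  have hsq : D.ι s ∈ Subgroup.centralizer ({D.ι q} : Set G) :=
    mem_cent.mpr (D.A_comm (D.mem_sub.mpr hs) (D.mem_sub.mpr hq))
  exact mul_mem (mul_mem hsq hr.2) (inv_mem hsq)

/-- An element of the centraliser of `z` carries the centraliser of `s` in the closure into the closure. -/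
theorem move_KW (hb : D.BalA) (gM : D.Good (Subgroup.normalizer (D.KW : Set G))) {s : W} (hs : s * s = 1)
    (hps : W.wp * s = s * W.wp) (hqs : W.wq * s = s * W.wq) {g : G} (hgz : g * D.ι W.z = D.ι W.z * g)
    (hgv : g * D.ι s * g⁻¹ = D.ι W.v) {x : G} (hx : x ∈ D.KW) (hxs : x * D.ι s = D.ι s * x) :
    g * x * g⁻¹ ∈ D.KW := by
  haveI := Fact.mk Nat.prime_two
  set M := Subgroup.normalizer (D.KW : Set G)
  set O := D.K ⊓ Subgroup.centralizer ({D.ι W.v} : Set G) with hO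
  set H := D.sub W.Ts with hH
  have hHv : ∀ {t : W}, W.IsT t → t * W.v = W.v * t := fun {t} ht => (W.cent_v W.v t (Or.inl rfl)).mpr ht
  have hHO : ∀ h ∈ H, ∀ o ∈ O, h * o * h⁻¹ ∈ O := by
    rintro _ ⟨t, ht, rfl⟩ o ho
    have htv : D.ι t ∈ Subgroup.centralizer ({D.ι W.v} : Set G) := mem_cent.mpr (D.comm_iff.mpr (hHv ht))
    exact Subgroup.mem_inf.mpr ⟨D.T_conj_K (Subgroup.mem_inf.mp ho).1,
      mul_mem (mul_mem htv (Subgroup.mem_inf.mp ho).2) (inv_mem htv)⟩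
  set R := ((D.T : Subgroup G) ⊓ Subgroup.centralizer ({D.ι s} : Set G)).map (MulAut.conj g).toMonoidHom
  have hR : R ≤ H ⊔ O := by
    rintro _ ⟨b, hb', rfl⟩
    obtain ⟨hbT, hbs⟩ := Subgroup.mem_inf.mp hb'
    obtain ⟨a, rfl⟩ := D.exists_pre hbT
    show g * D.ι a * g⁻¹ ∈ H ⊔ O
    have hgC : g ∈ D.Cz := mem_cent.mpr hgz
    set y := g * D.ι a * g⁻¹ with hy
    have hyC : y ∈ D.Cz := mul_mem (mul_mem hgC (D.ι_mem_Cz a)) (inv_mem hgC)
    have hyv : y * D.ι W.v = D.ι W.v * y := by rw [hy, ← hgv, conj_mul, conj_mul, mem_cent.mp hbs]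
    have hfix : D.ctxG.permX (D.qz ⟨y, hyC⟩) 0 = 0 := D.ctxG.permX_fix (by
      rw [D.ctxG_ι, ← map_mul, ← map_mul]
      exact congrArg D.qz (Subtype.ext hyv))
    have h128 : y ^ 128 = 1 := by
      have : a ^ 128 = 1 := by
        have := pow_card_eq_one' (x := a)
        rwa [W.card_W] at this
      rw [hy, conj_pow, ← map_pow, this, map_one, mul_one, mul_inv_cancel]
    have hperm : D.ctxG.permX (D.qz ⟨y, hyC⟩) ∈ (1 : Equiv.Perm (Fin 5)) :: dbl :=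
      (show ∀ p : Equiv.Perm (Fin 5), Equiv.Perm.sign p = 1 → p 0 = 0 → p ^ 128 = 1 →
          p ∈ (1 : Equiv.Perm (Fin 5)) :: dbl by decide +kernel) _ (D.ctxG.sign_permX _) hfix (by
        rw [← map_pow, ← map_pow, show (⟨y, hyC⟩ : D.Cz) ^ 128 = 1 from Subtype.ext h128, map_one, map_one])
    obtain ⟨t, e⟩ := D.ctxG.exists_pre (D.ctxG.mem_T_of_perm hperm)
    rw [D.ctxG_ι] at e
    have hk := (D.qz_eq (D.ι_mem_Cz t) hyC).mp e
    have htv : t * W.v * t⁻¹ = W.v := by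
      refine D.qz_inj ?_
      rw [map_mul, map_mul, map_inv, D.ctxG_ι, D.ctxG_ι, e, ← map_inv, ← map_mul, ← map_mul]
      refine congrArg D.qz (Subtype.ext ?_)
      show y * D.ι W.v * y⁻¹ = D.ι W.v
      rw [hyv, mul_inv_cancel_right]
    have htv' : t * W.v = W.v * t := mul_inv_eq_iff_eq_mul.mp htv
    have hkv : (D.ι t)⁻¹ * y ∈ Subgroup.centralizer ({D.ι W.v} : Set G) :=
      mem_cent.mpr ((show Commute (D.ι t) (D.ι W.v) from D.comm_iff.mpr htv').inv_left.mul_left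
        (show Commute y (D.ι W.v) from hyv))
    rw [show y = D.ι t * ((D.ι t)⁻¹ * y) by group]
    exact mul_mem (Subgroup.mem_sup_left (D.mem_sub.mpr (W.v_cent_T t htv')))
      (Subgroup.mem_sup_right (Subgroup.mem_inf.mpr ⟨hk, hkv⟩))
  obtain ⟨m, hm, hmH⟩ := conj_into (X := H ⊔ O) le_sup_left (D.sub_pGroup _)
    (sup_index (D.sub_pGroup _) (odd_mono inf_le_left (Kc_odd _)) hHO) hR ((D.T.2.to_le inf_le_left).map _)
  have hmM : m ∈ M := (sup_le ((D.sub_le _).trans gM.T_le) ((inf_le_left : O ≤ D.K).trans gM.K_le)) hm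
  have hmv : m * D.ι W.v = D.ι W.v * m := by
    refine mem_cent.mp ((sup_le ?_ (inf_le_right : O ≤ _)) hm)
    rintro _ ⟨t, ht, rfl⟩
    exact mem_cent.mpr (D.comm_iff.mpr (hHv ht))
  have hmz : m * D.ι W.z = D.ι W.z * m :=
    mem_cent.mp ((sup_le ((D.sub_le _).trans D.range_le_Cz) ((inf_le_left : O ≤ D.K).trans D.K_le_Cz)) hm)
  -- the adjusted element
  set c := m * g with hc
  have hcv : c * D.ι s * c⁻¹ = D.ι W.v := by
    rw [hc, show m * g * D.ι s * (m * g)⁻¹ = m * (g * D.ι s * g⁻¹) * m⁻¹ by group, hgv, hmv, mul_inv_cancel_right]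
  have hcz : c * D.ι W.z * c⁻¹ = D.ι W.z :=
    mul_inv_eq_iff_eq_mul.mpr ((show Commute m (D.ι W.z) from hmz).mul_left (show Commute g (D.ι W.z) from hgz)).eq
  have hpre : ∀ a : W, a * s = s * a → ∃ t, W.IsT t ∧ c * D.ι a * c⁻¹ = D.ι t := by
    intro a ha
    obtain ⟨t, ht, e⟩ := hmH _ ⟨D.ι a, Subgroup.mem_inf.mpr ⟨D.mem_T a, mem_cent.mpr (D.comm_iff.mpr ha)⟩, rfl⟩
    refine ⟨t, ht, ?_⟩
    rw [e, hc]
    show m * g * D.ι a * (m * g)⁻¹ = m * (g * D.ι a * g⁻¹) * m⁻¹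
    group
  obtain ⟨⟨-, -⟩, hp2, hq2, hpq2⟩ := W.wpq
  obtain ⟨t₁, ht₁, e₁⟩ := hpre _ hps
  obtain ⟨t₂, ht₂, e₂⟩ := hpre _ hqs
  obtain ⟨k, hk, hkv⟩ := D.exists_k
  have hy : ∀ {t : W}, W.IsT t → ∃ y, W.IsT y ∧ k * D.ι t * k⁻¹ = D.ι y := fun {t} ht => by
    obtain ⟨y, hy, e⟩ := D.NA_norm_Ts hk ht
    exact ⟨y, hy, e.symm⟩
  obtain ⟨y₁, hy₁, f₁⟩ := hy ht₁
  obtain ⟨y₂, hy₂, f₂⟩ := hy ht₂
  have hnQ : ∀ {a y : W}, a * a = W.z → k * (c * D.ι a * c⁻¹) * k⁻¹ = D.ι y → ¬ W.IsQ y := by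
    intro a y ha e hyQ
    have h2 : D.ι (y * y) = k * D.ι W.z * k⁻¹ := by
      rw [map_mul, ← e, conj_mul, conj_mul, ← map_mul, ha, hcz]
    rcases W.Q_sq y hyQ with e' | e'
    · rw [e', map_one] at h2
      exact D.ne_one W.z_ne (conj_eq_one_iff.mp h2.symm)
    · rw [e'] at h2
      exact W.v_ne_z (D.inj (mul_left_cancel (mul_right_cancel (hkv.trans h2))))
  set S := D.KW ⊓ Subgroup.centralizer ({D.ι s} : Set G) with hS
  have hTs : ∀ {a : W}, a * s = s * a → ∀ r ∈ S, D.ι a * r * (D.ι a)⁻¹ ∈ S := by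
    intro a ha r hr
    have haC : D.ι a ∈ Subgroup.centralizer ({D.ι s} : Set G) := mem_cent.mpr (D.comm_iff.mpr ha)
    exact Subgroup.mem_inf.mpr ⟨norm_conj (gM.T_le (D.mem_T a)) (Subgroup.mem_inf.mp hr).1,
      mul_mem (mul_mem haC (Subgroup.mem_inf.mp hr).2) (inv_mem haC)⟩
  set φ := (MulAut.conj (k * c)).toMonoidHom
  have hle : S.map φ ≤ D.K := by
    refine D.odd_le_K ?_ ?_ hy₁ hy₂ (hnQ hp2 (by rw [e₁, f₁])) (hnQ hq2 (by rw [e₂, f₂]))
      (hnQ hpq2 (y := y₁ * y₂) (by rw [map_mul, map_mul, ← f₁, ← f₂, ← e₁, ← e₂]; group)) ?_ ?_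
    · rintro _ ⟨r, hr, rfl⟩
      show k * c * r * (k * c)⁻¹ ∈ Subgroup.centralizer ({D.ι W.z} : Set G)
      rw [← hkv, ← hcv, show k * (c * D.ι s * c⁻¹) * k⁻¹ = k * c * D.ι s * (k * c)⁻¹ by group]
      exact (cent_conj r).mp (Subgroup.mem_inf.mp hr).2
    · rw [Subgroup.card_map_of_injective (f := φ) (MulAut.conj (k * c)).injective]
      exact odd_mono inf_le_left (KW_spec hb).1
    · rintro _ ⟨r, hr, rfl⟩
      refine ⟨D.ι W.wp * r * (D.ι W.wp)⁻¹, hTs hps r hr, ?_⟩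
      show k * c * (D.ι W.wp * r * (D.ι W.wp)⁻¹) * (k * c)⁻¹ = D.ι y₁ * (k * c * r * (k * c)⁻¹) * (D.ι y₁)⁻¹
      rw [← f₁, ← e₁]; group
    · rintro _ ⟨r, hr, rfl⟩
      refine ⟨D.ι W.wq * r * (D.ι W.wq)⁻¹, hTs hqs r hr, ?_⟩
      show k * c * (D.ι W.wq * r * (D.ι W.wq)⁻¹) * (k * c)⁻¹ = D.ι y₂ * (k * c * r * (k * c)⁻¹) * (D.ι y₂)⁻¹
      rw [← f₂, ← e₂]; group
  have h1 : k * c * x * (k * c)⁻¹ ∈ D.K := hle ⟨x, Subgroup.mem_inf.mpr ⟨hx, mem_cent.mpr hxs⟩, rfl⟩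
  have hkM : k ∈ M := gM.W0_le (D.NA_norm_W0 hk)
  have h2 := norm_conj (inv_mem (mul_mem hkM hmM)) (K_le_KW h1)
  rw [show (k * m)⁻¹ * (k * c * x * (k * c)⁻¹) * (k * m)⁻¹⁻¹ = g * x * g⁻¹ by rw [hc]; group] at h2
  exact h2

/-- One class: every involution of the normaliser of the closure is there conjugate to `z`. -/
theorem invol_in_M (h : ¬ D.Two) {M : Subgroup G} (gM : D.Good M)
    (hNA : Subgroup.normalizer (D.A : Set G) ≤ M) {g₀ : G} (hg₀ : g₀ ∈ M)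
    (hg₀v : g₀ * D.ι W.σ * g₀⁻¹ = D.ι W.v) {t : G} (ht : t ∈ M) (ho : orderOf t = 2) :
    ∃ g ∈ M, g * t * g⁻¹ = D.ι W.z := by
  haveI := Fact.mk Nat.prime_two
  obtain ⟨c, hc, hcT⟩ := conj_into (X := M) gM.T_le D.T.2
    (fun h2 => D.T.not_dvd_index (h2.trans (Subgroup.relIndex_dvd_index_of_le gM.T_le)))
    (R := Subgroup.zpowers t) (Subgroup.zpowers_le.mpr ht)
    (two_elt_isPGroup (k := 1) (x := t) (by rw [pow_one, ← ho, pow_orderOf_eq_one]))
  obtain ⟨w, hw⟩ := D.exists_pre (hcT t (Subgroup.mem_zpowers t))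
  have ht2 : t * t = 1 := by rw [← pow_two, ← ho, pow_orderOf_eq_one]
  have hw2 : w * w = 1 := D.inj (by rw [map_mul, hw, conj_mul, ht2, mul_one, mul_inv_cancel, map_one])
  have hw1 : w ≠ 1 := fun e => by
    rw [e, map_one] at hw
    rw [conj_eq_one_iff.mp hw.symm, orderOf_one] at ho
    omega
  suffices hs : ∃ g ∈ M, g * D.ι w * g⁻¹ = D.ι W.z by
    obtain ⟨g, hg, hgw⟩ := hs
    exact ⟨g * c, mul_mem hg hc, by rw [← hgw, hw]; group⟩
  have hW0 : ∀ {a : W}, W.IsW0 a → a ≠ 1 → ∃ g ∈ M, g * D.ι a * g⁻¹ = D.ι W.z := fun {a} ha ha1 => by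
    obtain ⟨g, hg, hga⟩ := D.exists_to_z ha ha1
    exact ⟨g, gM.W0_le (D.NA_norm_W0 hg), hga⟩
  have hA1 : ∀ {a : W}, W.IsA1 a → a ≠ 1 → ∃ g ∈ M, g * D.ι a * g⁻¹ = D.ι W.z := fun {a} ha ha1 => by
    obtain ⟨g, hg, hga⟩ := D.into_z ha (all_conj h ha ha1)
    exact ⟨g, hNA hg, hga⟩
  rcases W.invol_cases w hw2 with e | e | e | e | e
  · exact absurd e hw1
  · exact ⟨1, one_mem _, by rw [e]; simp⟩
  · rcases e with rfl | rfl
    · exact hW0 (by decide) W.v_ne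
    · exact hW0 (by decide) (by decide)
  · obtain ⟨b, hb⟩ := W.sig_conj w e
    obtain ⟨k, hk, hkv⟩ := hW0 (show W.IsW0 W.v by decide) W.v_ne
    refine ⟨k * g₀ * (D.ι b)⁻¹, mul_mem (mul_mem hk hg₀) (inv_mem (gM.T_le (D.mem_T b))), ?_⟩
    rw [← hkv, ← hg₀v, ← hb, ← D.conj_map]; group
  · by_cases hA : W.IsA1 w
    · exact hA1 hA hw1
    · obtain ⟨hs1, hs2⟩ := W.out_swap w e hA
      obtain ⟨g, hg, hgw⟩ := hA1 hs1 (fun e' => hs2 (e' ▸ W.W0_one))
      refine ⟨g * D.ι W.σ, mul_mem hg (gM.T_le (D.mem_T _)), ?_⟩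
      rw [← hgw, ← D.conj_map]; group

theorem one_K (h : ¬ D.Two) : D.K = ⊥ := by
  by_contra hK
  have hb := balA_one h
  have gM := good_KW hb hK
  set M := Subgroup.normalizer (D.KW : Set G) with hM
  have hNA : Subgroup.normalizer (D.A : Set G) ≤ M := KW_norm hb le_rfl (by rw [D.card_A]; norm_num)
  obtain ⟨hWo, hWC⟩ := KW_spec hb
  obtain ⟨g, hgz, hgv⟩ := D.exists_sig_v
  -- the element moving the point lies in `M`
  have hEA : IsElementaryAbelian 2 (D.sub W.Es) := by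
    have hsq : ∀ a ∈ D.sub W.Es, a * a = 1 := by
      rintro _ ⟨a, ha, rfl⟩
      rw [← map_mul, show a * a = 1 by rcases ha with rfl | rfl | rfl | rfl <;> decide, map_one]
    exact CfsgLib.SolvSF.ea_of_comm (fun _ ha _ hb => ea_comm_of_sq hsq ha hb) fun a ha => by rw [pow_two, hsq a ha]
  have hEc : 3 ≤ Nat.card ↥(D.sub W.Es) := by
    have hsub : ({1, D.ι W.z, D.ι W.σ} : Set G) ⊆ (D.sub W.Es : Set G) := by
      simp only [Set.insert_subset_iff, Set.singleton_subset_iff, SetLike.mem_coe]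
      exact ⟨one_mem _, D.mem_sub.mpr (Or.inr (Or.inl rfl)), D.mem_sub.mpr (Or.inr (Or.inr (Or.inl rfl)))⟩
    have h3 := Set.ncard_le_ncard hsub (Set.toFinite _)
    rw [Set.ncard_insert_of_notMem, Set.ncard_pair, ← Nat.card_coe_set_eq] at h3
    · exact h3
    · exact fun e => absurd (D.inj e) (by decide)
    · simp only [Set.mem_insert_iff, Set.mem_singleton_iff, not_or]
      exact ⟨(D.ne_one W.z_ne).symm, (D.ne_one (a := W.σ) (by decide)).symm⟩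
  have hgM : g ∈ M := by
    have hmap : D.KW.map (MulAut.conj g).toMonoidHom ≤ D.KW := by
      conv_lhs => rw [gen_index hEA (fun h2 => Nat.not_even_iff_odd.mpr hWo (even_iff_two_dvd.mpr h2))
        ((D.sub_le _).trans gM.T_le)]
      rw [Subgroup.map_iSup]
      refine iSup_le fun F => ?_
      rintro _ ⟨x, hx, rfl⟩
      obtain ⟨f, hf, hf1⟩ := exists_ne_one (E := (F : Subgroup G)) (by
        have h1 := ((F : Subgroup G).subgroupOf (D.sub W.Es)).card_mul_index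
        rw [Nat.card_congr (Subgroup.subgroupOfEquivOfLe F.2.1).toEquiv] at h1
        have h2 := Nat.mul_le_mul_left (Nat.card (F : Subgroup G)) F.2.2
        change Nat.card (F : Subgroup G) * ((F : Subgroup G).subgroupOf (D.sub W.Es)).index ≤ _ at h2
        omega)
      obtain ⟨hxW, hxF⟩ := Subgroup.mem_inf.mp hx
      have hxf : x * f = f * x := (Subgroup.mem_centralizer_iff.mp hxF f hf).symm
      obtain ⟨w, hw, rfl⟩ := F.2.1 hf
      show g * x * g⁻¹ ∈ D.KW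
      rcases hw with rfl | rfl | rfl | rfl
      · exact absurd (map_one D.ι) hf1
      · have hxK : x ∈ D.K := by
          rw [show D.K = Kc (D.ι W.z) from rfl, ← hWC _ z_mem_A (D.ne_one W.z_ne)]
          exact ⟨hxW, mem_cent.mpr hxf⟩
        exact K_le_KW (Kc_norm hgz hxK)
      · exact move_KW hb gM W.σ_sq W.wpq.1.1 W.wpq.1.2 hgz hgv hxW hxf
      · have h1 := move_KW hb gM (s := W.σ * W.z) (g := D.ι W.σ * g) (by decide) (by decide) (by decide)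
          ((show Commute (D.ι W.σ) _ from D.comm_iff.mpr (W.z_central W.σ).symm).mul_left
            (show Commute g _ from hgz))
          (by
            rw [map_mul, show D.ι W.σ * g * (D.ι W.σ * D.ι W.z) * (D.ι W.σ * g)⁻¹ =
              D.ι W.σ * ((g * D.ι W.σ * g⁻¹) * (g * D.ι W.z * g⁻¹)) * (D.ι W.σ)⁻¹ by group, hgv,
              mul_inv_eq_iff_eq_mul.mpr hgz, ← map_mul, D.conj_map]
            exact congrArg D.ι (by decide)) hxW hxf
        have hσ : D.ι W.σ ∈ M := gM.T_le (D.mem_T _)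
        have h2 := norm_conj (inv_mem hσ) h1
        rwa [show (D.ι W.σ)⁻¹ * (D.ι W.σ * g * x * (D.ι W.σ * g)⁻¹) * (D.ι W.σ)⁻¹⁻¹ = g * x * g⁻¹ by group] at h2
    exact le_norm_of_map hmap
  -- the centraliser of `z` lies in `M`
  have hCz : D.Cz ≤ M := by
    obtain ⟨d, hd⟩ := D.exists_dG
    set H := (M.subgroupOf D.Cz).map D.qz
    have hgC : g ∈ D.Cz := mem_cent.mpr hgz
    have hmove : D.ctxG.permX (D.qz ⟨g, hgC⟩) 0 ≠ 0 := by
      intro h0
      have h1 := D.ctxG.permX_spec (D.qz ⟨g, hgC⟩) 0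
      rw [h0] at h1
      have h2 : D.ctxG.π (D.qz ⟨g, hgC⟩) * D.ctxG.P 1 * (D.ctxG.π (D.qz ⟨g, hgC⟩))⁻¹ = D.ctxG.P 0 := by
        simp only [Ctx.P, show W.pt 1 = W.σ from rfl, show W.pt 0 = W.v from rfl, D.ctxG_ι]
        rw [← map_inv, ← map_mul, ← map_mul, ← map_inv, ← map_mul, ← map_mul]
        exact congrArg D.ctxG.π (congrArg D.qz (Subtype.ext hgv))
      have h3 := D.ctxG.P_inj (mul_left_cancel (mul_right_cancel (h1.trans h2.symm)))
      exact absurd h3 (by decide)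
    have htop : H = ⊤ := by
      refine D.ctxG.top_of_move ?_ ?_ ⟨⟨g, hgC⟩, Subgroup.mem_subgroupOf.mpr hgM, rfl⟩ hmove
      · intro x hx
        obtain ⟨w, rfl⟩ := D.ctxG.exists_pre hx
        exact ⟨⟨D.ι w, D.ι_mem_Cz w⟩, Subgroup.mem_subgroupOf.mpr (gM.T_le (D.mem_T w)), rfl⟩
      · intro q hq
        obtain ⟨⟨x, hx⟩, rfl⟩ := QuotientGroup.mk'_surjective _ q
        obtain ⟨y, hy, hyo⟩ := hd.stab x hx hq
        refine ⟨⟨x, hx⟩, Subgroup.mem_subgroupOf.mpr ?_, rfl⟩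
        have hyM := (sup_le gM.T_le (Subgroup.zpowers_le.mpr (gM.W0_le (D.NA_norm_W0 hd.mem)))) hy
        have := mul_mem hyM (gM.K_le hyo)
        rwa [mul_inv_cancel_left] at this
    intro x hx
    obtain ⟨⟨m, hmC⟩, hm, e⟩ : D.qz ⟨x, hx⟩ ∈ H := htop ▸ Subgroup.mem_top _
    have := mul_mem (Subgroup.mem_subgroupOf.mp hm) (gM.K_le ((D.qz_eq hmC hx).mp e))
    rwa [mul_inv_cancel_left] at this
  have heven : Even (Nat.card M) := even_iff_two_dvd.mpr ((show 2 ∣ 128 by norm_num).trans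
    (D.card_T ▸ Subgroup.card_dvd_of_le gM.T_le))
  have hSE : IsStronglyEmbedded M := (Cfsg.Agent.S0223.result M gM.ne heven).mpr ⟨?_, ?_⟩
  rotate_left
  · intro t ht ho y hy
    obtain ⟨c, hc, hct⟩ := invol_in_M h gM hNA hgM hgv ht ho
    have h1 : c * y * c⁻¹ ∈ D.Cz := by
      show c * y * c⁻¹ ∈ Subgroup.centralizer ({D.ι W.z} : Set G)
      rw [← hct]
      exact (cent_conj y).mp hy
    have := mul_mem (mul_mem (inv_mem hc) (hCz h1)) hc
    simpa [mul_assoc] using this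
  · intro t ht s hs hto hso _
    obtain ⟨a, ha, hat⟩ := invol_in_M h gM hNA hgM hgv ht hto
    obtain ⟨b, hb', hbs⟩ := invol_in_M h gM hNA hgM hgv hs hso
    refine ⟨b⁻¹ * a, mul_mem (inv_mem hb') ha, ?_⟩
    calc b⁻¹ * a * t * (b⁻¹ * a)⁻¹ = b⁻¹ * (a * t * a⁻¹) * b := by group
      _ = b⁻¹ * (b * s * b⁻¹) * b := by rw [hat, hbs]
      _ = s := by group
  have hcore : core M ≤ oddCore G := Cfsg.Agent.S1221.result M hSE
  have hG : oddCore G = ⊥ := simple_odd D inferInstance CfsgLib.odd_card_oddCore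
  have hKW : D.KW ≤ core M := le_core Subgroup.le_normalizer hWo fun x hx w hw => norm_conj hx hw
  exact hK (le_bot_iff.mp (hG ▸ (K_le_KW.trans hKW).trans hcore))

end Emb

end CfsgJTwo
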