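import Cfsg.Agent.Lib.JTwoType.YCase

/-!
Two classes of involutions: the core of the centraliser of `z` is trivial.

Blueprint: `blueprint/S1776.md`, part C.
-/

set_option autoImplicit false
set_option linter.unusedSectionVars false
set_option maxRecDepth 100000
set_option synthInstance.maxSize 4000

namespace CfsgJTwo

open Cfsg CfsgA8C CfsgLib.Signalizer

universe u

/-- Involutions with product of odd order are conjugate. -/
theorem conj_of_odd_mul {G : Type u} [Group G] {a u : G} (ha : a * a = 1) (hu : u * u = 1)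
    (ho : Odd (orderOf (a * u))) : IsConj a u := by
  obtain ⟨k, hk⟩ := ho
  refine isConj_iff.mpr ⟨(a * u) ^ k, ?_⟩
  have h1 : a * ((a * u) ^ k)⁻¹ * a⁻¹ = (a * u) ^ k := by
    rw [← inv_pow, ← conj_pow, mul_inv_rev, invol_inv ha, invol_inv hu,
      show a * (u * a) * a = a * u * (a * a) by group, ha, mul_one]
  calc (a * u) ^ k * a * ((a * u) ^ k)⁻¹ = (a * u) ^ k * (a * ((a * u) ^ k)⁻¹ * a⁻¹) * a := by group
    _ = (a * u) ^ (2 * k) * a := by rw [h1, ← pow_add, two_mul]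
    _ = (a * u)⁻¹ * a := by
      rw [eq_inv_of_mul_eq_one_left (show (a * u) ^ (2 * k) * (a * u) = 1 by
        rw [← pow_succ, ← hk, pow_orderOf_eq_one])]
    _ = u := by rw [mul_inv_rev, invol_inv hu, mul_assoc, inv_mul_cancel, mul_one]

variable {G : Type u} [Group G] [Finite G] [IsSimpleGroup G] {D : Emb G}

namespace Emb

theorem Good.Kc_W0_le {M : Subgroup G} (gM : D.Good M) {w : W} (hw : W.IsW0 w) (hw1 : w ≠ 1) :
    Kc (D.ι w) ≤ M := by
  obtain ⟨g, hg, hgw⟩ := D.exists_to_z hw hw1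
  intro x hx
  have hgM := gM.W0_le (D.NA_norm_W0 hg)
  have h1 := Kc_conj (g := g) hx
  rw [hgw] at h1
  have := mul_mem (mul_mem (inv_mem hgM) (gM.K_le h1)) hgM
  simpa [mul_assoc] using this

theorem Good.Kc_out_le {M : Subgroup G} (gM : D.Good M) {u : W} (hu : W.IsA1 u) : Kc (D.ι u) ≤ M := by
  rw [gen_index (ea_le D.A_ea D.W0_le_A)
    (fun h2 => Nat.not_even_iff_odd.mpr (Kc_odd _) (even_iff_two_dvd.mpr h2))
    (D.W0_le_A.trans (D.Kc_A_inv (D.mem_sub.mpr hu)))]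
  refine iSup_le fun F x hx => ?_
  obtain ⟨f, hf, hf1⟩ := exists_ne_one (E := (F : Subgroup G)) (by
    have h1 := ((F : Subgroup G).subgroupOf (D.sub W.W0s)).card_mul_index
    rw [Nat.card_congr (Subgroup.subgroupOfEquivOfLe F.2.1).toEquiv, D.card_W0] at h1
    have h2 := Nat.mul_le_mul_left (Nat.card (F : Subgroup G)) F.2.2
    change Nat.card (F : Subgroup G) * ((F : Subgroup G).subgroupOf (D.sub W.W0s)).index ≤ _ at h2
    omega)
  obtain ⟨w, hw, hw1, e⟩ := D.mem_W0 (F.2.1 hf) hf1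
  refine gM.Kc_W0_le hw hw1 (D.le_Kw hw hw1 (R := Kc (D.ι u) ⊓ Subgroup.centralizer ({D.ι w} : Set G)) inf_le_right
    (odd_mono inf_le_left (Kc_odd _)) (fun b hb r hr => Subgroup.mem_inf.mpr
      ⟨A_norm_Kc hu (D.mem_sub.mpr hb) hr.1, ?_⟩) ⟨hx.1, ?_⟩)
  · have hbA : D.ι b ∈ Subgroup.centralizer ({D.ι w} : Set G) :=
      mem_cent.mpr (D.A_comm (D.mem_sub.mpr hb) (D.mem_sub.mpr (W.W0_le w hw).1))
    exact mul_mem (mul_mem hbA hr.2) (inv_mem hbA)
  · exact mem_cent.mpr (e ▸ (Subgroup.mem_centralizer_iff.mp hx.2 f hf).symm)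

theorem Good.A_le {M : Subgroup G} (gM : D.Good M) : D.A ≤ M := (D.sub_le _).trans gM.T_le

theorem Good.normA_le {M : Subgroup G} (gM : D.Good M) (h : D.Two) {g : G}
    (hg : g ∈ Subgroup.normalizer (D.A : Set G)) : g ∈ M :=
  gM.W0_le (mem_norm_of (by
    rintro _ ⟨a, ha, rfl⟩
    obtain ⟨b, hb, e⟩ := conj_W0 h hg ha
    exact e ▸ D.mem_sub.mpr hb))

/-- The centraliser of an outer involution and an element of the four-group. -/
theorem Good.two_cent_le {M : Subgroup G} (gM : D.Good M) (h : D.Two) {d : G} (hd : D.IsD d) {u : W}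
    (hu : W.IsA1 u) (hu0 : ¬ W.IsW0 u) {w : W} (hw : W.IsW0 w) (hw1 : w ≠ 1) {g : G}
    (hgu : g * D.ι u = D.ι u * g) (hgw : g * D.ι w = D.ι w * g) : g ∈ M := by
  obtain ⟨n, c⟩ := exists_cyc hd hu hu0
  have hwA := (W.W0_le w hw).1
  set X := Subgroup.centralizer ({D.ι u, D.ι w} : Set G) with hX
  have hXmem : ∀ {y : G}, y ∈ X → y * D.ι u = D.ι u * y ∧ y * D.ι w = D.ι w * y := fun {y} hy => by
    have h1 := Subgroup.mem_centralizer_iff.mp hy
    exact ⟨(h1 _ (by simp)).symm, (h1 _ (by simp)).symm⟩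
  have hAX : D.A ≤ X := fun a ha => Subgroup.mem_centralizer_iff.mpr (by
    rintro _ (rfl | rfl)
    · exact D.A_comm (D.mem_sub.mpr hu) ha
    · exact D.A_comm (D.mem_sub.mpr hwA) ha)
  obtain ⟨m, hm, hmu, hmz⟩ : ∃ m ∈ Subgroup.normalizer (D.A : Set G), m * D.ι u = D.ι u * m ∧
      m * D.ι w * m⁻¹ = D.ι W.z := by
    rcases W.W0_list w hw with e | e | e | e <;> subst e
    · exact absurd rfl hw1
    · exact ⟨1, one_mem _, by simp, by simp⟩
    · exact ⟨n, c.mem.1, c.cu, c.nv⟩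
    · exact ⟨n * n, mul_mem c.mem.1 c.mem.1, (show Commute n _ from c.cu).mul_left (show Commute n _ from c.cu), by
        rw [show n * n * D.ι (W.v * W.z) * (n * n)⁻¹ = n * (n * D.ι (W.v * W.z) * n⁻¹) * n⁻¹ by group, c.nvz h,
          c.nv]⟩
  have hctl : Ctl X D.A := by
    refine burnside2 hAX (fun a ha => D.A_sq ha) ?_ ?_
    · exact fun P hAP hPX hP => A_max h hu hu0 hAP (fun x hx => mem_cent.mpr (hXmem (hPX hx)).1) hP
    · intro g hg hgn a ha
      obtain ⟨h1, h2⟩ := hXmem hg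
      have hg' : m * g * m⁻¹ ∈ Subgroup.normalizer (D.A : Set G) :=
        mul_mem (mul_mem hm (mem_norm_of hgn)) (inv_mem hm)
      have hcu : m * g * m⁻¹ * D.ι u = D.ι u * (m * g * m⁻¹) :=
        ((show Commute m _ from hmu).mul_left (show Commute g _ from h1)).mul_left
          (show Commute m _ from hmu).inv_left
      have hcz : m * g * m⁻¹ * D.ι W.z = D.ι W.z * (m * g * m⁻¹) := by
        rw [← hmz, conj_mul, conj_mul, h2]
      have h3 := cent_A h hu hu0 hg' hcu (fix_v h hu hu0 hg' hcu hcz) _ (norm_conj hm ha)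
      rw [conj_mul, conj_mul] at h3
      exact mul_inv_eq_iff_eq_mul.mpr (mul_left_cancel (mul_right_cancel h3))
  have hgX : g ∈ X := Subgroup.mem_centralizer_iff.mpr (by
    rintro _ (rfl | rfl)
    · exact hgu.symm
    · exact hgw.symm)
  obtain ⟨a, ha, o, ho, rfl⟩ := hctl g hgX
  refine mul_mem (gM.A_le ha) (gM.Kc_W0_le hw hw1 (D.le_Kw hw hw1 ?_ (core_odd X) ?_ ho))
  · exact fun y hy => mem_cent.mpr (hXmem (core_le X hy)).2
  · exact fun b hb r hr => core_conj_mem (hAX (D.mem_sub.mpr hb)) hr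

/-- A proper subgroup containing also the centralisers of the outer involutions. -/
theorem exists_full (h : D.Two) {d : G} (hd : D.IsD d) (hK : D.K ≠ ⊥) :
    ∃ M, D.Good M ∧ ∀ u, W.IsA1 u → ¬ W.IsW0 u → Subgroup.centralizer ({D.ι u} : Set G) ≤ M := by
  by_cases hb : D.Bal
  · exact ⟨_, good_KW (balA_of_Bal h hd hb) hK, fun u hu hu0 => cent_out_le_KW h hd hb hu hu0⟩
  obtain ⟨M, gM⟩ : ∃ M, D.Good M := by
    by_cases hS : D.Star = ⊥
    · exact good_bot h hd hS hK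
    · exact good_Star h hd hS
  obtain ⟨u₀, hu₀, hu₀0, hC₀⟩ :
      ∃ u, W.IsA1 u ∧ ¬ W.IsW0 u ∧ Subgroup.centralizer ({D.ι u} : Set G) ≤ M := by
    by_contra hcon
    refine hb fun u hu hu0 w hw hw1 => ?_
    obtain ⟨n, c⟩ := exists_cyc hd hu hu0
    exact c.embedded h gM.A_le (gM.Kc_out_le hu) (fun g _ hg => gM.normA_le h hg)
      (fun w hw hw1 g hgu hgw => gM.two_cent_le h hd hu hu0 hw hw1 hgu hgw)
      (fun hle => hcon ⟨u, hu, hu0, hle⟩) hw hw1
  refine ⟨M, gM, fun u hu hu0 x hx => ?_⟩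
  obtain ⟨g, hg, hge⟩ := hd.cyc u₀ hu₀ hu₀0 u hu hu0
  have hgM : g ∈ M :=
    (sup_le ((D.sub_le _).trans gM.T_le) (Subgroup.zpowers_le.mpr (gM.W0_le (D.NA_norm_W0 hd.mem)))) hg
  have h1 : g⁻¹ * x * g ∈ Subgroup.centralizer ({D.ι u₀} : Set G) := by
    refine (cent_conj (g := g) _).mpr ?_
    rw [hge, show g * (g⁻¹ * x * g) * g⁻¹ = x by group]
    exact hx
  have := mul_mem (mul_mem hgM (hC₀ h1)) (inv_mem hgM)
  simpa [mul_assoc] using this

/-- An involution of the centraliser of `z` fused to `z` lies in a good subgroup. -/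
theorem Good.mem_of_Cz {M : Subgroup G} (gM : D.Good M) (h : D.Two) {y : G}
    (hy : y * D.ι W.z = D.ι W.z * y) (hyz : IsConj y (D.ι W.z)) : y ∈ M := by
  haveI := Fact.mk Nat.prime_two
  have hy2 : y * y = 1 := by
    obtain ⟨g, hg⟩ := isConj_iff.mp hyz.symm
    rw [← hg, conj_mul, ← map_mul, W.z_sq, map_one, mul_one, mul_inv_cancel]
  have hy1 : y ≠ 1 := fun e => D.ne_one W.z_ne (isConj_one_right.mp (e ▸ hyz))
  obtain ⟨c, hc, hcT⟩ := conj_into (X := D.Cz) D.range_le_Cz D.T.2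
    (fun h2 => D.T.not_dvd_index (h2.trans (Subgroup.relIndex_dvd_index_of_le D.range_le_Cz)))
    (R := Subgroup.zpowers y) (Subgroup.zpowers_le.mpr (mem_cent.mpr hy))
    (two_elt_isPGroup (k := 1) (by rw [pow_one, pow_two, hy2]))
  obtain ⟨w, hw⟩ := D.exists_pre (hcT y (Subgroup.mem_zpowers y))
  have hwz : IsConj (D.ι w) (D.ι W.z) := (isConj_iff.mpr ⟨c, hw.symm⟩ : IsConj y (D.ι w)).symm.trans hyz
  have hw2 : w * w = 1 := D.inj (by rw [map_mul, hw, conj_mul, hy2, mul_one, mul_inv_cancel, map_one])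
  have hwQ : W.IsQ w := by
    rcases W.invol_cases w hw2 with e | e | e | e | e
    · rw [e]; exact W.Q_one
    · rw [e]; exact W.z_Q
    · rcases e with rfl | rfl
      · exact W.v_Q
      · exact W.Q_mul _ _ W.v_Q W.z_Q
    · exact W.sig_Q w e
    · obtain ⟨u, hu, hu0, hc⟩ := D.A1_of_out e
      exact absurd (hc.symm.trans hwz) (h u hu hu0)
  haveI hQn := D.ctxG.Q_normal
  obtain ⟨t, ht, e⟩ := hQn.conj_mem (D.ctxG.ι w) (D.ctxG.mem_sub.mpr hwQ) (D.qz ⟨c⁻¹, inv_mem hc⟩)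
  rw [D.ctxG_ι, D.ctxG_ι, ← map_inv, ← map_mul, ← map_mul] at e
  have hk := (D.qz_eq (D.ι_mem_Cz t)
    (mul_mem (mul_mem (inv_mem hc) (D.ι_mem_Cz w)) (inv_mem (inv_mem hc)))).mp e
  have h1 := mul_mem (gM.T_le (D.mem_T t)) (gM.K_le hk)
  rw [show D.ι t * ((D.ι t)⁻¹ * (c⁻¹ * D.ι w * c⁻¹⁻¹)) = c⁻¹ * D.ι w * c⁻¹⁻¹ by group, hw] at h1
  simpa [mul_assoc] using h1

theorem two_K (h : D.Two) : D.K = ⊥ := by
  by_contra hK
  obtain ⟨d, hd⟩ := D.exists_dG
  obtain ⟨M, gM, hCM⟩ := exists_full h hd hK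
  set u := W.u₁ with hudef
  have hu : W.IsA1 u := W.u_facts.1
  have hu0 : ¬ W.IsW0 u := W.u_facts.2.2.1.2
  have hu2 : D.ι u * D.ι u = 1 := by rw [← map_mul, W.A1_sq u hu, map_one]
  have key : ∀ a : G, IsConj a (D.ι W.z) → a ∈ M := by
    intro a ha
    have ha2 : a * a = 1 := by
      obtain ⟨g, hg⟩ := isConj_iff.mp ha.symm
      rw [← hg, conj_mul, ← map_mul, W.z_sq, map_one, mul_one, mul_inv_cancel]
    have hev : ¬ Odd (orderOf (a * D.ι u)) := fun ho => h u hu hu0 ((conj_of_odd_mul ha2 hu2 ho).symm.trans ha)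
    obtain ⟨m, hm⟩ := Nat.not_odd_iff_even.mp hev
    set i := (a * D.ι u) ^ m with hidef
    have hord : 0 < orderOf (a * D.ι u) := orderOf_pos _
    have hi2 : i * i = 1 := by rw [hidef, ← pow_add, ← hm, pow_orderOf_eq_one]
    have hi1 : i ≠ 1 := pow_ne_one_of_lt_orderOf (by omega) (by omega)
    have hia : a * i * a⁻¹ = i := by
      rw [hidef, ← conj_pow, show a * (a * D.ι u) * a⁻¹ = (a * a) * D.ι u * a⁻¹ by group, ha2, one_mul,
        show D.ι u * a⁻¹ = (a * D.ι u)⁻¹ by rw [mul_inv_rev, invol_inv hu2], inv_pow]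
      exact invol_inv hi2
    have hiu : i * D.ι u = D.ι u * i := by
      have h1 : D.ι u * i * (D.ι u)⁻¹ = i := by
        rw [hidef, ← conj_pow, show D.ι u * (a * D.ι u) * (D.ι u)⁻¹ = D.ι u * a by group,
          show D.ι u * a = (a * D.ι u)⁻¹ by rw [mul_inv_rev, invol_inv hu2, invol_inv ha2], inv_pow]
        exact invol_inv hi2
      exact (mul_inv_eq_iff_eq_mul.mp h1).symm
    obtain ⟨c, hc, hcA⟩ := conj_into (X := Subgroup.centralizer ({D.ι u} : Set G)) (A_le_cent hu) (D.sub_pGroup _)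
      (A_index h hu hu0) (R := Subgroup.zpowers i) (Subgroup.zpowers_le.mpr (mem_cent.mpr hiu))
      (two_elt_isPGroup (k := 1) (by rw [pow_one, pow_two, hi2]))
    obtain ⟨w, hwA, hw⟩ := hcA i (Subgroup.mem_zpowers i)
    have hw1 : w ≠ 1 := fun e => hi1 (conj_eq_one_iff.mp (by rw [← hw, e, map_one]))
    have hcM : c ∈ M := hCM u hu hu0 hc
    have hai : c * a * c⁻¹ * D.ι w = D.ι w * (c * a * c⁻¹) := by
      rw [hw, conj_mul, conj_mul, mul_inv_eq_iff_eq_mul.mp hia]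
    suffices h1 : c * a * c⁻¹ ∈ M by
      have := mul_mem (mul_mem (inv_mem hcM) h1) hcM
      simpa [mul_assoc] using this
    by_cases hw0 : W.IsW0 w
    · obtain ⟨g, hg, hgw⟩ := D.exists_to_z hw0 hw1
      have hgM : g ∈ M := gM.W0_le (D.NA_norm_W0 hg)
      have hconj : IsConj a (g * (c * a * c⁻¹) * g⁻¹) := isConj_iff.mpr ⟨g * c, by group⟩
      have h2 : g * (c * a * c⁻¹) * g⁻¹ ∈ M := gM.mem_of_Cz h (by
        rw [← hgw, conj_mul, conj_mul, hai]) (hconj.symm.trans ha)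
      have := mul_mem (mul_mem (inv_mem hgM) h2) hgM
      simpa [mul_assoc] using this
    · exact hCM w hwA hw0 (mem_cent.mpr hai)
  have hle : Subgroup.normalClosure ({D.ι W.z} : Set G) ≤ M := by
    refine (Subgroup.closure_le _).mpr fun x hx => ?_
    obtain ⟨y, hy, hyx⟩ := Group.mem_conjugatesOfSet_iff.mp hx
    rw [Set.mem_singleton_iff] at hy
    subst hy
    exact key x hyx.symm
  rcases (inferInstance : (Subgroup.normalClosure ({D.ι W.z} : Set G)).Normal).eq_bot_or_eq_top with e | e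
  · exact D.ne_one W.z_ne (Subgroup.mem_bot.mp (e ▸ Subgroup.subset_normalClosure (Set.mem_singleton _)))
  · exact gM.ne (top_le_iff.mp (e ▸ hle))

end Emb

end CfsgJTwo
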