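import Cfsg.Agent.Lib.JTwoType.Lift

/-!
Lifting from the quotient by an odd subgroup, and two commuting involutory automorphisms of a group of odd order.

Blueprint: `blueprint/S1776.md`, part C.
-/

set_option autoImplicit false
set_option linter.unusedSectionVars false

namespace CfsgJTwo

open Cfsg CfsgA8C

universe u

variable {G : Type u} [Group G] [Finite G]

/-- A 2-element of a subgroup of odd order is trivial. -/
theorem eq_one_of_two_odd {O H : Subgroup G} (hH : IsPGroup 2 H) (hO : Odd (Nat.card O)) {x : G} (hxH : x ∈ H)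
    (hxO : x ∈ O) : x = 1 := by
  obtain ⟨k, hk⟩ := hH ⟨x, hxH⟩
  have h1 : orderOf x ∣ 2 ^ k := orderOf_dvd_of_pow_eq_one (congrArg Subtype.val hk)
  obtain ⟨j, -, hj⟩ := (Nat.dvd_prime_pow Nat.prime_two).mp h1
  have h2 := odd_orderOf hO hxO
  rw [hj] at h2
  rcases Nat.eq_zero_or_pos j with rfl | hj0
  · exact orderOf_eq_one_iff.mp (by simpa using hj)
  · exact absurd h2 (Nat.not_odd_iff_even.mpr (even_iff_two_dvd.mpr (dvd_pow_self 2 hj0.ne')))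

theorem mem_normal_sup {H O : Subgroup G} (hHO : ∀ h ∈ H, ∀ o ∈ O, h * o * h⁻¹ ∈ O) {x : G} (hx : x ∈ H ⊔ O) :
    ∃ h ∈ H, ∃ o ∈ O, x = h * o := by
  have hn : H ≤ Subgroup.normalizer (O : Set G) := fun h hh => mem_norm_of (hHO h hh)
  rw [← SetLike.mem_coe, Subgroup.coe_mul_of_left_le_normalizer_right H O hn] at hx
  obtain ⟨h, hh, o, ho, e⟩ := hx
  exact ⟨h, hh, o, ho, e.symm⟩

/-- In `H O` the 2-group `H` is a Sylow subgroup. -/
theorem sup_index {H O : Subgroup G} (hH : IsPGroup 2 H) (hO : Odd (Nat.card O))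
    (hHO : ∀ h ∈ H, ∀ o ∈ O, h * o * h⁻¹ ∈ O) : ¬ 2 ∣ H.relIndex (H ⊔ O) := by
  intro h
  have hcard : Nat.card ↥(H ⊔ O) ∣ Nat.card H * Nat.card O := by
    haveI : (O.subgroupOf (H ⊔ O)).Normal := ⟨fun o ho g => by
      rw [Subgroup.mem_subgroupOf] at ho ⊢
      obtain ⟨a, ha, b, hb, e⟩ := mem_normal_sup hHO g.2
      push_cast
      rw [e, show a * b * (o : G) * (a * b)⁻¹ = a * (b * o * b⁻¹) * a⁻¹ by group]
      exact hHO a ha _ (mul_mem (mul_mem hb ho) (inv_mem hb))⟩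
    have h1 := CfsgLib.card_sup_dvd_mul (H.subgroupOf (H ⊔ O)) (O.subgroupOf (H ⊔ O))
    rwa [← Subgroup.subgroupOf_sup le_sup_left le_sup_right, Subgroup.subgroupOf_self, Subgroup.card_top,
      Nat.card_congr (Subgroup.subgroupOfEquivOfLe (le_sup_left : H ≤ H ⊔ O)).toEquiv,
      Nat.card_congr (Subgroup.subgroupOfEquivOfLe (le_sup_right : O ≤ H ⊔ O)).toEquiv] at h1
  have h2 : H.relIndex (H ⊔ O) ∣ Nat.card O := by
    have h3 := (H.subgroupOf (H ⊔ O)).card_mul_index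
    rw [Nat.card_congr (Subgroup.subgroupOfEquivOfLe (le_sup_left : H ≤ H ⊔ O)).toEquiv] at h3
    exact (Nat.mul_dvd_mul_iff_left Nat.card_pos).mp (h3 ▸ hcard)
  exact (Nat.not_even_iff_odd.mpr hO) (even_iff_two_dvd.mpr (h.trans h2))

/-- An element normalising `H` modulo an odd subgroup normalises it after a correction. -/
theorem lift_norm {H O : Subgroup G} (hH : IsPGroup 2 H) (hO : Odd (Nat.card O))
    (hHO : ∀ h ∈ H, ∀ o ∈ O, h * o * h⁻¹ ∈ O) {x : G} (hx : ∀ h ∈ H, x * h * x⁻¹ ∈ H ⊔ O) :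
    ∃ o ∈ O, ∀ h ∈ H, o * x * h * (o * x)⁻¹ ∈ H := by
  obtain ⟨m, hm, hmH⟩ := conj_into (X := H ⊔ O) le_sup_left hH (sup_index hH hO hHO)
    (R := H.map (MulAut.conj x).toMonoidHom) (by
      rintro _ ⟨h, hh, rfl⟩
      simpa using hx h hh) (hH.map _)
  obtain ⟨a, ha, o, ho, rfl⟩ := mem_normal_sup hHO hm
  refine ⟨o, ho, fun h hh => ?_⟩
  have h1 := hmH (x * h * x⁻¹) ⟨h, hh, by simp⟩
  rw [show a * o * (x * h * x⁻¹) * (a * o)⁻¹ = a * (o * x * h * (o * x)⁻¹) * a⁻¹ by group] at h1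
  have h2 := mul_mem (mul_mem (inv_mem ha) h1) ha
  simpa [mul_assoc] using h2

/-- An element centralising `H` modulo an odd subgroup centralises it after a correction. -/
theorem lift_cent {H O : Subgroup G} (hH : IsPGroup 2 H) (hO : Odd (Nat.card O))
    (hHO : ∀ h ∈ H, ∀ o ∈ O, h * o * h⁻¹ ∈ O) {x : G} (hx : ∀ h ∈ H, x * h * x⁻¹ * h⁻¹ ∈ O) :
    ∃ o ∈ O, ∀ h ∈ H, o * x * h = h * (o * x) := by
  obtain ⟨o, ho, hn⟩ := lift_norm hH hO hHO (x := x) fun h hh => by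
    rw [show x * h * x⁻¹ = (x * h * x⁻¹ * h⁻¹) * h by group]
    exact mul_mem (Subgroup.mem_sup_right (hx h hh)) (Subgroup.mem_sup_left hh)
  refine ⟨o, ho, fun h hh => ?_⟩
  rw [← mul_inv_eq_iff_eq_mul, ← mul_inv_eq_one]
  refine eq_one_of_two_odd hH hO (mul_mem (hn h hh) (inv_mem hh)) ?_
  rw [show o * x * h * (o * x)⁻¹ * h⁻¹ = o * (x * h * x⁻¹ * h⁻¹) * (h * o⁻¹ * h⁻¹) by group]
  exact mul_mem (mul_mem ho (hx h hh)) (hHO h hh _ (inv_mem ho))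

/-- Involutions congruent modulo an odd subgroup are conjugate under it. -/
theorem conj_of_mod {O : Subgroup G} {s t : G} (hO : Odd (Nat.card O)) (hs : s * s = 1) (ht : t * t = 1)
    (hn : ∀ o ∈ O, t * o * t⁻¹ ∈ O) (hst : t⁻¹ * s ∈ O) : ∃ o ∈ O, o * s * o⁻¹ = t := by
  have hsT : s ∈ Subgroup.zpowers t ⊔ O := by
    rw [show s = t * (t⁻¹ * s) by group]
    exact mul_mem (Subgroup.mem_sup_left (Subgroup.mem_zpowers t)) (Subgroup.mem_sup_right hst)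
  have htp := two_elt_isPGroup (k := 1) (show t ^ 2 ^ 1 = 1 by rw [pow_one, pow_two, ht])
  have hlist : ∀ a ∈ Subgroup.zpowers t, a = 1 ∨ a = t := by
    intro a ha
    obtain ⟨i, rfl⟩ := Subgroup.mem_zpowers_iff.mp ha
    rw [← Int.mul_ediv_add_emod i 2, zpow_add, zpow_mul, zpow_two, ht, one_zpow, one_mul]
    rcases Int.emod_two_eq_zero_or_one i with h | h <;> simp [h]
  have hHO : ∀ h ∈ Subgroup.zpowers t, ∀ o ∈ O, h * o * h⁻¹ ∈ O := fun h hh o ho => by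
    rcases hlist h hh with rfl | rfl
    · simpa using ho
    · exact hn o ho
  obtain ⟨m, hm, hmR⟩ := conj_into (X := Subgroup.zpowers t ⊔ O) le_sup_left htp (sup_index htp hO hHO)
    (R := Subgroup.zpowers s) (Subgroup.zpowers_le.mpr hsT)
    (two_elt_isPGroup (k := 1) (show s ^ 2 ^ 1 = 1 by rw [pow_one, pow_two, hs]))
  obtain ⟨a, ha, o, ho, rfl⟩ := mem_normal_sup hHO hm
  refine ⟨o, ho, ?_⟩
  have h1 := hmR s (Subgroup.mem_zpowers s)
  have h2 : o * s * o⁻¹ ∈ Subgroup.zpowers t := by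
    have := mul_mem (mul_mem (inv_mem ha) h1) ha
    simpa [mul_assoc] using this
  rcases hlist _ h2 with e | e
  · have hs1 : s = 1 := conj_eq_one_iff.mp e
    subst hs1
    rw [mul_one] at hst
    rw [e, eq_one_of_two_odd htp hO (Subgroup.mem_zpowers t) (inv_mem_iff.mp hst)]
  · exact e

/-- The decomposition of an element of odd order under an involutory automorphism. -/
theorem inv_split {O : Subgroup G} (hO : Odd (Nat.card O)) {a : G} (haO : ∀ y ∈ O, a * y * a⁻¹ ∈ O)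
    (haa : ∀ y ∈ O, a * (a * y * a⁻¹) * a⁻¹ = y) {y : G} (hy : y ∈ O) :
    ∃ k : ℕ, ∀ t i, t = (a * y * a⁻¹)⁻¹ * y → i = t ^ k → i ∈ O ∧ a * i * a⁻¹ = i⁻¹ ∧ i * i = t ∧
      a * (y * i⁻¹) * a⁻¹ = y * i⁻¹ := by
  have ht : (a * y * a⁻¹)⁻¹ * y ∈ O := mul_mem (inv_mem (haO y hy)) hy
  obtain ⟨k, hk⟩ := odd_orderOf hO ht
  refine ⟨k + 1, fun t i et ei => ?_⟩
  subst et
  have hat : a * ((a * y * a⁻¹)⁻¹ * y) * a⁻¹ = ((a * y * a⁻¹)⁻¹ * y)⁻¹ := by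
    calc a * ((a * y * a⁻¹)⁻¹ * y) * a⁻¹ = (a * (a * y * a⁻¹) * a⁻¹)⁻¹ * (a * y * a⁻¹) := by
          simp only [mul_inv_rev, inv_inv, mul_assoc, inv_mul_cancel_left, mul_inv_cancel_left]
      _ = y⁻¹ * (a * y * a⁻¹) := by rw [haa y hy]
      _ = _ := by group
  have hi : a * i * a⁻¹ = i⁻¹ := by rw [ei, ← conj_pow, hat, inv_pow]
  have hii : i * i = (a * y * a⁻¹)⁻¹ * y := by
    rw [ei, ← pow_add, show k + 1 + (k + 1) = (2 * k + 1) + 1 by ring, pow_succ, ← hk, pow_orderOf_eq_one, one_mul]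
  refine ⟨ei ▸ pow_mem ht _, hi, hii, ?_⟩
  calc a * (y * i⁻¹) * a⁻¹ = a * y * a⁻¹ * (a * i * a⁻¹)⁻¹ := by group
    _ = y * ((a * y * a⁻¹)⁻¹ * y)⁻¹ * i := by rw [hi]; group
    _ = y * i⁻¹ := by rw [← hii]; group

/-- Two commuting involutory automorphisms of a group of odd order, their product centralising only what the first
does: elements fixed by one and inverted by the other commute. -/
theorem four_commute {O : Subgroup G} (hO : Odd (Nat.card O)) {a b : G} (haO : ∀ y ∈ O, a * y * a⁻¹ ∈ O)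
    (hbO : ∀ y ∈ O, b * y * b⁻¹ ∈ O) (hbb : ∀ y ∈ O, b * (b * y * b⁻¹) * b⁻¹ = y)
    (hab : ∀ y ∈ O, a * (b * y * b⁻¹) * a⁻¹ = b * (a * y * a⁻¹) * b⁻¹)
    (hfix : ∀ y ∈ O, a * (b * y * b⁻¹) * a⁻¹ = y → a * y * a⁻¹ = y) {x y : G} (hx : x ∈ O) (hy : y ∈ O)
    (hax : a * x * a⁻¹ = x) (hbx : b * x * b⁻¹ = x⁻¹) (hby : b * y * b⁻¹ = y) (hay : a * y * a⁻¹ = y⁻¹) :
    x * y = y * x := by
  set c := x * y * x⁻¹ with hc
  have hcO : c ∈ O := mul_mem (mul_mem hx hy) (inv_mem hx)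
  have hac : a * c * a⁻¹ = c⁻¹ := by
    rw [hc, show a * (x * y * x⁻¹) * a⁻¹ = (a * x * a⁻¹) * (a * y * a⁻¹) * (a * x * a⁻¹)⁻¹ by group, hax, hay]
    group
  obtain ⟨k, hk⟩ := inv_split hO hbO hbb hcO
  set t := (b * c * b⁻¹)⁻¹ * c with htdef
  set i := t ^ k with hidef
  obtain ⟨hiO, hbi, hii, hbf⟩ := hk t i htdef hidef
  set f := c * i⁻¹ with hf
  have hfO : f ∈ O := mul_mem hcO (inv_mem hiO)
  have hti : Commute t i := hidef ▸ Commute.self_pow t k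
  have hat : a * t * a⁻¹ = f * t⁻¹ * f⁻¹ := by
    have e1 : a * (b * c * b⁻¹) * a⁻¹ = (b * c * b⁻¹)⁻¹ := by rw [hab c hcO, hac]; group
    calc a * t * a⁻¹ = (a * (b * c * b⁻¹) * a⁻¹)⁻¹ * (a * c * a⁻¹) := by rw [htdef]; group
      _ = c * t⁻¹ * c⁻¹ := by rw [e1, hac, htdef]; group
      _ = c * (i⁻¹ * t⁻¹ * i) * c⁻¹ := by rw [hti.inv_inv.eq.symm, inv_mul_cancel_right]
      _ = f * t⁻¹ * f⁻¹ := by rw [hf]; group
  have hai : a * i * a⁻¹ = f * i⁻¹ * f⁻¹ := by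
    rw [hidef, ← conj_pow, hat, conj_pow, inv_pow]
  have haf : a * f * a⁻¹ = f⁻¹ := by
    rw [hf, show a * (c * i⁻¹) * a⁻¹ = a * c * a⁻¹ * (a * i * a⁻¹)⁻¹ by group, hac, hai, hf]
    group
  -- the square root of `f`
  obtain ⟨l, hl⟩ := odd_orderOf hO hfO
  set h := f ^ (l + 1) with hh
  have hhh : h * h = f := by
    rw [hh, ← pow_add, show l + 1 + (l + 1) = (2 * l + 1) + 1 by ring, pow_succ, ← hl, pow_orderOf_eq_one, one_mul]
  have hah : a * h * a⁻¹ = h⁻¹ := by rw [hh, ← conj_pow, haf, inv_pow]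
  have hbh : b * h * b⁻¹ = h := by rw [hh, ← conj_pow, hbf]
  have hjO : h * i * h⁻¹ ∈ O := mul_mem (mul_mem (hh ▸ pow_mem hfO _) hiO) (inv_mem (hh ▸ pow_mem hfO _))
  have hbj : b * (h * i * h⁻¹) * b⁻¹ = (h * i * h⁻¹)⁻¹ := by
    rw [show b * (h * i * h⁻¹) * b⁻¹ = (b * h * b⁻¹) * (b * i * b⁻¹) * (b * h * b⁻¹)⁻¹ by group, hbh, hbi]
    group
  have haj : a * (h * i * h⁻¹) * a⁻¹ = (h * i * h⁻¹)⁻¹ := by
    rw [show a * (h * i * h⁻¹) * a⁻¹ = (a * h * a⁻¹) * (a * i * a⁻¹) * (a * h * a⁻¹)⁻¹ by group, hah, hai,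
      ← hhh]
    group
  have hej : a * (b * (h * i * h⁻¹) * b⁻¹) * a⁻¹ = h * i * h⁻¹ := by
    rw [hbj, show a * (h * i * h⁻¹)⁻¹ * a⁻¹ = (a * (h * i * h⁻¹) * a⁻¹)⁻¹ by group, haj, inv_inv]
  have hj := hfix _ hjO hej
  rw [haj] at hj
  have hj1 : h * i * h⁻¹ = 1 := eq_one_of_odd_sq (by
    nth_rewrite 1 [← hj]; exact inv_mul_cancel _) (odd_orderOf hO hjO)
  have hi1 : i = 1 := conj_eq_one_iff.mp hj1
  have hbc : b * c * b⁻¹ = c := by
    have h2 : t = 1 := by rw [← hii, hi1, mul_one]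
    exact inv_mul_eq_one.mp (htdef.symm.trans h2)
  refine odd_comm_of_sq (odd_orderOf hO hx) ?_
  rw [hc, show b * (x * y * x⁻¹) * b⁻¹ = (b * x * b⁻¹) * (b * y * b⁻¹) * (b * x * b⁻¹)⁻¹ by group, hbx, hby,
    inv_inv] at hbc
  calc x * x * y = x * (x * y * x⁻¹) * x := by group
    _ = x * (x⁻¹ * y * x) * x := by rw [hbc]
    _ = y * (x * x) := by group

end CfsgJTwo
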