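import Cfsg.Agent.Lib.JTwoType.Bar

/-!
The normaliser of the strongly closed subgroup induces the alternating group on the five points.

Blueprint: `blueprint/S1776.md`, part B.
-/

set_option autoImplicit false
set_option linter.unusedSectionVars false
set_option maxRecDepth 100000

namespace CfsgJTwo

open Cfsg CfsgA8C Equiv

universe u

/-- The four group fixing the first point. -/
def vsub : Subgroup (Perm (Fin 5)) where
  carrier := {x | x = 1 ∨ x = swap 1 2 * swap 3 4 ∨ x = swap 1 3 * swap 2 4 ∨ x = swap 1 4 * swap 2 3}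
  one_mem' := Or.inl rfl
  mul_mem' := by
    rintro a b (rfl | rfl | rfl | rfl) (rfl | rfl | rfl | rfl) <;> decide +kernel
  inv_mem' := by
    rintro a (rfl | rfl | rfl | rfl) <;> decide +kernel

theorem vsub_card : Nat.card vsub = 4 := by
  classical
  let F : Finset (Perm (Fin 5)) := {1, swap 1 2 * swap 3 4, swap 1 3 * swap 2 4, swap 1 4 * swap 2 3}
  have hmem : ∀ x, x ∈ vsub ↔ x ∈ F := fun x => by
    show (x = 1 ∨ x = swap 1 2 * swap 3 4 ∨ x = swap 1 3 * swap 2 4 ∨ x = swap 1 4 * swap 2 3) ↔ x ∈ F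
    simp [F]
  rw [Nat.card_congr (Equiv.subtypeEquivRight hmem), Nat.card_eq_finsetCard]
  decide +kernel

theorem vsub_le_alt : vsub ≤ alternatingGroup (Fin 5) := by
  rintro x (rfl | rfl | rfl | rfl) <;> rw [Equiv.Perm.mem_alternatingGroup] <;> decide +kernel

theorem no_index_three (H : Subgroup (alternatingGroup (Fin 5))) : H.index ≠ 3 := by
  intro h3
  haveI : H.FiniteIndex := ⟨by omega⟩
  have hbot : H.normalCore = ⊥ := by
    refine (alternatingGroup.isSimpleGroup_five.eq_bot_or_eq_top_of_normal _ (Subgroup.normalCore_normal H)).resolve_right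
      fun htop => ?_
    have : H = ⊤ := top_le_iff.mp (htop ▸ Subgroup.normalCore_le H)
    rw [this, Subgroup.index_top] at h3
    omega
  have hinj : Function.Injective (MulAction.toPermHom (alternatingGroup (Fin 5)) (alternatingGroup (Fin 5) ⧸ H)) := by
    rw [← MonoidHom.ker_eq_bot_iff, ← Subgroup.normalCore_eq_ker, hbot]
  have h := Nat.card_le_card_of_injective _ hinj
  rw [nat_card_alternatingGroup, Nat.card_perm, ← Subgroup.index, h3, Nat.card_fin] at h
  norm_num [Nat.factorial] at h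

namespace Ctx

variable {X : Type u} [Group X] [Finite X] (D : Ctx X)

/-- The normaliser of `Eb`. -/
def N : Subgroup (X ⧸ D.K) := Subgroup.normalizer (D.Eb : Set (X ⧸ D.K))

/-- The induced map on the indices. -/
noncomputable def pm (n : D.N) (i : Fin 5) : Fin 5 := (D.P_conj n.2 i).choose

theorem pm_spec (n : D.N) (i : Fin 5) : (n : X ⧸ D.K) * D.P i * (n : X ⧸ D.K)⁻¹ = D.P (D.pm n i) :=
  (D.P_conj n.2 i).choose_spec

theorem pm_inj (n : D.N) : Function.Injective (D.pm n) := fun i j h => by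
  have h1 := D.pm_spec n i
  rw [h, ← D.pm_spec n j] at h1
  exact D.P_inj (mul_left_cancel (mul_right_cancel h1))

/-- The permutation of the five points. -/
noncomputable def perm : D.N →* Perm (Fin 5) where
  toFun n := Equiv.ofBijective (D.pm n) (Finite.injective_iff_bijective.mp (D.pm_inj n))
  map_one' := Equiv.ext fun i => D.P_inj (by
    show D.P (D.pm 1 i) = D.P i
    rw [← D.pm_spec]; simp)
  map_mul' a b := Equiv.ext fun i => D.P_inj (by
    show D.P (D.pm (a * b) i) = D.P (D.pm a (D.pm b i))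
    rw [← D.pm_spec, ← D.pm_spec, ← D.pm_spec]
    simp [mul_assoc])

theorem perm_spec (n : D.N) (i : Fin 5) : (n : X ⧸ D.K) * D.P i * (n : X ⧸ D.K)⁻¹ = D.P (D.perm n i) :=
  D.pm_spec n i

theorem Tb_le_N : (D.Tb : Subgroup (X ⧸ D.K)) ≤ D.N := sylow_le_norm D.Eb_closed

theorem Eb_le_N : D.Eb ≤ D.N := Subgroup.le_normalizer

theorem perm_Eb {n : D.N} (hn : (n : X ⧸ D.K) ∈ D.Eb) : D.perm n = 1 := Equiv.ext fun i => D.P_inj (by
  rw [← D.perm_spec, ea_comm_of_sq D.Eb_sq hn (D.P_mem i), mul_inv_cancel_right]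
  rfl)

/-- Elements acting trivially on the points centralise `Eb`. -/
theorem cent_of_perm {n : D.N} (h : D.perm n = 1) : ∀ e ∈ D.Eb, (n : X ⧸ D.K) * e = e * n := by
  have hP : ∀ i, Commute (n : X ⧸ D.K) (D.P i) := fun i => by
    have h1 := D.perm_spec n i
    rw [h] at h1
    exact mul_inv_eq_iff_eq_mul.mp h1
  intro e he
  rcases D.Eb_cases he with rfl | ⟨i, rfl⟩ | ⟨i, j, -, rfl⟩
  · simp
  · exact hP i
  · exact (hP i).mul_right (hP j)

theorem card_Tb : Nat.card ↥(D.Tb : Subgroup (X ⧸ D.K)) = 64 := by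
  have hKT : D.K ≤ (D.T : Subgroup X) := D.K_le_Qs.trans (D.sub_le _)
  have h := (Subgroup.card_mul_index (D.K.subgroupOf (D.T : Subgroup X)))
  rw [Nat.card_congr (Subgroup.subgroupOfEquivOfLe hKT).toEquiv] at h
  have e : D.K.subgroupOf (D.T : Subgroup X) = (D.π.comp (D.T : Subgroup X).subtype).ker := by
    rw [← MonoidHom.comap_ker, D.π_ker]; rfl
  rw [e, Subgroup.index_ker, MonoidHom.range_comp, Subgroup.range_subtype] at h
  have hK : Nat.card ↥D.K = 2 := by
    rw [K, Nat.card_zpowers]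
    exact orderOf_eq_prime (by rw [pow_two, D.z_mul_z]) (D.ne_one W.z_ne)
  rw [hK, D.card_T] at h
  show Nat.card ↥((D.T : Subgroup X).map D.π) = 64
  omega

theorem not_eight : ¬ 8 ∣ Nat.card D.perm.range := by
  intro h8
  haveI := Fact.mk Nat.prime_two
  have hle : D.Eb.subgroupOf D.N ≤ D.perm.ker := fun n hn => D.perm.mem_ker.mpr (D.perm_Eb hn)
  have h1 : Nat.card ↥(D.Eb.subgroupOf D.N) * Nat.card D.perm.range ∣ Nat.card D.N := by
    rw [← Subgroup.index_ker, ← D.perm.ker.card_mul_index]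
    exact mul_dvd_mul (Subgroup.card_dvd_of_le hle) dvd_rfl
  rw [Nat.card_congr (Subgroup.subgroupOfEquivOfLe D.Eb_le_N).toEquiv, D.card_Eb] at h1
  have h2 : 128 ∣ Nat.card (X ⧸ D.K) :=
    ((mul_dvd_mul (dvd_refl 16) h8).trans h1).trans (Subgroup.card_subgroup_dvd_card D.N)
  rw [← (D.Tb : Subgroup (X ⧸ D.K)).card_mul_index, D.card_Tb] at h2
  exact D.Tb.not_dvd_index ((Nat.mul_dvd_mul_iff_left (by norm_num : 0 < 64)).mp (by simpa using h2))

theorem vsub_le : vsub ≤ D.perm.range := by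
  intro x hx
  rcases hx with rfl | hx
  · exact one_mem _
  obtain ⟨w, -, -, hw⟩ := W.pt_four x (by simpa using hx)
  refine ⟨⟨D.π (D.ι w), D.Tb_le_N (D.mem_Tb w)⟩, Equiv.ext fun i => D.P_inj ?_⟩
  rw [← D.perm_spec]
  show D.π (D.ι w) * D.P i * (D.π (D.ι w))⁻¹ = _
  rw [P, D.π_conj]
  exact D.π_ι_eq.mpr (hw i)

theorem five_dvd : 5 ∣ Nat.card D.perm.range := by
  have h : MulAction.orbit D.perm.range (0 : Fin 5) = Set.univ := Set.eq_univ_of_forall fun i => by
    obtain ⟨n, hn, hni⟩ := D.P_trans i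
    refine ⟨⟨D.perm ⟨n, hn⟩, ⟨_, rfl⟩⟩, D.P_inj ?_⟩
    show D.P (D.perm ⟨n, hn⟩ 0) = D.P i
    rw [← D.perm_spec]
    exact hni
  have h2 := MulAction.index_stabilizer D.perm.range (0 : Fin 5)
  rw [h, Set.ncard_univ, Nat.card_fin] at h2
  exact (dvd_of_eq h2.symm).trans (Subgroup.index_dvd_card _)

theorem perm_range : D.perm.range = alternatingGroup (Fin 5) := by
  set H := D.perm.range
  have h20 : 20 ∣ Nat.card H := Nat.Coprime.mul_dvd_of_dvd_of_dvd (by norm_num : Nat.Coprime 4 5)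
    (vsub_card ▸ Subgroup.card_dvd_of_le D.vsub_le) D.five_dvd
  have h120 : Nat.card H ∣ 120 := by
    have := Subgroup.card_subgroup_dvd_card H
    rwa [Nat.card_perm, Nat.card_fin] at this
  have h8 : ¬ 8 ∣ Nat.card H := D.not_eight
  have hcases : Nat.card H = 20 ∨ Nat.card H = 60 := by
    obtain ⟨k, hk⟩ := h20
    have hk6 : k ∣ 6 := (Nat.mul_dvd_mul_iff_left (by norm_num : 0 < 20)).mp (by simpa [hk] using h120)
    have hle := Nat.le_of_dvd (by norm_num) hk6
    interval_cases k <;> omega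
  set φ : H →* ℤˣ := Equiv.Perm.sign.comp H.subtype
  have hker : φ.ker = (alternatingGroup (Fin 5)).subgroupOf H := by
    ext x
    rw [MonoidHom.mem_ker, Subgroup.mem_subgroupOf, Equiv.Perm.mem_alternatingGroup]
    rfl
  have hle : H ≤ alternatingGroup (Fin 5) := by
    by_contra hnot
    have hV : vsub.subgroupOf H ≤ φ.ker := fun x hx => hker ▸ vsub_le_alt hx
    have h4 : 4 ∣ Nat.card φ.ker := by
      have := Subgroup.card_dvd_of_le hV
      rwa [Nat.card_congr (Subgroup.subgroupOfEquivOfLe D.vsub_le).toEquiv, vsub_card] at this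
    have h2 : φ.ker.index = 2 := by
      rw [Subgroup.index_ker]
      have hne : φ.range ≠ ⊥ := fun e => hnot fun x hx => by
        rw [Equiv.Perm.mem_alternatingGroup]
        exact (show φ ⟨x, hx⟩ = 1 from (Subgroup.eq_bot_iff_forall φ.range).mp e _ ⟨_, rfl⟩)
      have h2' : Nat.card φ.range ∣ 2 := by
        have := Subgroup.card_subgroup_dvd_card φ.range
        rwa [Nat.card_eq_fintype_card (α := ℤˣ), Fintype.card_units_int] at this
      exact ((Nat.dvd_prime Nat.prime_two).mp h2').resolve_left fun e => hne (Subgroup.card_eq_one.mp e)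
    have h := φ.ker.card_mul_index
    rw [h2] at h
    obtain ⟨c, hc⟩ := h4
    rcases hcases with e | e <;> omega
  rcases hcases with e | e
  · exfalso
    refine no_index_three (H.subgroupOf (alternatingGroup (Fin 5))) ?_
    have h := (H.subgroupOf (alternatingGroup (Fin 5))).card_mul_index
    rw [Nat.card_congr (Subgroup.subgroupOfEquivOfLe hle).toEquiv, e, nat_card_alternatingGroup, Nat.card_fin] at h
    norm_num [Nat.factorial] at h
    omega
  · exact Subgroup.eq_of_le_of_card_ge hle (by rw [nat_card_alternatingGroup, Nat.card_fin, e]; decide)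

/-- An element of odd order fixing `v` and permuting three other points cyclically. -/
theorem exists_three : ∃ g : X, Odd (orderOf g) ∧ g * D.ι W.v = D.ι W.v * g ∧ D.π g ∈ D.N ∧
    ∃ q, W.IsQ q ∧ W.IsT q ∧ g * D.ι q ≠ D.ι q * g := by
  set τ : Perm (Fin 5) := swap 1 2 * swap 2 3 with hτ
  have hmem : τ ∈ D.perm.range := by
    rw [D.perm_range, Equiv.Perm.mem_alternatingGroup]; decide +kernel
  obtain ⟨⟨n, hn⟩, hnτ⟩ := hmem
  obtain ⟨g, rfl⟩ := D.π_surj n
  obtain ⟨x, y, hx, hy, hxy, ⟨k, hk⟩, hyo⟩ := two_odd_split g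
  have hgN : g ∈ D.N.comap D.π := hn
  have hxN : D.π x ∈ D.N := (Subgroup.zpowers_le.mpr hgN) hx
  have hyN : D.π y ∈ D.N := (Subgroup.zpowers_le.mpr hgN) hy
  have hperm : D.perm ⟨D.π x, hxN⟩ * D.perm ⟨D.π y, hyN⟩ = τ := by
    rw [← map_mul, ← hnτ]
    congr 1
    exact Subtype.ext (by simp [hxy])
  -- the 2-part acts trivially
  have hx1 : D.perm ⟨D.π x, hxN⟩ = 1 := by
    obtain ⟨i, hi⟩ := Subgroup.mem_zpowers_iff.mp hx
    have hxτ : D.perm ⟨D.π x, hxN⟩ = τ ^ i := by
      rw [← hnτ, ← map_zpow]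
      congr 1
      exact Subtype.ext (by simp [← hi])
    have h2 : (D.perm ⟨D.π x, hxN⟩) ^ 2 ^ k = 1 := by
      rw [← map_pow, show (⟨D.π x, hxN⟩ : D.N) ^ 2 ^ k = 1 from Subtype.ext (by
        push_cast
        rw [← map_pow, hk, map_one]), map_one]
    have h3 : (D.perm ⟨D.π x, hxN⟩) ^ 3 = 1 := by
      rw [hxτ, ← zpow_natCast, ← zpow_mul, mul_comm, zpow_mul, zpow_natCast,
        show τ ^ 3 = 1 by rw [hτ]; decide +kernel, one_zpow]
    have h4 := Nat.dvd_gcd (orderOf_dvd_of_pow_eq_one h2) (orderOf_dvd_of_pow_eq_one h3)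
    rw [Nat.Coprime.pow_left k (by norm_num : Nat.Coprime 2 3)] at h4
    exact orderOf_eq_one_iff.mp (Nat.dvd_one.mp h4)
  rw [hx1, one_mul] at hperm
  have hyP : ∀ i, D.π y * D.P i * (D.π y)⁻¹ = D.P (τ i) := fun i => by
    have := D.perm_spec ⟨D.π y, hyN⟩ i
    rwa [hperm] at this
  have hyv : y * D.ι W.v = D.ι W.v * y := by
    refine odd_comm_of_sq hyo ?_
    have h0 := hyP 0
    rw [show τ 0 = 0 by rw [hτ]; decide +kernel, P, ← map_inv, ← map_mul, ← map_mul,
      show W.pt 0 = W.v from rfl] at h0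
    rw [← mul_inv_eq_iff_eq_mul, show y * y * D.ι W.v * (y * y)⁻¹ = y * (y * D.ι W.v * y⁻¹) * y⁻¹ by group]
    rcases D.π_eq.mp h0 with e | e <;> rw [e]
    · rw [e]
    · rw [← conj_mul, e, D.conj_z, mul_assoc, D.z_mul_z, mul_one]
  refine ⟨y, hyo, hyv, hyN, W.pt 1 * W.pt 2, W.Q_mul _ _ (W.pt_mem 1).1 (W.pt_mem 2).1,
    W.edge_T 1 2 (by decide) (by decide), fun h => ?_⟩
  have h1 : D.π y * (D.P 1 * D.P 2) * (D.π y)⁻¹ = D.P 1 * D.P 2 := by
    rw [P, P, ← map_mul D.π (D.ι (W.pt 1)), ← map_mul D.ι, ← map_inv, ← map_mul, ← map_mul, h,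
      mul_inv_cancel_right]
  rw [← conj_mul, hyP, hyP] at h1
  rcases D.edge_eq (by rw [hτ]; decide +kernel) (by decide) h1 with ⟨e, -⟩ | ⟨e, e'⟩
  · exact absurd e (by rw [hτ]; decide +kernel)
  · exact absurd e' (by rw [hτ]; decide +kernel)

end Ctx

end CfsgJTwo
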