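import Cfsg.Agent.Lib.JTwoType.MainOne
import Cfsg.Agent.S1665
import Cfsg.Agent.S1658

/-!
A simple group with a Sylow 2-subgroup of the type of the Hall–Janko group: the centraliser of `z` is the extension of
the extraspecial group by the alternating group, so the group is one of the two Janko groups.

Blueprint: `blueprint/S1776.md`, part D.
-/

set_option autoImplicit false
set_option linter.unusedSectionVars false
set_option maxRecDepth 100000
set_option synthInstance.maxSize 4000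

namespace CfsgJTwo

open Cfsg CfsgA8C

universe u

variable {G : Type u} [Group G] [Finite G] [IsSimpleGroup G] {D : Emb G}

namespace Emb

theorem K_bot : D.K = ⊥ := by
  by_cases h : D.Two
  · exact two_K h
  · exact one_K h

theorem oddCore_Cz : oddCore ↥D.Cz = ⊥ :=
  (Subgroup.map_eq_bot_iff_of_injective _ D.Cz.subtype_injective).mp (K_bot : core D.Cz = ⊥)

/-- The setting of part B in the centraliser itself. -/
noncomputable def ctxC (D : Emb G) : Ctx ↥D.Cz where
  ι := D.ιC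
  inj := D.ιC_inj
  T := D.sylC
  range := rfl
  zc x := Subtype.ext (mem_cent.mp x.2)
  hO := oddCore_Cz
  fus := by
    obtain ⟨g, hg, a, ha, e⟩ := D.sig_to_v (simple_no_two D)
    exact ⟨⟨g, mem_cent.mpr hg⟩, a, ha, Subtype.ext e⟩

theorem recognise (D : Emb G) : Cfsg.Spor.IsoJ2 G ∨ Cfsg.Spor.IsoJ3 G := by
  set C := D.ctxC
  haveI := C.Q_normal
  obtain ⟨e⟩ := C.quot_iso
  have hcard : Nat.card ↥(C.sub W.Qs) = 32 := C.card_Qs
  have ho : ∀ {w : W}, w * w = 1 → w ≠ 1 → orderOf (D.ι w) = 2 := fun {w} h h1 =>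
    orderOf_eq_prime (by rw [pow_two, ← map_mul, h, map_one]) (D.ne_one h1)
  have hz : orderOf (D.ι W.z) = 2 := ho W.z_sq W.z_ne
  have hcl : ∀ x : G, orderOf x = 2 →
      IsConj x (D.ι W.z) ∨ ∃ u, W.IsA1 u ∧ ¬ W.IsW0 u ∧ IsConj x (D.ι u) := fun x hx =>
    D.invol_class (by rw [← pow_two, ← hx, pow_orderOf_eq_one]) fun e => by
      rw [e, orderOf_one] at hx; omega
  obtain ⟨d, hd⟩ := D.exists_dG
  by_cases h : D.Two
  · left
    refine Cfsg.Agent.S1665.result (D.ι W.z) hz (C.sub W.Qs) C.Q_extraspecial hcard C.Q_minus C.cent_Q_le e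
      ⟨D.ι W.z, D.ι W.u₁, hz, ho (W.A1_sq _ W.u_facts.1) (fun e => W.u_facts.2.2.1.2 (e ▸ W.W0_one)),
        fun hc => h _ W.u_facts.1 W.u_facts.2.2.1.2 hc.symm, fun x hx => ?_⟩
    rcases hcl x hx with hc | ⟨u, hu, hu0, hc⟩
    · exact Or.inl hc
    · obtain ⟨g, -, hg⟩ := hd.cyc u hu hu0 W.u₁ W.u_facts.1 W.u_facts.2.2.1.2
      exact Or.inr (hc.trans (isConj_iff.mpr ⟨g, hg⟩))
  · right
    have hall : ∀ x : G, orderOf x = 2 → IsConj x (D.ι W.z) := fun x hx => by
      rcases hcl x hx with hc | ⟨u, hu, hu0, hc⟩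
      · exact hc
      · exact hc.trans (all_conj h hu fun e => hu0 (e ▸ W.W0_one))
    exact Cfsg.Agent.S1658.result (D.ι W.z) hz (C.sub W.Qs) C.Q_extraspecial hcard C.Q_minus C.cent_Q_le e
      fun x y hx hy => (hall x hx).trans (hall y hy).symm

end Emb

end CfsgJTwo
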