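import Cfsg.Agent.Lib.JTwoType.CentQ
import Cfsg.Agent.Lib.LargeExtra.Odd
import Cfsg.Prelude.Def_Transfer

/-!
The shape of a group with central involution: extraspecial of order thirty-two extended by the alternating group of
degree five.

Blueprint: `blueprint/S1776.md`, part B, the third use of lemma A.
-/

set_option autoImplicit false
set_option linter.unusedSectionVars false

namespace CfsgJTwo

open Cfsg CfsgA8C Equiv

universe u

namespace Ctx

variable {X : Type u} [Group X] [Finite X] (D : Ctx X)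

theorem ctl_all : Ctl (⊤ : Subgroup (X ⧸ D.K)) D.N := by
  refine lemmaA D.Eb_closed D.Eb_sq D.Eb_cent ?_ (by rw [D.card_Eb]; norm_num) D.bar_nilp ?_
  · intro e he he1
    rcases D.Eb_cases he with h | ⟨i, rfl⟩ | ⟨i, j, hij, rfl⟩
    · exact absurd h he1
    · exact D.ctl_P i
    · exact D.ctl_edge hij
  · set u₀ : W := ⟨.e, 0, 0, false⟩
    have hu : W.IsOut u₀ := by decide
    refine ⟨D.P 0, D.π (D.ι u₀), D.P_sq 0, D.P_ne_one 0, ?_, ?_, fun h => ?_⟩
    · rw [← map_mul, ← map_mul, W.A1_sq u₀ ⟨rfl, rfl⟩, map_one, map_one]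
    · rw [Ne, D.π_ι_one]; decide
    · obtain ⟨g, hg⟩ := isConj_iff.mp h
      obtain ⟨g, rfl⟩ := D.π_surj g
      rw [P, ← map_inv, ← map_mul, ← map_mul] at hg
      rcases D.π_eq.mp hg with e | e
      · exact D.not_out_v hu (isConj_iff.mpr ⟨g, e⟩).symm
      · refine D.not_out_v (u := u₀ * W.z) (by decide) (isConj_iff.mpr ⟨g, ?_⟩).symm
        rw [map_mul]; exact e

theorem mem_N (x : X ⧸ D.K) : x ∈ D.N := by
  obtain ⟨n, hn, o, ho, rfl⟩ := D.ctl_all x (Subgroup.mem_top x)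
  rw [D.core_bar, Subgroup.mem_bot] at ho
  rwa [ho, mul_one]

theorem Q_normal : (D.sub W.Qs).Normal :=
  ⟨fun _ hq x => norm_conj (D.norm_lift (D.mem_N (D.π x))) hq⟩

theorem cent_Eb {x : X ⧸ D.K} (h : ∀ e ∈ D.Eb, x * e = e * x) : x ∈ D.Eb := by
  have hC := cent_split D.Eb_closed D.Eb_sq D.Eb_cent
  obtain ⟨f, hf, o, ho, rfl⟩ := hC x (Subgroup.mem_centralizer_iff.mpr fun e he => (h e he).symm)
  have hle : core (Subgroup.centralizer (D.Eb : Set (X ⧸ D.K))) ≤ core (⊤ : Subgroup (X ⧸ D.K)) :=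
    core_cent_le le_top D.ctl_all
  have ho' := hle ho
  rw [D.core_bar, Subgroup.mem_bot] at ho'
  rwa [ho', mul_one]

theorem preimage_Eb {x : X} (h : D.π x ∈ D.Eb) : x ∈ D.sub W.Qs := by
  obtain ⟨q, hq, e⟩ := D.exists_Eb h
  rcases D.π_eq.mp e.symm with h | h
  · exact h ▸ D.mem_sub.mpr hq
  · exact h ▸ mul_mem (D.mem_sub.mpr hq) (D.mem_sub.mpr W.z_Q)

theorem cent_Q_le : Subgroup.centralizer (D.sub W.Qs : Set X) ≤ D.sub W.Qs := fun x hx =>
  D.preimage_Eb (D.cent_Eb fun e he => by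
    obtain ⟨q, hq, rfl⟩ := D.exists_Eb he
    rw [← map_mul, ← map_mul, Subgroup.mem_centralizer_iff.mp hx _ (D.mem_sub.mpr hq)])

/-- The permutation representation on the five points. -/
noncomputable def permX : X →* Perm (Fin 5) :=
  D.perm.comp (D.π.codRestrict D.N fun x => D.mem_N (D.π x))

theorem permX_ker : D.permX.ker = D.sub W.Qs := by
  ext x
  constructor
  · intro h
    exact D.preimage_Eb (D.cent_Eb (D.cent_of_perm (n := ⟨D.π x, D.mem_N _⟩) h))
  · intro h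
    exact D.perm_Eb (n := ⟨D.π x, D.mem_N _⟩) ⟨x, h, rfl⟩

theorem permX_range : D.permX.range = alternatingGroup (Fin 5) := by
  rw [← D.perm_range]
  refine le_antisymm ?_ ?_
  · rintro _ ⟨x, rfl⟩
    exact ⟨_, rfl⟩
  · rintro _ ⟨⟨n, hn⟩, rfl⟩
    obtain ⟨x, rfl⟩ := D.π_surj n
    exact ⟨x, rfl⟩

theorem quot_iso [(D.sub W.Qs).Normal] : Nonempty (X ⧸ D.sub W.Qs ≃* alternatingGroup (Fin 5)) :=
  ⟨(QuotientGroup.quotientMulEquivOfEq D.permX_ker.symm).trans
    ((QuotientGroup.quotientKerEquivRange D.permX).trans (MulEquiv.subgroupCongr D.permX_range))⟩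

theorem Q_extraspecial : IsExtraspecial 2 ↥(D.sub W.Qs) := by
  set p : W := ⟨.e, .e, .w, false⟩
  set q : W := ⟨.w, .w2, .w, false⟩
  refine CfsgLargeExtra.isExtraspecial_of_ext2 (z := ⟨D.ι W.z, D.mem_sub.mpr W.z_Q⟩) ⟨?_, ?_, ?_⟩
    (a := ⟨D.ι p, D.mem_sub.mpr (show W.IsQ p by decide)⟩) (b := ⟨D.ι q, D.mem_sub.mpr (show W.IsQ q by decide)⟩) ?_
  · exact fun e => D.ne_one W.z_ne (congrArg Subtype.val e)
  · rintro ⟨_, x, hx, rfl⟩
    constructor
    · intro h
      rcases W.Q_centre x hx (fun y hy => (D.comm_iff.mp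
        (congrArg Subtype.val (Subgroup.mem_center_iff.mp h ⟨D.ι y, D.mem_sub.mpr hy⟩))).symm) with e | e
      · left; exact Subtype.ext (show D.ι x = 1 by rw [e, map_one])
      · right; exact Subtype.ext (show D.ι x = D.ι W.z by rw [e])
    · rintro (h | h) <;> rw [h]
      · exact one_mem _
      · exact Subgroup.mem_center_iff.mpr fun r => Subtype.ext (D.zc r)
  · rintro ⟨_, x, hx, rfl⟩
    rcases W.Q_sq x hx with e | e
    · left; exact Subtype.ext (show D.ι x * D.ι x = 1 by rw [← map_mul, e, map_one])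
    · right; exact Subtype.ext (show D.ι x * D.ι x = D.ι W.z by rw [← map_mul, e])
  · intro e
    have h := D.comm_iff.mp (congrArg Subtype.val e)
    exact absurd h (by decide)

theorem Q_minus : ∀ E : Subgroup ↥(D.sub W.Qs), IsElementaryAbelian 2 E → Nat.card E ≤ 2 ^ 2 := by
  classical
  intro E hE
  have hW : ∀ e : ↥(D.sub W.Qs), ∃ w, W.IsQ w ∧ D.ι w = e := fun e => by
    obtain ⟨w, hw, he⟩ := e.2
    exact ⟨w, hw, he⟩
  choose w hwQ hwe using hW
  have hsq : ∀ e ∈ E, w e * w e = 1 := fun e he => D.inj (by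
    have h := congrArg Subtype.val (hE.2 e he)
    rw [map_mul, hwe, map_one]
    simpa [pow_two] using h)
  have hcomm : ∀ a ∈ E, ∀ b ∈ E, w a * w b = w b * w a := fun a ha b hb => D.comm_iff.mp (by
    rw [hwe, hwe]
    exact congrArg (fun t : E => ((t : ↥(D.sub W.Qs)) : X)) (hE.1.is_comm.comm ⟨a, ha⟩ ⟨b, hb⟩))
  obtain ⟨x, hx⟩ : ∃ x : W, ∀ e ∈ E, w e ∈ ({1, W.z, x, x * W.z} : Finset W) := by
    by_cases h : ∀ e ∈ E, w e = 1 ∨ w e = W.z
    · exact ⟨1, fun e he => by rcases h e he with h' | h' <;> simp [h']⟩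
    push Not at h
    obtain ⟨a, ha, ha1, haz⟩ := h
    refine ⟨w a, fun e he => ?_⟩
    rcases W.Q_minus (w a) (w e) (hwQ a) (hwQ e) (hsq a ha) (hsq e he) (hcomm a ha e he) ha1 haz with h | h | h | h <;>
      simp [h]
  let f : E → ↥({1, W.z, x, x * W.z} : Finset W) := fun e => ⟨w e, hx e e.2⟩
  have hf : Function.Injective f := fun a b e => by
    have e' : D.ι (w a) = D.ι (w b) := congrArg (fun t => D.ι t) (congrArg Subtype.val e)
    rw [hwe, hwe] at e'
    exact Subtype.ext (Subtype.ext e')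
  refine (Nat.card_le_card_of_injective f hf).trans ?_
  rw [Nat.card_eq_finsetCard]
  exact Finset.card_le_four

end Ctx

end CfsgJTwo
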