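import Cfsg.Agent.Lib.JTwoType.CentP
import Cfsg.Agent.Lib.JTwoType.Functor
import Cfsg.Agent.Lib.OddOrder.FeitThompson
import Cfsg.Agent.S0217

/-!
Two classes of involutions: the family `Kc a · R0` on `A1` is balanced at four-groups, and the subgroup `Star`
generated by the intersections of the cores at hyperplanes and the commutators at four-groups is normalised by every
odd subgroup invariant under `A1`.

Blueprint: `blueprint/S1776.md`, part C.
-/

set_option autoImplicit false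
set_option linter.unusedSectionVars false
set_option maxRecDepth 100000

namespace CfsgJTwo

open Cfsg CfsgA8C CfsgLib.Signalizer
open scoped commutatorElement

universe u

section

variable {G : Type u} [Group G] [Finite G]

/-- The intersection of the cores of the centralisers of the non-trivial elements of `E`. -/
abbrev Dl (E : Subgroup G) : Subgroup G := Fun.Del Kc E

theorem mem_Dl {E : Subgroup G} {x : G} : x ∈ Dl E ↔ ∀ e ∈ E, e ≠ 1 → x ∈ Kc e := Fun.mem_delta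

theorem exists_ne_one {E : Subgroup G} (h : 2 ≤ Nat.card E) : ∃ e ∈ E, e ≠ 1 := by
  by_contra hc
  push Not at hc
  have : E = ⊥ := (Subgroup.eq_bot_iff_forall E).mpr hc
  rw [this, Subgroup.card_bot] at h
  omega

theorem Dl_odd {E : Subgroup G} (h : 2 ≤ Nat.card E) : Odd (Nat.card (Dl E)) := by
  obtain ⟨e, he, he1⟩ := exists_ne_one h
  exact odd_mono (fun x hx => mem_Dl.mp hx e he he1) (Kc_odd e)

theorem Dl_anti {E E' : Subgroup G} (h : E' ≤ E) : Dl E ≤ Dl E' := fun _ hx =>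
  mem_Dl.mpr fun e he he1 => mem_Dl.mp hx e (h he) he1

theorem Dl_conj {g x : G} {E E' : Subgroup G} (h : ∀ e ∈ E', g⁻¹ * e * g ∈ E) (hx : x ∈ Dl E) :
    g * x * g⁻¹ ∈ Dl E' := by
  refine mem_Dl.mpr fun e he he1 => ?_
  have h1 := Kc_conj (g := g) (mem_Dl.mp hx _ (h e he) fun e1 => he1 (by
    rw [show e = g * (g⁻¹ * e * g) * g⁻¹ by group, e1]; group))
  rwa [show g * (g⁻¹ * e * g) * g⁻¹ = e by group] at h1

theorem mul_mem_of_le_two {B E : Subgroup G} (h : B.relIndex E ≤ 2) {a b : G} (ha : a ∈ E)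
    (hb : b ∈ E) (ha' : a ∉ B) (hb' : b ∉ B) : a * b ∈ B := by
  have h2 : (B.subgroupOf E).index = 2 := by
    change (B.subgroupOf E).index ≤ 2 at h
    have h0 : (B.subgroupOf E).index ≠ 0 := Subgroup.index_ne_zero_of_finite
    have h1 : (B.subgroupOf E).index ≠ 1 := fun e => ha' (by
      have : (⟨a, ha⟩ : E) ∈ B.subgroupOf E := by rw [Subgroup.index_eq_one.mp e]; exact Subgroup.mem_top _
      exact this)
    omega
  exact (Subgroup.mul_mem_iff_of_index_two h2 (a := (⟨a, ha⟩ : E)) (b := ⟨b, hb⟩)).mpr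
    ⟨fun e => absurd e ha', fun e => absurd e hb'⟩

theorem le_norm_of_map {H : Subgroup G} {g : G} (h : H.map (MulAut.conj g).toMonoidHom ≤ H) :
    g ∈ Subgroup.normalizer (H : Set G) :=
  mem_norm_of fun x hx => h ⟨x, hx, rfl⟩

end

variable {G : Type u} [Group G] [Finite G] [IsSimpleGroup G] (D : Emb G)

namespace Emb

/-- The balanced family: the core of the centraliser together with the core of the centraliser of `A1`. -/
def Om (a : G) : Subgroup G := Kc a ⊔ D.R0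

theorem A_ea : IsElementaryAbelian 2 D.A :=
  CfsgLib.SolvSF.ea_of_comm (fun _ ha _ hb => D.A_comm ha hb) fun a ha => by rw [pow_two, D.A_sq ha]

theorem card_A : Nat.card ↥D.A = 16 := D.card_A1s

/-- The four-subgroups and the subgroups of order eight of `A1`. -/
abbrev Fours := {E : Subgroup G // E ≤ D.A ∧ Nat.card ↥E = 2 ^ 2}
abbrev Hyps := {E : Subgroup G // E ≤ D.A ∧ Nat.card ↥E = 2 ^ 3}

/-- The closure of the functor of the family. -/
def Wcl : Subgroup G :=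
  ⨆ a : {a : G // a ∈ D.A ∧ a ≠ 1}, ⨆ E : D.Fours, Fun.Del D.Om (E : Subgroup G) ⊓ Subgroup.centralizer {(a : G)}

/-- The subgroup generated by the hyperplane intersections and the commutators at four-groups. -/
def Star : Subgroup G := (⨆ F : D.Hyps, Dl (F : Subgroup G)) ⊔ ⨆ E : D.Fours, ⁅Dl (E : Subgroup G), D.A⁆

/-- The intrinsic form at one hyperplane. -/
def StarAt (E : Subgroup G) : Subgroup G :=
  Dl E ⊔ ⨆ B : {B : Subgroup G // B ≤ E ∧ Nat.card ↥B = 2 ^ 2}, ⁅Dl (B : Subgroup G), E⁆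

variable {D}

theorem mem_A {a : G} (ha : a ∈ D.A) (ha1 : a ≠ 1) : ∃ w, W.IsA1 w ∧ w ≠ 1 ∧ D.ι w = a := by
  obtain ⟨w, hw, rfl⟩ := ha
  exact ⟨w, hw, fun e => ha1 (by rw [e, map_one]), rfl⟩

theorem R0_le_cent {a : G} (ha : a ∈ D.A) : D.R0 ≤ Subgroup.centralizer ({a} : Set G) := fun _ hr =>
  mem_cent.mpr (D.R0_comm hr ha).symm

theorem Om_le {a : G} (ha : a ∈ D.A) : D.Om a ≤ Subgroup.centralizer ({a} : Set G) :=
  sup_le (Kc_le a) (R0_le_cent ha)

theorem Om_odd {a : G} (ha : a ∈ D.A) : Odd (Nat.card (D.Om a)) :=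
  odd_sup (Kc_odd a) (core_odd _) fun _ hr _ hk => Kc_norm (D.R0_comm hr ha).symm hk

theorem Om_split {a x : G} (ha : a ∈ D.A) (hx : x ∈ D.Om a) : ∃ r ∈ D.R0, ∃ k ∈ Kc a, x = r * k :=
  mem_normal_sup (fun _ hr _ hk => Kc_norm (D.R0_comm hr ha).symm hk) (sup_comm (Kc a) D.R0 ▸ hx)

theorem Om_inv {a : G} (ha : a ∈ D.A) : D.A ≤ Subgroup.normalizer (D.Om a : Set G) := fun g hg =>
  le_norm_of_map (by
    rw [Om, Subgroup.map_sup]
    refine sup_le_sup ?_ ?_
    · rintro _ ⟨k, hk, rfl⟩; exact Kc_norm (D.A_comm hg ha) hk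
    · rintro _ ⟨k, hk, rfl⟩; exact D.R0_conj (Subgroup.le_normalizer hg) hk)

/-- Every element of `A1` is in a four-group complementing the plane, times an element of the plane. -/
theorem exists_mem_four (h : D.Two) {u : W} {n : G} (c : D.Cyc u n) {E : Subgroup G} (hE : E ≤ D.A)
    (hc : Nat.card E = 4) (hP : ∀ p : W, W.IsA1 p → p ≠ 1 → n * D.ι p = D.ι p * n → D.ι p ∉ E) {a : W}
    (ha : W.IsA1 a) : ∃ q, W.IsA1 q ∧ D.ι q ∈ E ∧ n * D.ι (a * q) = D.ι (a * q) * n := by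
  have hq : ∀ e : E, ∃ q : W × {w : W // W.IsW0 w}, W.IsA1 q.1 ∧ D.ι q.1 = e ∧
      n * D.ι (q.1 * q.2) = D.ι (q.1 * q.2) * n := by
    rintro ⟨e, he⟩
    obtain ⟨q, hq, rfl⟩ := hE he
    obtain ⟨w, hw, hn⟩ := c.split h hq
    exact ⟨(q, ⟨w, hw⟩), hq, rfl, hn⟩
  choose f hfA hfe hfn using hq
  have hinj : Function.Injective fun e : E => (f e).2 := by
    intro e₁ e₂ he
    have hm : D.ι ((f e₁).1 * (f e₂).1) ∈ E := by rw [map_mul, hfe, hfe]; exact mul_mem e₁.2 e₂.2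
    have hw := W.W0_le _ (f e₂).2.2
    have hn : n * D.ι ((f e₁).1 * (f e₂).1) = D.ι ((f e₁).1 * (f e₂).1) * n := by
      have h1 := (show Commute n _ from hfn e₁).mul_right (show Commute n _ from hfn e₂)
      rw [← map_mul, show (f e₁).2 = (f e₂).2 from he] at h1
      have e : (f e₁).1 * (f e₂).2 * ((f e₂).1 * (f e₂).2) = (f e₁).1 * (f e₂).1 := by
        rw [W.A_comm (f e₂).1 _ (hfA e₂) hw.1, mul_assoc, ← mul_assoc ((f e₂).2 : W), W.A1_sq _ hw.1, one_mul]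
      rw [e] at h1
      exact h1
    have h1 : (f e₁).1 * (f e₂).1 = 1 := by
      by_contra hne
      exact hP _ (W.A1_mul _ _ (hfA e₁) (hfA e₂)) hne hn hm
    have h2 : (f e₁).1 = (f e₂).1 := by
      rw [mul_eq_one_iff_eq_inv.mp h1, inv_eq_of_mul_eq_one_right (W.A1_sq _ (hfA e₂))]
    exact Subtype.ext (by rw [← hfe e₁, ← hfe e₂, h2])
  have hcard : Nat.card E = Nat.card {w : W // W.IsW0 w} := by
    rw [hc, Nat.card_eq_fintype_card]; decide +kernel
  obtain ⟨wa, hwa, hna⟩ := c.split h ha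
  obtain ⟨e, he⟩ := ((Nat.bijective_iff_injective_and_card _).mpr ⟨hinj, hcard⟩).2 ⟨wa, hwa⟩
  have hwe : ((f e).2 : W) = wa := congrArg Subtype.val he
  refine ⟨(f e).1, hfA e, hfe e ▸ e.2, ?_⟩
  have h1 := (show Commute n _ from hna).mul_right (show Commute n _ from hfn e)
  rw [← map_mul, hwe] at h1
  have e' : a * wa * ((f e).1 * wa) = a * (f e).1 := by
    rw [W.A_comm (f e).1 wa (hfA e) (W.W0_le wa hwa).1, mul_assoc, ← mul_assoc wa, W.A1_sq _ (W.W0_le wa hwa).1,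
      one_mul]
  rw [e'] at h1
  exact h1

theorem family (h : D.Two) {d : G} (hd : D.IsD d) : Fun.Family 2 2 D.A D.Om := by
  refine ⟨?_, fun a ha _ => ?_, fun a ha _ => Om_inv ha, fun a ha _ => CfsgLib.OddOrder.feitThompson (Om_odd ha)⟩
  swap
  · exact fun h2 => Nat.not_even_iff_odd.mpr (Om_odd ha) (even_iff_two_dvd.mpr h2)
  intro E hE hEc a ha ha1
  obtain ⟨b, hb, hb1, rfl⟩ := mem_A ha ha1
  obtain ⟨e₀, he₀, he₀1⟩ := exists_ne_one (E := E) (by omega)
  by_cases hb0 : W.IsW0 b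
  · refine le_trans (D.le_Kw hb0 hb1 inf_le_right
      (odd_mono (inf_le_left.trans fun x hx => Fun.mem_delta.mp hx e₀ he₀ he₀1) (Om_odd (hE he₀))) ?_) le_sup_left
    intro s hs x hx
    refine Subgroup.mem_inf.mpr ⟨Fun.mem_delta.mpr fun e he he1 =>
      norm_conj (Om_inv (hE he) (D.mem_sub.mpr hs)) (Fun.mem_delta.mp hx.1 e he he1), ?_⟩
    exact mul_mem (mul_mem (A_le_cent hb (D.mem_sub.mpr hs)) hx.2) (inv_mem (A_le_cent hb (D.mem_sub.mpr hs)))
  obtain ⟨n, c⟩ := exists_cyc hd hb hb0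
  intro x hx
  have hxb : x * D.ι b = D.ι b * x := mem_cent.mp hx.2
  by_cases hP : ∃ p, W.IsA1 p ∧ p ≠ 1 ∧ n * D.ι p = D.ι p * n ∧ D.ι p ∈ E
  · obtain ⟨p, hp, hp1, hpn, hpE⟩ := hP
    obtain ⟨r, hr, k, hk, rfl⟩ := Om_split (hE hpE) (Fun.mem_delta.mp hx.1 _ hpE (D.ne_one hp1))
    have hk' : k ∈ Kc (D.ι b) := c.bal_plane h hp hp1 hpn ⟨hk, by
      have := mul_mem (inv_mem (R0_le_cent ha hr)) hx.2
      rwa [inv_mul_cancel_left] at this⟩
    exact mul_mem (Subgroup.mem_sup_right hr) (Subgroup.mem_sup_left hk')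
  · push Not at hP
    have hxo : Odd (orderOf x) := odd_orderOf (Om_odd (hE he₀)) (Fun.mem_delta.mp hx.1 e₀ he₀ he₀1)
    refine c.odd_mem h hxb hxo fun s hs => ?_
    obtain ⟨q, hq, hqE, hn⟩ := exists_mem_four h c hE hEc hP hs
    refine ⟨s * q, W.A1_mul _ _ hs hq, hn, ?_⟩
    rw [← mul_assoc, W.A1_sq s hs, one_mul]
    rcases eq_or_ne q 1 with rfl | hq1
    · simp
    · exact mem_cent.mp (Om_le (hE hqE) (Fun.mem_delta.mp hx.1 _ hqE (D.ne_one hq1)))

theorem card_A_le : 2 ^ (2 + 2) ≤ Nat.card ↥D.A := by rw [D.card_A]; norm_num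

theorem theta_le_Om (h : D.Two) {d : G} (hd : D.IsD d) {a : G} (ha : a ∈ D.A) (ha1 : a ≠ 1) :
    (⨆ E : D.Fours, Fun.Del D.Om (E : Subgroup G) ⊓ Subgroup.centralizer {a}) ≤ D.Om a :=
  iSup_le fun E => (family h hd).bal E E.2.1 E.2.2 a ha ha1

theorem closure_spec (h : D.Two) {d : G} (hd : D.IsD d) : Odd (Nat.card ↥D.Wcl) ∧
    ∀ a ∈ D.A, a ≠ 1 → D.Wcl ⊓ Subgroup.centralizer {a} ≤ D.Om a := by
  obtain ⟨⟨hC, hp, hinv, hbal⟩, hsolv⟩ := Fun.isSignalizerFunctor (family h hd) D.A_ea card_A_le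
  obtain ⟨h1, h2⟩ := Cfsg.Agent.S0217.result D.A (fun _ ha _ hb => D.A_comm ha hb)
    (fun a ha => by rw [pow_two, D.A_sq ha]) (by rw [D.card_A]; norm_num) _ hC hp hinv hsolv hbal
  exact ⟨Nat.odd_iff.mpr (Nat.two_dvd_ne_zero.mp h1), fun a ha ha1 => (h2 a ha ha1).le.trans (theta_le_Om h hd ha ha1)⟩

theorem Wcl_inv (h : D.Two) {d : G} (hd : D.IsD d) : D.A ≤ Subgroup.normalizer (D.Wcl : Set G) := fun g hg =>
  le_norm_of_map (by
    simp only [Wcl, Subgroup.map_iSup]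
    refine iSup_mono fun a => iSup_mono fun E => ?_
    rintro _ ⟨y, hy, rfl⟩
    exact norm_conj (CfsgLib.Signalizer.inf_normalizes (Fun.delta_normalizes (family h hd) E.2.1)
      (CfsgLib.Signalizer.centralizer_singleton_normalizes D.A_ea a.2.1) hg) hy)

theorem exists_four {E : Subgroup G} (hE : E ≤ D.A) (hc : 4 ≤ Nat.card E) :
    ∃ B : Subgroup G, B ≤ E ∧ Nat.card B = 2 ^ 2 :=
  Fun.exists_sub D.A_ea hE hc

theorem exists_eight {E : Subgroup G} (hE : E ≤ D.A) (hi : E.relIndex D.A ≤ 2) :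
    ∃ B : Subgroup G, B ≤ E ∧ Nat.card B = 2 ^ 3 := by
  refine Fun.exists_sub D.A_ea hE ?_
  have h1 := (E.subgroupOf D.A).card_mul_index
  rw [Nat.card_congr (Subgroup.subgroupOfEquivOfLe hE).toEquiv, D.card_A] at h1
  have h2 : Nat.card E * (E.subgroupOf D.A).index ≤ Nat.card E * 2 := Nat.mul_le_mul_left _ hi
  omega

theorem Del_le_Wcl (h : D.Two) {d : G} (hd : D.IsD d) {E : Subgroup G} (hE : E ≤ D.A) (hc : Nat.card E = 2 ^ 2) :
    Fun.Del D.Om E ≤ D.Wcl := by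
  obtain ⟨e₀, he₀, he₀1⟩ := exists_ne_one (E := E) (by omega)
  have ho : Odd (Nat.card ↥(Fun.Del D.Om E)) :=
    odd_mono (fun x hx => Fun.mem_delta.mp hx e₀ he₀ he₀1) (Om_odd (hE he₀))
  rw [gen_index D.A_ea (fun h2 => Nat.not_even_iff_odd.mpr ho (even_iff_two_dvd.mpr h2))
    (Fun.delta_normalizes (family h hd) hE)]
  refine iSup_le fun F x hx => ?_
  obtain ⟨B, hBF, hB⟩ := exists_eight F.2.1 F.2.2
  obtain ⟨b, hb, hb1⟩ := exists_ne_one (E := B) (by omega)
  exact le_iSup (fun a : {a : G // a ∈ D.A ∧ a ≠ 1} => ⨆ E : D.Fours,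
      Fun.Del D.Om (E : Subgroup G) ⊓ Subgroup.centralizer {(a : G)}) ⟨b, F.2.1 (hBF hb), hb1⟩
    (le_iSup (fun E : D.Fours => Fun.Del D.Om (E : Subgroup G) ⊓ Subgroup.centralizer {b}) ⟨E, hE, hc⟩
      ⟨hx.1, mem_cent.mpr (Subgroup.mem_centralizer_iff.mp hx.2 b (hBF hb)).symm⟩)

theorem Dl_le_Wcl (h : D.Two) {d : G} (hd : D.IsD d) {E : Subgroup G} (hE : E ≤ D.A) (hc : 4 ≤ Nat.card E) :
    Dl E ≤ D.Wcl := by
  obtain ⟨B, hBE, hB⟩ := exists_four hE hc
  exact (Dl_anti hBE).trans (le_trans (fun x hx => Fun.mem_delta.mpr fun e he he1 =>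
    Subgroup.mem_sup_left (mem_Dl.mp hx e he he1)) (Del_le_Wcl h hd (hBE.trans hE) hB))

theorem Dl_inv {E : Subgroup G} (hE : E ≤ D.A) : D.A ≤ Subgroup.normalizer (Dl E : Set G) := fun g hg =>
  mem_norm_of fun x hx => Dl_conj (fun e he => by
    rw [D.A_comm (inv_mem hg) (hE he), inv_mul_cancel_right]; exact he) hx

/-- Balance at the hyperplanes is exact. -/
theorem bal_three (h : D.Two) {d : G} (hd : D.IsD d) {E : Subgroup G} (hE : E ≤ D.A) (hc : Nat.card E = 2 ^ 3)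
    {a : G} (ha : a ∈ D.A) (ha1 : a ≠ 1) : Dl E ⊓ Subgroup.centralizer ({a} : Set G) ≤ Kc a := by
  obtain ⟨b, hb, hb1, rfl⟩ := mem_A ha ha1
  by_cases hb0 : W.IsW0 b
  · refine D.le_Kw hb0 hb1 inf_le_right (odd_mono inf_le_left (Dl_odd (by omega))) ?_
    intro s hs x hx
    refine Subgroup.mem_inf.mpr ⟨norm_conj (Dl_inv hE (D.mem_sub.mpr hs)) hx.1, ?_⟩
    exact mul_mem (mul_mem (A_le_cent hb (D.mem_sub.mpr hs)) hx.2) (inv_mem (A_le_cent hb (D.mem_sub.mpr hs)))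
  obtain ⟨n, c⟩ := exists_cyc hd hb hb0
  obtain ⟨s, hs, hs0, hsb⟩ := (show ∀ u : W, ∃ s : W, W.IsA1 s ∧ s.a ≠ 0 ∧ s.a ≠ u.a by decide +kernel) b
  obtain ⟨w, hw, hn⟩ := c.split h hs
  set p := s * w with hp
  have hpA : W.IsA1 p := W.A1_mul _ _ hs (W.W0_le w hw).1
  have hpa : p.a = s.a := by rw [hp, W.A1_sum s w hs (W.W0_le w hw).1, (W.A1_zero w (W.W0_le w hw).1).mpr hw, add_zero]
  have hp1 : p ≠ 1 := fun e => hs0 (by rw [← hpa, e]; rfl)
  have hpb : p ≠ b := fun e => hsb (by rw [← hpa, e])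
  have hrel : E.relIndex D.A ≤ 2 := by
    have h1 := (E.subgroupOf D.A).card_mul_index
    rw [Nat.card_congr (Subgroup.subgroupOfEquivOfLe hE).toEquiv, D.card_A, hc] at h1
    change (E.subgroupOf D.A).index ≤ 2
    omega
  obtain ⟨q, hq, hq1, hqn, hqE⟩ : ∃ q, W.IsA1 q ∧ q ≠ 1 ∧ n * D.ι q = D.ι q * n ∧ D.ι q ∈ E := by
    by_cases h1 : D.ι b ∈ E
    · exact ⟨b, hb, hb1, c.cu, h1⟩
    by_cases h2 : D.ι p ∈ E
    · exact ⟨p, hpA, hp1, hn, h2⟩
    refine ⟨b * p, W.A1_mul _ _ hb hpA, fun e => hpb ?_, ?_, ?_⟩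
    · rw [← inv_eq_of_mul_eq_one_right e, inv_eq_of_mul_eq_one_right (W.A1_sq b hb)]
    · rw [map_mul]; exact (show Commute n _ from c.cu).mul_right (show Commute n _ from hn)
    · rw [map_mul]; exact mul_mem_of_le_two hrel ha (D.mem_sub.mpr hpA) h1 h2
  exact fun x hx => c.bal_plane h hq hq1 hqn ⟨mem_Dl.mp hx.1 _ hqE (D.ne_one hq1), hx.2⟩

theorem StarAt_conj {E : Subgroup G} {g : G} (hg : g ∈ Subgroup.normalizer (E : Set G)) :
    g ∈ Subgroup.normalizer (StarAt E : Set G) := by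
  refine le_norm_of_map ?_
  simp only [StarAt, Subgroup.map_sup, Subgroup.map_iSup, Subgroup.map_commutator]
  refine sup_le_sup ?_ (iSup_le fun B => ?_)
  · rintro _ ⟨x, hx, rfl⟩
    exact Dl_conj (fun e he => by simpa using norm_conj (inv_mem hg) he) hx
  · have hB : (B : Subgroup G).map (MulAut.conj g).toMonoidHom ≤ E := by
      rintro _ ⟨e, he, rfl⟩; exact norm_conj hg (B.2.1 he)
    refine le_trans (Subgroup.commutator_mono ?_ ?_)
      (le_iSup (fun B : {B : Subgroup G // B ≤ E ∧ Nat.card ↥B = 2 ^ 2} => ⁅Dl (B : Subgroup G), E⁆)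
        ⟨(B : Subgroup G).map (MulAut.conj g).toMonoidHom, hB,
          (Subgroup.card_map_of_injective (MulAut.conj g).injective).trans B.2.2⟩)
    · rintro _ ⟨x, hx, rfl⟩
      refine Dl_conj (fun e he => ?_) hx
      obtain ⟨y, hy, rfl⟩ := he
      simpa [mul_assoc] using hy
    · rintro _ ⟨x, hx, rfl⟩; exact norm_conj hg hx

/-- The intrinsic form at a hyperplane is `Star`. -/
theorem Star_eq (h : D.Two) {d : G} (hd : D.IsD d) {E : Subgroup G} (hE : E ≤ D.A) (hc : Nat.card E = 2 ^ 3) :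
    D.Star = StarAt E := by
  refine le_antisymm ?_ (sup_le (le_trans (le_iSup (fun F : D.Hyps => Dl (F : Subgroup G)) ⟨E, hE, hc⟩) le_sup_left)
    (iSup_le fun B => le_trans (Subgroup.commutator_mono le_rfl hE)
      (le_trans (le_iSup (fun B : D.Fours => ⁅Dl (B : Subgroup G), D.A⁆) ⟨B, B.2.1.trans hE, B.2.2⟩) le_sup_right)))
  obtain ⟨hWo, hW⟩ := closure_spec h hd
  set S := StarAt E with hS
  set CE := D.Wcl ⊓ Subgroup.centralizer (E : Set G) with hCE
  have hWA := Wcl_inv h hd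
  have hSA : D.A ≤ Subgroup.normalizer (S : Set G) := fun g hg => StarAt_conj (mem_norm_of fun e he => by
    rw [D.A_comm hg (hE he), mul_inv_cancel_right]; exact he)
  have hCS : ∀ c ∈ CE, ∀ s ∈ S, c * s * c⁻¹ ∈ S := fun c hc s hs => norm_conj (StarAt_conj (mem_norm_of fun e he => by
    rw [← Subgroup.mem_centralizer_iff.mp hc.2 e he, mul_inv_cancel_right]; exact he)) hs
  -- the closure is covered
  have hgen : D.Wcl ≤ CE ⊔ S := by
    conv_lhs => rw [gen_index (ea_le D.A_ea hE)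
      (fun h2 => Nat.not_even_iff_odd.mpr hWo (even_iff_two_dvd.mpr h2)) (hE.trans hWA)]
    refine iSup_le fun F => ?_
    obtain ⟨B, hBF, hBc⟩ := exists_four (F.2.1.trans hE) (by
      have h1 := ((F : Subgroup G).subgroupOf E).card_mul_index
      rw [Nat.card_congr (Subgroup.subgroupOfEquivOfLe F.2.1).toEquiv, hc] at h1
      have h2 := Nat.mul_le_mul_left (Nat.card (F : Subgroup G)) F.2.2
      change Nat.card (F : Subgroup G) * ((F : Subgroup G).subgroupOf E).index ≤ _ at h2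
      omega)
    have hBE : B ≤ E := hBF.trans F.2.1
    obtain ⟨e, heE, heB⟩ : ∃ e ∈ E, e ∉ B := by
      by_contra hcon
      push Not at hcon
      have := Subgroup.card_dvd_of_le (show E ≤ B from hcon)
      rw [hc, hBc] at this
      norm_num at this
    have hrel : B.relIndex E ≤ 2 := by
      have h1 := (B.subgroupOf E).card_mul_index
      rw [Nat.card_congr (Subgroup.subgroupOfEquivOfLe hBE).toEquiv, hBc, hc] at h1
      change (B.subgroupOf E).index ≤ 2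
      omega
    have hee : e * e = 1 := D.A_sq (hE heE)
    set O := D.Wcl ⊓ Subgroup.centralizer (B : Set G)
    have hOA : D.A ≤ Subgroup.normalizer (O : Set G) :=
      inf_normalizes hWA (le_normalizer_centralizer D.A_ea (hBE.trans hE))
    intro y hy
    have hyO : y ∈ O := ⟨hy.1, Subgroup.centralizer_le hBF hy.2⟩
    obtain ⟨k, hk⟩ := inv_split (odd_mono inf_le_left hWo) (a := e) (fun x hx => norm_conj (hOA (hE heE)) hx)
      (fun x _ => by
        rw [show e * (e * x * e⁻¹) * e⁻¹ = e * e * x * (e * e)⁻¹ by group, hee, one_mul, inv_one, mul_one]) hyO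
    set t := (e * y * e⁻¹)⁻¹ * y with ht
    set i := t ^ k with hi
    obtain ⟨hiO, hei, hii, hf⟩ := hk t i ht hi
    have hfC : y * i⁻¹ ∈ CE := by
      refine Subgroup.mem_inf.mpr ⟨mul_mem hy.1 (inv_mem (Subgroup.mem_inf.mp hiO).1), Subgroup.mem_centralizer_iff.mpr fun x hx => ?_⟩
      have hfB : ∀ b ∈ B, b * (y * i⁻¹) = y * i⁻¹ * b :=
        Subgroup.mem_centralizer_iff.mp (mul_mem hyO.2 (inv_mem hiO.2))
      by_cases hxB : x ∈ B
      · exact hfB x hxB
      · have h1 := hfB _ (mul_mem_of_le_two hrel hx heE hxB heB)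
        have h2 : Commute (y * i⁻¹) e := (mul_inv_eq_iff_eq_mul.mp hf).symm
        have h3 := (show Commute (y * i⁻¹) (x * e) from h1.symm).mul_right h2
        rw [mul_assoc, hee, mul_one] at h3
        exact h3.symm.eq
    have hi2 : i * i ∈ Dl B := by
      refine mem_Dl.mpr fun b hb hb1 => ?_
      have hbA := hE (hBE hb)
      obtain ⟨r, hr, l, hl, e1⟩ := Om_split hbA (hW b hbA hb1
        ⟨hiO.1, mem_cent.mpr (Subgroup.mem_centralizer_iff.mp hiO.2 b hb).symm⟩)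
      have hl' : e * l * e⁻¹ ∈ Kc b := Kc_norm (D.A_comm (hE heE) hbA) hl
      have e2 : i * i = (e * l * e⁻¹)⁻¹ * l := by
        calc i * i = (e * i * e⁻¹)⁻¹ * i := by rw [hei, inv_inv]
          _ = (e * r * e⁻¹ * (e * l * e⁻¹))⁻¹ * (r * l) := by rw [e1]; group
          _ = _ := by rw [D.R0_comm hr (hE heE), mul_inv_cancel_right]; group
      rw [e2]
      exact mul_mem (inv_mem hl') hl
    have hiodd := odd_orderOf (odd_mono (inf_le_left (b := Subgroup.centralizer (B : Set G))) hWo) hiO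
    have hiB : i ∈ Dl B := (Subgroup.zpowers_le.mpr hi2) (mem_zpowers_sq hiodd)
    have hiS : i * i ∈ S := by
      refine le_trans (le_iSup (fun B : {B : Subgroup G // B ≤ E ∧ Nat.card ↥B = 2 ^ 2} =>
        ⁅Dl (B : Subgroup G), E⁆) ⟨B, hBE, hBc⟩) le_sup_right ?_
      rw [show i * i = ⁅i, e⁆ by
        rw [commutatorElement_def, show i * e * i⁻¹ * e⁻¹ = i * (e * i * e⁻¹)⁻¹ by group, hei, inv_inv]]
      exact Subgroup.commutator_mem_commutator hiB heE
    rw [show y = y * i⁻¹ * i by group]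
    exact mul_mem (Subgroup.mem_sup_left hfC)
      (Subgroup.mem_sup_right ((Subgroup.zpowers_le.mpr hiS) (mem_zpowers_sq hiodd)))
  -- commutators of the closure with `A1`
  have hcomm : ∀ x ∈ D.Wcl, ∀ a ∈ D.A, x * a * x⁻¹ * a⁻¹ ∈ S := by
    intro x hx a ha
    obtain ⟨c, hc', s, hs, rfl⟩ := mem_normal_sup hCS (hgen hx)
    have h1 : c * a * c⁻¹ * a⁻¹ ∈ S := by
      refine Subgroup.mem_sup_left (mem_Dl.mpr fun e he he1 => ?_)
      obtain ⟨r, hr, l, hl, rfl⟩ := Om_split (hE he) (hW e (hE he) he1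
        ⟨hc'.1, mem_cent.mpr (Subgroup.mem_centralizer_iff.mp hc'.2 e he).symm⟩)
      have hra : r⁻¹ * a⁻¹ = a⁻¹ * r⁻¹ := by rw [← mul_inv_rev, ← mul_inv_rev, D.R0_comm hr ha]
      rw [show r * l * a * (r * l)⁻¹ * a⁻¹ = r * (l * (a * l⁻¹ * (r⁻¹ * a⁻¹))) by group, hra,
        show r * (l * (a * l⁻¹ * (a⁻¹ * r⁻¹))) = r * (l * (a * l⁻¹ * a⁻¹)) * r⁻¹ by group]
      exact Kc_norm (D.R0_comm hr (hE he)).symm (mul_mem hl (Kc_norm (D.A_comm ha (hE he)) (inv_mem hl)))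
    rw [show c * s * a * (c * s)⁻¹ * a⁻¹ = c * (s * (a * s⁻¹ * a⁻¹)) * c⁻¹ * (c * a * c⁻¹ * a⁻¹) by group]
    exact mul_mem (hCS c hc' _ (mul_mem hs (norm_conj (hSA ha) (inv_mem hs)))) h1
  refine sup_le (iSup_le fun F => ?_) (iSup_le fun B => Subgroup.commutator_le.mpr fun x hx a ha => ?_)
  · intro x hx
    have hFW : Dl (F : Subgroup G) ≤ D.Wcl := Dl_le_Wcl h hd F.2.1 (by rw [F.2.2]; norm_num)
    set O := Dl (F : Subgroup G) ⊓ S
    have hFodd : Odd (Nat.card (Dl (F : Subgroup G))) := Dl_odd (by rw [F.2.2]; norm_num)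
    obtain ⟨o, ho, hox⟩ := lift_cent (H := D.A) (O := O) (D.sub_pGroup _) (odd_mono inf_le_left hFodd)
      (fun a ha o ho => Subgroup.mem_inf.mpr ⟨norm_conj (Dl_inv F.2.1 ha) ho.1, norm_conj (hSA ha) ho.2⟩)
      (x := x) (fun a ha => Subgroup.mem_inf.mpr
        ⟨by
          rw [show x * a * x⁻¹ * a⁻¹ = x * (a * x⁻¹ * a⁻¹) by group]
          exact mul_mem hx (norm_conj (Dl_inv F.2.1 ha) (inv_mem hx)),
        hcomm x (hFW hx) a ha⟩)
    have h1 : o * x ∈ S := Subgroup.mem_sup_left (mem_Dl.mpr fun e he he1 =>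
      bal_three h hd F.2.1 F.2.2 (hE he) he1 ⟨mul_mem ho.1 hx, mem_cent.mpr (hox e (hE he))⟩)
    rw [show x = o⁻¹ * (o * x) by group]
    exact mul_mem (inv_mem ho.2) h1
  · rw [commutatorElement_def]
    exact hcomm x (Dl_le_Wcl h hd B.2.1 (by rw [B.2.2]; norm_num) hx) a ha

theorem Star_odd (h : D.Two) {d : G} (hd : D.IsD d) : Odd (Nat.card ↥D.Star) := by
  refine odd_mono (sup_le (iSup_le fun F => Dl_le_Wcl h hd F.2.1 (by rw [F.2.2]; norm_num))
    (iSup_le fun B => Subgroup.commutator_le.mpr fun x hx a ha => ?_)) (closure_spec h hd).1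
  rw [commutatorElement_def, show x * a * x⁻¹ * a⁻¹ = x * (a * x⁻¹ * a⁻¹) by group]
  have hxW := Dl_le_Wcl h hd B.2.1 (by rw [B.2.2]; norm_num) hx
  exact mul_mem hxW (norm_conj (Wcl_inv h hd ha) (inv_mem hxW))

theorem Star_conj {g : G} (hg : g ∈ Subgroup.normalizer (D.A : Set G)) :
    g ∈ Subgroup.normalizer (D.Star : Set G) := by
  refine le_norm_of_map ?_
  simp only [Star, Subgroup.map_sup, Subgroup.map_iSup, Subgroup.map_commutator]
  have hmap : ∀ {B : Subgroup G}, B ≤ D.A → B.map (MulAut.conj g).toMonoidHom ≤ D.A := by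
    rintro B hB _ ⟨e, he, rfl⟩; exact norm_conj hg (hB he)
  have hDl : ∀ B : Subgroup G,
      (Dl B).map (MulAut.conj g).toMonoidHom ≤ Dl (B.map (MulAut.conj g).toMonoidHom) := by
    rintro B _ ⟨x, hx, rfl⟩
    refine Dl_conj (fun e he => ?_) hx
    obtain ⟨y, hy, rfl⟩ := he
    simpa [mul_assoc] using hy
  refine sup_le_sup (iSup_le fun F => ?_) (iSup_le fun B => ?_)
  · exact (hDl _).trans (le_iSup (fun F : D.Hyps => Dl (F : Subgroup G))
      ⟨_, hmap F.2.1, (Subgroup.card_map_of_injective (MulAut.conj g).injective).trans F.2.2⟩)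
  · exact (Subgroup.commutator_mono (hDl _) (hmap le_rfl)).trans
      (le_iSup (fun B : D.Fours => ⁅Dl (B : Subgroup G), D.A⁆)
        ⟨_, hmap B.2.1, (Subgroup.card_map_of_injective (MulAut.conj g).injective).trans B.2.2⟩)

/-- Every odd subgroup invariant under `A1` normalises `Star`. -/
theorem odd_le_Star (h : D.Two) {d : G} (hd : D.IsD d) {R : Subgroup G} (ho : Odd (Nat.card R))
    (hR : D.A ≤ Subgroup.normalizer (R : Set G)) : R ≤ Subgroup.normalizer (D.Star : Set G) := by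
  rw [gen_index D.A_ea (fun h2 => Nat.not_even_iff_odd.mpr ho (even_iff_two_dvd.mpr h2)) hR]
  refine iSup_le fun F x hx => ?_
  obtain ⟨E, hEF, hE⟩ := exists_eight F.2.1 F.2.2
  rw [Star_eq h hd (hEF.trans F.2.1) hE]
  refine StarAt_conj (mem_norm_of fun e he => ?_)
  rw [← Subgroup.mem_centralizer_iff.mp hx.2 e (hEF he), mul_inv_cancel_right]; exact he

end Emb

end CfsgJTwo
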