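import Cfsg.Agent.Lib.JTwoType.Closure

/-!
`Star` trivial: the part `D0` of `K` centralising `v` meets the core of the centraliser of an outer involution
trivially, so the field argument makes the automiser centralise it.

Blueprint: `blueprint/S1776.md`, part C.
-/

set_option autoImplicit false
set_option linter.unusedSectionVars false
set_option maxRecDepth 100000

namespace CfsgJTwo

open Cfsg CfsgA8C CfsgLib.Signalizer
open scoped commutatorElement

universe u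

variable {G : Type u} [Group G] [Finite G] [IsSimpleGroup G] (D : Emb G)

namespace Emb

/-- The part of `K` centralising `v`. -/
def DZero : Subgroup G := D.K ⊓ Subgroup.centralizer ({D.ι W.v} : Set G)

theorem DZero_odd : Odd (Nat.card ↥D.DZero) := odd_mono inf_le_left (Kc_odd _)

variable {D}

theorem DZero_comm {x : G} (hx : x ∈ D.DZero) {a : W} (ha : W.IsW0 a) : x * D.ι a = D.ι a * x := by
  have hz : x * D.ι W.z = D.ι W.z * x := Kc_comm hx.1
  have hv : x * D.ι W.v = D.ι W.v * x := mem_cent.mp hx.2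
  rcases W.W0_list a ha with e | e | e | e <;> subst e
  · simp
  · exact hz
  · exact hv
  · rw [map_mul]
    exact (show Commute x _ from hv).mul_right (show Commute x _ from hz)

theorem DZero_conj {g x : G} (hz : g * D.ι W.z = D.ι W.z * g) (hv : g * D.ι W.v = D.ι W.v * g) (hx : x ∈ D.DZero) :
    g * x * g⁻¹ ∈ D.DZero :=
  Subgroup.mem_inf.mpr ⟨Kc_norm hz hx.1,
    mul_mem (mul_mem (mem_cent.mpr hv) hx.2) (inv_mem (mem_cent.mpr hv))⟩

theorem DZero_T {t : W} (ht : t * W.v = W.v * t) {x : G} (hx : x ∈ D.DZero) :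
    D.ι t * x * (D.ι t)⁻¹ ∈ D.DZero :=
  DZero_conj (D.comm_iff.mpr (W.z_central t).symm) (D.comm_iff.mpr ht) hx

theorem DZero_sigma {x : G} (hx : x ∈ D.DZero) : D.ι W.σ * x * (D.ι W.σ)⁻¹ ∈ D.DZero := by
  refine Subgroup.mem_inf.mpr ⟨Kc_norm (D.comm_iff.mpr (W.z_central _).symm) hx.1, mem_cent.mpr ?_⟩
  have h1 := DZero_comm hx (a := W.v * W.z) (by decide)
  calc D.ι W.σ * x * (D.ι W.σ)⁻¹ * D.ι W.v = D.ι W.σ * (x * ((D.ι W.σ)⁻¹ * D.ι W.v * D.ι W.σ)) * (D.ι W.σ)⁻¹ := by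
        group
    _ = D.ι W.σ * ((D.ι W.σ)⁻¹ * D.ι W.v * D.ι W.σ * x) * (D.ι W.σ)⁻¹ := by
        rw [← map_inv, ← map_mul, ← map_mul, show W.σ⁻¹ * W.v * W.σ = W.v * W.z by decide, h1]
    _ = _ := by group

theorem DZero_le_Kw {a : W} (ha : W.IsW0 a) (ha1 : a ≠ 1) : D.DZero ≤ Kc (D.ι a) :=
  D.le_Kw ha ha1 (fun _ hx => mem_cent.mpr (DZero_comm hx ha)) D.DZero_odd fun b hb _ hr =>
    DZero_T (W.A_comm b W.v hb (show W.IsA1 W.v by decide)) hr

section

variable (h : D.Two) {d : G} (hd : D.IsD d) (hS : D.Star = ⊥)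
include h hd hS

theorem Dl_eight {E : Subgroup G} (hE : E ≤ D.A) (hc : Nat.card E = 2 ^ 3) : Dl E = ⊥ :=
  le_bot_iff.mp (hS ▸ le_trans (le_iSup (fun F : D.Hyps => Dl (F : Subgroup G)) ⟨E, hE, hc⟩) le_sup_left)

theorem DZero_cent_A {x : G} (hx : x ∈ D.DZero) {a : G} (ha : a ∈ D.A) : x * a = a * x := by
  have h1 : x ∈ Dl (D.sub W.W0s) := mem_Dl.mpr fun e he he1 => by
    obtain ⟨w, hw, hw1, rfl⟩ := D.mem_W0 he he1
    exact DZero_le_Kw hw hw1 hx
  have h2 : ⁅x, a⁆ ∈ D.Star := le_trans (le_iSup (fun B : D.Fours => ⁅Dl (B : Subgroup G), D.A⁆)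
    ⟨D.sub W.W0s, D.W0_le_A, D.card_W0⟩) le_sup_right (Subgroup.commutator_mem_commutator h1 ha)
  rw [hS, Subgroup.mem_bot] at h2
  exact commutatorElement_eq_one_iff_mul_comm.mp h2

theorem DZero_cent_Ts {x : G} (hx : x ∈ D.DZero) {t : W} (ht : W.IsT t) : x * D.ι t = D.ι t * x := by
  obtain ⟨p, q, hp, hq, rfl⟩ := W.T_mem ht
  have hp' : x * D.ι p = D.ι p * x := DZero_cent_A h hd hS hx (D.mem_sub.mpr hp)
  have hq' : x * D.ι q = D.ι q * x := by
    have h1 := DZero_cent_A h hd hS (DZero_sigma hx) (D.mem_sub.mpr ((W.σ_A q).2 hq))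
    rw [← D.conj_map, conj_mul, conj_mul] at h1
    exact mul_left_cancel (mul_right_cancel h1)
  rw [map_mul]
  exact (show Commute x _ from hp').mul_right (show Commute x _ from hq')

/-- `D0` meets the core of the centraliser of an outer involution trivially. -/
theorem DZero_inf_Ku {u : W} (hu : W.IsA1 u) (hu0 : ¬ W.IsW0 u) {x : G} (hx : x ∈ D.DZero)
    (hxu : x ∈ Kc (D.ι u)) : x = 1 := by
  obtain ⟨n, c⟩ := exists_cyc hd hu hu0
  have hcoset : ∀ p q : W, W.IsA1 p → ¬ W.IsW0 p → W.IsA1 q → q.a = p.a → x ∈ Kc (D.ι p) → x ∈ Kc (D.ι q) := by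
    intro p q hp hp0 hq e hxp
    obtain ⟨t, ht, et⟩ := W.coset_T p q hp hp0 hq e
    have h1 := Kc_conj (g := D.ι t) hxp
    rwa [D.conj_map, et, ← DZero_cent_Ts h hd hS hx ht, mul_inv_cancel_right] at h1
  have hall : x ∈ Dl D.A := mem_Dl.mpr fun e he he1 => by
    obtain ⟨q, hq, hq1, rfl⟩ := mem_A he he1
    by_cases hq0 : W.IsW0 q
    · exact DZero_le_Kw hq0 hq1 hx
    obtain ⟨w, hw, hn⟩ := c.split h hq
    have hwA := (W.W0_le w hw).1
    have hpA : W.IsA1 (q * w) := W.A1_mul _ _ hq hwA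
    have hp1 : q * w ≠ 1 := fun e => hq0 (by
      rw [mul_eq_one_iff_eq_inv.mp e, inv_eq_of_mul_eq_one_right (W.A1_sq w hwA)]; exact hw)
    have cp := c.of_plane h hpA hp1 hn
    refine hcoset _ _ hpA cp.out hq ?_ (cp.bal_plane h hu (fun e => hu0 (e ▸ W.W0_one)) c.cu
      ⟨hxu, mem_cent.mpr (DZero_cent_A h hd hS hx (D.mem_sub.mpr hpA))⟩)
    rw [W.A1_sum q w hq hwA, (W.A1_zero w hwA).mpr hw, add_zero]
  obtain ⟨E, hE, hEc⟩ := exists_eight (le_refl D.A) (by rw [Subgroup.relIndex_self]; norm_num)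
  have := Dl_anti hE hall
  rwa [Dl_eight h hd hS hE hEc, Subgroup.mem_bot] at this

end

end Emb

end CfsgJTwo
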