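import Cfsg.Agent.Lib.JTwoType.Shape

/-!
Two groups with central involution and the same Sylow 2-subgroup as in part B are isomorphic.

Blueprint: `blueprint/S1776.md`.
-/

set_option autoImplicit false
set_option linter.unusedSectionVars false

namespace CfsgJTwo

open Cfsg CfsgA8C Equiv

universe u v

variable {X : Type u} [Group X] [Finite X] {Y : Type v} [Group Y] [Finite Y]

namespace Ctx

theorem conj_Q (D : Ctx X) (x : X) {q : W} (hq : W.IsQ q) : ∃ q', W.IsQ q' ∧ x * D.ι q * x⁻¹ = D.ι q' := by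
  obtain ⟨q', hq', e⟩ := D.Q_normal.conj_mem (D.ι q) (D.mem_sub.mpr hq) x
  exact ⟨q', hq', e.symm⟩

theorem index_T_odd (D : Ctx X) : Odd (D.T : Subgroup X).index := by
  have := Fact.mk Nat.prime_two
  rw [Nat.odd_iff, ← Nat.two_dvd_ne_zero]
  exact D.T.not_dvd_index

variable (D : Ctx X) (E : Ctx Y)

/-- Pairs of elements inducing the same automorphism of the extraspecial subgroup. -/
def Pair : Subgroup (X × Y) where
  carrier := {p | ∀ q, W.IsQ q → ∃ q', W.IsQ q' ∧ p.1 * D.ι q * p.1⁻¹ = D.ι q' ∧ p.2 * E.ι q * p.2⁻¹ = E.ι q'}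
  one_mem' := fun q hq => ⟨q, hq, by simp, by simp⟩
  mul_mem' := by
    intro a b ha hb q hq
    obtain ⟨q₁, hq₁, e1, e1'⟩ := hb q hq
    obtain ⟨q₂, hq₂, e2, e2'⟩ := ha q₁ hq₁
    refine ⟨q₂, hq₂, ?_, ?_⟩
    · rw [← e2, ← e1]; simp [mul_assoc]
    · rw [← e2', ← e1']; simp [mul_assoc]
  inv_mem' := by
    intro a ha q hq
    obtain ⟨q₀, hq₀, e0⟩ := D.conj_Q a.1⁻¹ hq
    obtain ⟨q₁, hq₁, e1, e1'⟩ := ha q₀ hq₀
    have h : q₁ = q := D.inj (by rw [← e1, ← e0]; group)
    subst h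
    refine ⟨q₀, hq₀, e0, ?_⟩
    rw [← e1']
    simp [mul_assoc]

theorem mem_Pair {p : X × Y} : p ∈ D.Pair E ↔
    ∀ q, W.IsQ q → ∃ q', W.IsQ q' ∧ p.1 * D.ι q * p.1⁻¹ = D.ι q' ∧ p.2 * E.ι q * p.2⁻¹ = E.ι q' := Iff.rfl

theorem diag_mem (w : W) : ((D.ι w, E.ι w) : X × Y) ∈ D.Pair E := fun q hq =>
  ⟨w * q * w⁻¹, W.Q_normal w q hq, D.conj_map w q, E.conj_map w q⟩

theorem exists_perm (x : X) : ∃ y : Y, E.permX y = D.permX x := by
  have h : D.permX x ∈ E.permX.range := by
    rw [E.permX_range, ← D.permX_range]; exact ⟨x, rfl⟩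
  exact h

theorem pt_perm (x : X) (i : Fin 5) :
    x * D.ι (W.pt i) * x⁻¹ = D.ι (W.pt (D.permX x i)) ∨ x * D.ι (W.pt i) * x⁻¹ = D.ι (W.pt (D.permX x i) * W.z) := by
  have h := D.perm_spec ⟨D.π x, D.mem_N _⟩ i
  rw [map_mul D.ι]
  refine D.π_eq.mp ?_
  rw [map_mul, map_mul, map_inv]
  exact h

/-- Every element is the first component of a pair. -/
theorem exists_pair (x : X) : ∃ y : Y, (x, y) ∈ D.Pair E := by
  classical
  obtain ⟨y, hy⟩ := D.exists_perm E x
  choose a ha hae using fun i : Fin 5 => D.conj_Q x (W.pt_mem i).1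
  choose b hb hbe using fun i : Fin 5 => E.conj_Q y (W.pt_mem i).1
  have hab : ∀ i, a i = b i ∨ a i = b i * W.z := fun i => by
    have h1 : a i = W.pt (D.permX x i) ∨ a i = W.pt (D.permX x i) * W.z := by
      rcases D.pt_perm x i with h | h
      · left; exact D.inj ((hae i).symm.trans h)
      · right; exact D.inj ((hae i).symm.trans h)
    have h2 : b i = W.pt (D.permX x i) ∨ b i = W.pt (D.permX x i) * W.z := by
      rw [← hy]
      rcases E.pt_perm y i with h | h
      · left; exact E.inj ((hbe i).symm.trans h)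
      · right; exact E.inj ((hbe i).symm.trans h)
    rcases h1 with h1 | h1 <;> rcases h2 with h2 | h2 <;> rw [h1, h2]
    · exact Or.inl rfl
    · right; rw [mul_assoc, W.z_sq, mul_one]
    · exact Or.inr rfl
    · exact Or.inl rfl
  obtain ⟨r, hr, e0, e1, e2, e3⟩ :=
    W.Q_auto (decide (a 0 ≠ b 0)) (decide (a 1 ≠ b 1)) (decide (a 2 ≠ b 2)) (decide (a 3 ≠ b 3))
  refine ⟨y * E.ι r, ?_⟩
  have key : ∀ i, r * W.pt i * r⁻¹ = cond (decide (a i ≠ b i)) (W.pt i * W.z) (W.pt i) →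
      y * E.ι r * E.ι (W.pt i) * (y * E.ι r)⁻¹ = E.ι (a i) := by
    intro i h
    rw [show y * E.ι r * E.ι (W.pt i) * (y * E.ι r)⁻¹ = y * (E.ι r * E.ι (W.pt i) * (E.ι r)⁻¹) * y⁻¹ by group,
      E.conj_map, h]
    by_cases hi : a i = b i
    · simp only [hi, ne_eq, not_true, decide_false, cond_false]
      exact hbe i
    · simp only [ne_eq, hi, not_false_eq_true, decide_true, cond_true]
      rw [map_mul, ← conj_mul, hbe i, E.conj_z, (hab i).resolve_left hi, map_mul]
  intro q hq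
  obtain ⟨b₀, b₁, b₂, b₃, b₄, rfl⟩ := W.Q_word q hq
  refine ⟨cond b₀ (a 0) 1 * cond b₁ (a 1) 1 * cond b₂ (a 2) 1 * cond b₃ (a 3) 1 * cond b₄ W.z 1, ?_, ?_, ?_⟩
  · refine W.Q_mul _ _ (W.Q_mul _ _ (W.Q_mul _ _ (W.Q_mul _ _ ?_ ?_) ?_) ?_) ?_
    · cases b₀; exacts [W.Q_one, ha 0]
    · cases b₁; exacts [W.Q_one, ha 1]
    · cases b₂; exacts [W.Q_one, ha 2]
    · cases b₃; exacts [W.Q_one, ha 3]
    · cases b₄; exacts [W.Q_one, W.z_Q]
  · simp only [map_mul, ← conj_mul]
    cases b₀ <;> cases b₁ <;> cases b₂ <;> cases b₃ <;> cases b₄ <;>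
      simp only [cond_true, cond_false, map_one, mul_one, mul_inv_cancel, hae, D.conj_z]
  · simp only [map_mul, ← conj_mul]
    cases b₀ <;> cases b₁ <;> cases b₂ <;> cases b₃ <;> cases b₄ <;>
      simp only [cond_true, cond_false, map_one, mul_one, mul_inv_cancel, key 0 e0, key 1 e1, key 2 e2, key 3 e3,
        E.conj_z]

theorem pair_swap {x : X} {y : Y} (h : (y, x) ∈ E.Pair D) : (x, y) ∈ D.Pair E := fun q hq => by
  obtain ⟨q', hq', e1, e2⟩ := h q hq
  exact ⟨q', hq', e2, e1⟩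

/-- Two first components of one second component differ at most by `z`. -/
theorem pair_kernel {y : Y} (h : ((1 : X), y) ∈ D.Pair E) : y = 1 ∨ y = E.ι W.z := by
  have hc : y ∈ Subgroup.centralizer (E.sub W.Qs : Set Y) := by
    refine Subgroup.mem_centralizer_iff.mpr ?_
    rintro _ ⟨q, hq, rfl⟩
    obtain ⟨q', -, e1, e2⟩ := h q hq
    rw [one_mul, inv_one, mul_one] at e1
    rw [show q' = q from (D.inj e1).symm, mul_inv_eq_iff_eq_mul] at e2
    exact e2.symm
  obtain ⟨w, hw, rfl⟩ := E.cent_Q_le hc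
  rcases W.Q_cent_one w (fun q hq => E.comm_iff.mp (Subgroup.mem_centralizer_iff.mp hc _ (E.mem_sub.mpr hq)).symm)
    with e | e
  · left; rw [e, map_one]
  · right; rw [e]

/-- The first projection. -/
def fst : D.Pair E →* X := (MonoidHom.fst X Y).comp (D.Pair E).subtype

/-- The second projection. -/
def snd : D.Pair E →* Y := (MonoidHom.snd X Y).comp (D.Pair E).subtype

theorem fst_apply (p : D.Pair E) : D.fst E p = (p : X × Y).1 := rfl

theorem snd_apply (p : D.Pair E) : D.snd E p = (p : X × Y).2 := rfl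

theorem fst_surj : Function.Surjective (D.fst E) := fun x => by
  obtain ⟨y, hy⟩ := D.exists_pair E x
  exact ⟨⟨(x, y), hy⟩, rfl⟩

/-- The two groups are isomorphic. -/
theorem nonempty_iso (D : Ctx X) (E : Ctx Y) : Nonempty (X ≃* Y) := by
  classical
  set TP := (D.T : Subgroup X).comap (D.fst E) with hTP
  have hdiag : ∀ w, ((D.ι w, E.ι w) : X × Y) ∈ D.Pair E := D.diag_mem E
  -- the sign of an element over the Sylow subgroup
  have hδ : ∀ p : TP, ∃ w : W, ((p : D.Pair E) : X × Y).1 = D.ι w ∧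
      (((p : D.Pair E) : X × Y).2 = E.ι w ∨ ((p : D.Pair E) : X × Y).2 = E.ι w * E.ι W.z) := by
    intro p
    obtain ⟨w, hw⟩ := D.exists_pre p.2
    refine ⟨w, hw.symm, ?_⟩
    have h := mul_mem (inv_mem (hdiag w)) (p : D.Pair E).2
    have h' : ((1 : X), (E.ι w)⁻¹ * ((p : D.Pair E) : X × Y).2) ∈ D.Pair E := by
      have e : ((D.ι w, E.ι w) : X × Y)⁻¹ * ((p : D.Pair E) : X × Y) =
          ((1 : X), (E.ι w)⁻¹ * ((p : D.Pair E) : X × Y).2) := by
        refine Prod.ext ?_ rfl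
        show (D.ι w)⁻¹ * D.fst E p = 1
        rw [hw, inv_mul_cancel]
      exact e ▸ h
    rcases D.pair_kernel E h' with e | e
    · left; exact (inv_mul_eq_one.mp e).symm
    · right; rw [← e, mul_inv_cancel_left]
  choose wf hw1 hw2 using hδ
  have hz1 : E.ι W.z ≠ 1 := E.ne_one W.z_ne
  let ψ : TP →* ℤˣ :=
    { toFun := fun p => if ((p : D.Pair E) : X × Y).2 = E.ι (wf p) then 1 else -1
      map_one' := by
        refine if_pos ?_
        have h1 : wf 1 = 1 := D.inj (by rw [← hw1 1, map_one]; rfl)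
        rw [h1, map_one]; rfl
      map_mul' := fun p q => by
        have hm : wf (p * q) = wf p * wf q := D.inj (by rw [map_mul, ← hw1, ← hw1, ← hw1]; rfl)
        have e2 : (((p * q : TP) : D.Pair E) : X × Y).2 = ((p : D.Pair E) : X × Y).2 * ((q : D.Pair E) : X × Y).2 :=
          rfl
        have hcomb : ∀ a b : Y, a * E.ι W.z * b = a * b * E.ι W.z := fun a b => by
          rw [mul_assoc, ← E.zc b, mul_assoc]
        have hne : ∀ (w : W) {y : Y}, y = E.ι w * E.ι W.z → y ≠ E.ι w := fun w y hy h =>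
          hz1 (mul_eq_left.mp (hy.symm.trans h))
        rcases hw2 p with hp | hp <;> rcases hw2 q with hq | hq
        · rw [if_pos (by rw [e2, hm, hp, hq, map_mul]), if_pos hp, if_pos hq, one_mul]
        · rw [if_neg (hne _ (by rw [e2, hm, hp, hq, map_mul, mul_assoc])), if_pos hp, if_neg (hne _ hq), one_mul]
        · rw [if_neg (hne _ (by rw [e2, hm, hp, hq, map_mul, hcomb])), if_neg (hne _ hp), if_pos hq, mul_one]
        · rw [if_pos (by rw [e2, hm, hp, hq, map_mul, hcomb, ← mul_assoc, mul_assoc, E.z_mul_z, mul_one]),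
            if_neg (hne _ hp), if_neg (hne _ hq)]
          decide }
  haveI : TP.FiniteIndex := Subgroup.finiteIndex_of_finite
  set χ := MonoidHom.transfer ψ with hχ
  set k : D.Pair E := ⟨((1 : X), E.ι W.z), fun q hq => ⟨q, hq, by simp, by
    show E.ι W.z * E.ι q * (E.ι W.z)⁻¹ = E.ι q
    rw [← E.zc, mul_inv_cancel_right]⟩⟩ with hk
  set zz : D.Pair E := ⟨(D.ι W.z, E.ι W.z), hdiag W.z⟩ with hzz
  have hodd : Odd TP.index := by
    rw [hTP, Subgroup.index_comap_of_surjective _ (D.fst_surj E)]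
    exact D.index_T_odd
  have hcent : ∀ c : D.Pair E, (∀ g, g * c = c * g) → c * c = 1 → (hc : c ∈ TP) → χ c = ψ ⟨c, hc⟩ := by
    intro c hc hcc hcT
    have hconj : ∀ (m : ℕ) (g₀ : D.Pair E), g₀⁻¹ * c ^ m * g₀ ∈ TP → g₀⁻¹ * c ^ m * g₀ = c ^ m := fun m g₀ _ => by
      rw [mul_assoc, ← (show Commute g₀ c from hc g₀).pow_right m, inv_mul_cancel_left]
    rw [hχ, MonoidHom.transfer_eq_pow ψ c hconj]
    congr 1
    exact Subtype.ext (invol_pow hcc _ hodd)
  have hkc : ∀ g, g * k = k * g := fun g => Subtype.ext (Prod.ext (by simp [hk]) (E.zc _))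
  have hzzc : ∀ g, g * zz = zz * g := fun g => Subtype.ext (Prod.ext (D.zc _) (E.zc _))
  have hkT : k ∈ TP := (one_mem (D.T : Subgroup X) : (1 : X) ∈ _)
  have hzzT : zz ∈ TP := D.mem_T W.z
  have hk2 : k * k = 1 := Subtype.ext (Prod.ext (mul_one _) E.z_mul_z)
  have hχk : χ k = -1 := by
    rw [hcent k hkc hk2 hkT]
    refine if_neg ?_
    have h1 : wf ⟨k, hkT⟩ = 1 := D.inj (by rw [← hw1, map_one])
    rw [h1, map_one]
    exact hz1
  have hχz : χ zz = 1 := by
    rw [hcent zz hzzc (Subtype.ext (Prod.ext D.z_mul_z E.z_mul_z)) hzzT]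
    refine if_pos ?_
    have h1 : wf ⟨zz, hzzT⟩ = W.z := D.inj (by rw [← hw1])
    rw [h1]
  set k' : D.Pair E := zz * k with hk'
  have hχk' : χ k' = -1 := by rw [hk', map_mul, hχz, hχk, one_mul]
  have hk'1 : (k' : X × Y).2 = 1 := E.z_mul_z
  set p₁ : χ.ker →* X := (D.fst E).comp χ.ker.subtype with hp₁
  set p₂ : χ.ker →* Y := (D.snd E).comp χ.ker.subtype with hp₂
  have hfix : ∀ (c p : D.Pair E), χ c = -1 → ∃ j : D.Pair E, (j = p ∨ j = c * p) ∧ χ j = 1 := by
    intro c p hc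
    rcases Int.units_eq_one_or (χ p) with h | h
    · exact ⟨p, Or.inl rfl, h⟩
    · exact ⟨c * p, Or.inr rfl, by rw [map_mul, hc, h]; rfl⟩
  have b₁ : Function.Bijective p₁ := by
    refine ⟨(injective_iff_map_eq_one p₁).mpr fun a ha => ?_, fun x => ?_⟩
    · have ha' : ((a : D.Pair E) : X × Y).1 = 1 := ha
      rcases D.pair_kernel E (y := ((a : D.Pair E) : X × Y).2) (ha' ▸ (a : D.Pair E).2) with e | e
      · exact Subtype.ext (Subtype.ext (Prod.ext ha' e))
      · exfalso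
        have hak : (a : D.Pair E) = k := Subtype.ext (Prod.ext ha' e)
        have := a.2
        rw [MonoidHom.mem_ker, hak, hχk] at this
        exact absurd this (by decide)
    · obtain ⟨p, hp⟩ := D.fst_surj E x
      obtain ⟨j, hj, hjχ⟩ := hfix k p hχk
      refine ⟨⟨j, hjχ⟩, ?_⟩
      rcases hj with rfl | rfl
      · exact hp
      · show D.fst E (k * p) = x
        rw [map_mul, hp]
        exact one_mul x
  have b₂ : Function.Bijective p₂ := by
    refine ⟨(injective_iff_map_eq_one p₂).mpr fun a ha => ?_, fun y => ?_⟩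
    · have ha' : ((a : D.Pair E) : X × Y).2 = 1 := ha
      have hp : (((1 : Y)), ((a : D.Pair E) : X × Y).1) ∈ E.Pair D :=
        E.pair_swap D (ha' ▸ (a : D.Pair E).2)
      rcases E.pair_kernel D hp with e | e
      · exact Subtype.ext (Subtype.ext (Prod.ext e ha'))
      · exfalso
        have hak : (a : D.Pair E) = k' := Subtype.ext (Prod.ext (e.trans (mul_one _).symm) (ha'.trans hk'1.symm))
        have := a.2
        rw [MonoidHom.mem_ker, hak, hχk'] at this
        exact absurd this (by decide)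
    · obtain ⟨x, hx⟩ := E.exists_pair D y
      obtain ⟨j, hj, hjχ⟩ := hfix k' ⟨(x, y), D.pair_swap E hx⟩ hχk'
      refine ⟨⟨j, hjχ⟩, ?_⟩
      rcases hj with rfl | rfl
      · rfl
      · show (k' : X × Y).2 * y = y
        rw [hk'1, one_mul]
  exact ⟨(MulEquiv.ofBijective p₁ b₁).symm.trans (MulEquiv.ofBijective p₂ b₂)⟩

end Ctx

end CfsgJTwo
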