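import Cfsg.Agent.Lib.JTwoType.Shape
import Cfsg.Agent.Lib.JTwoType.OddLift

/-!
In the extension of the extraspecial group by the alternating group: no odd subgroup is normalised by a four-group of
the point stabiliser, and the stabiliser of the point of `v`.

Blueprint: `blueprint/S1776.md`, part C.
-/

set_option autoImplicit false
set_option linter.unusedSectionVars false
set_option maxRecDepth 100000
set_option synthInstance.maxSize 4000
set_option synthInstance.maxHeartbeats 400000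

namespace CfsgJTwo

open Cfsg CfsgA8C Equiv

universe u

/-- The three double transpositions fixing the first point. -/
def dbl : List (Perm (Fin 5)) := [swap 1 2 * swap 3 4, swap 1 3 * swap 2 4, swap 1 4 * swap 2 3]

theorem dbl_of : ∀ h : Perm (Fin 5), Perm.sign h = 1 → h * h = 1 → h 0 = 0 → h ≠ 1 → h ∈ dbl := by
  decide +kernel

theorem odd_word : ∀ r : Perm (Fin 5), Perm.sign r = 1 → r ^ 15 = 1 → r ≠ 1 → ∀ h₁ ∈ dbl, ∀ h₂ ∈ dbl, h₁ ≠ h₂ →
    ∃ h ∈ [h₁, h₂], ∃ w ∈ [r * r * (h * r * h⁻¹), r * r * (h * r * h⁻¹)⁻¹,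
      r * (h * r * h⁻¹) * r * (h * r * h⁻¹)⁻¹], w ≠ 1 ∧ w * w = 1 := by
  decide +kernel

theorem perm5_exp : ∀ r : Perm (Fin 5), Perm.sign r = 1 → r ^ 30 = 1 := by decide +kernel

theorem stab_split : ∀ τ : Perm (Fin 5), Perm.sign τ = 1 → τ 0 = 0 → τ ∉ dbl → τ ≠ 1 → ∀ p : Perm (Fin 5),
    Perm.sign p = 1 → p 0 = 0 → ∃ h ∈ (1 : Perm (Fin 5)) :: dbl, ∃ i : Fin 3, p = h * τ ^ (i : ℕ) := by
  decide +kernel

theorem fix_sq_dbl : ∀ h : Perm (Fin 5), Perm.sign h = 1 → h 0 = 0 → h * h = 1 → h = 1 ∨ h ∈ dbl := by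
  decide +kernel

namespace W

theorem not_Q_of_sq {y : W} (h1 : y * y ≠ 1) (hz : y * y ≠ z) : ¬ IsQ y := fun h =>
  (Q_sq y h).elim h1 hz

theorem A1_not_Q : ∀ y : W, IsA1 y → ¬ IsW0 y → ¬ IsQ y := by decide +kernel
theorem A2_not_Q : ∀ y : W, IsA2 y → ¬ IsW0 y → ¬ IsQ y := by decide +kernel
theorem T_mem_Q : ∀ y : W, IsT y → IsQ y → ∀ x : W, IsV x → y * x = x * y := by decide +kernel

/-- The representatives outside the centre used for the four-group of the stabiliser. -/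
def u₁ : W := ⟨.e, 0, 0, false⟩
def u₂ : W := ⟨.w, 0, 0, false⟩

theorem u_facts : IsA1 u₁ ∧ IsA1 u₂ ∧ IsOut u₁ ∧ IsOut u₂ ∧ ¬ IsQ u₁ ∧ ¬ IsQ u₂ ∧ ¬ IsQ (u₁ * u₂) := by decide

end W

namespace Ctx

variable {X : Type u} [Group X] [Finite X] (D : Ctx X)

theorem sign_permX (x : X) : Perm.sign (D.permX x) = 1 := by
  have h : D.permX x ∈ alternatingGroup (Fin 5) := D.permX_range ▸ ⟨x, rfl⟩
  exact Perm.mem_alternatingGroup.mp h

theorem permX_spec (x : X) (i : Fin 5) : D.π x * D.P i * (D.π x)⁻¹ = D.P (D.permX x i) :=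
  D.perm_spec ⟨D.π x, D.mem_N _⟩ i

theorem permX_fix {x : X} (h : x * D.ι W.v = D.ι W.v * x) : D.permX x 0 = 0 := by
  refine D.P_inj ?_
  rw [← D.permX_spec, P, show W.pt 0 = W.v from rfl, ← map_inv, ← map_mul, ← map_mul, h, mul_inv_cancel_right]

theorem permX_T {w : W} (hw : W.IsT w) : D.permX (D.ι w) 0 = 0 :=
  D.permX_fix (D.comm_iff.mpr ((W.cent_v W.v w (Or.inl rfl)).mpr hw))

theorem permX_eq_one_iff {x : X} : D.permX x = 1 ↔ x ∈ D.sub W.Qs := by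
  rw [← MonoidHom.mem_ker, D.permX_ker]

theorem permX_ne {w : W} (hw : ¬ W.IsQ w) : D.permX (D.ι w) ≠ 1 := fun h =>
  hw (D.mem_sub.mp (D.permX_eq_one_iff.mp h))

theorem permX_sq {w : W} (hw : W.IsT w) : D.permX (D.ι w) * D.permX (D.ι w) = 1 := by
  rw [← map_mul, ← map_mul, D.permX_eq_one_iff]
  refine D.mem_sub.mpr ?_
  have h := W.T_sq w hw
  exact (show ∀ y : W, W.IsW0 y → W.IsQ y by decide +kernel) _ h

theorem permX_dbl {w : W} (hw : W.IsT w) (hwQ : ¬ W.IsQ w) : D.permX (D.ι w) ∈ dbl :=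
  dbl_of _ (D.sign_permX _) (D.permX_sq hw) (D.permX_T hw) (D.permX_ne hwQ)

/-- No odd subgroup is normalised by a four-group of the point stabiliser. -/
theorem odd_bot {R : Subgroup X} (hR : Odd (Nat.card R)) {y₁ y₂ : W} (h1 : W.IsT y₁) (h2 : W.IsT y₂)
    (hq1 : ¬ W.IsQ y₁) (hq2 : ¬ W.IsQ y₂) (hq3 : ¬ W.IsQ (y₁ * y₂))
    (hn1 : ∀ r ∈ R, D.ι y₁ * r * (D.ι y₁)⁻¹ ∈ R) (hn2 : ∀ r ∈ R, D.ι y₂ * r * (D.ι y₂)⁻¹ ∈ R) : R = ⊥ := by
  rw [eq_bot_iff]
  intro x hx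
  rw [Subgroup.mem_bot]
  have hx1 : D.permX x = 1 := by
    by_contra hne
    have hne' : D.permX (D.ι y₁) ≠ D.permX (D.ι y₂) := fun e => D.permX_ne hq3 (by
      rw [map_mul, map_mul, ← e]
      exact D.permX_sq h1)
    have h15 : D.permX x ^ 15 = 1 := by
      have h30 := orderOf_dvd_of_pow_eq_one (perm5_exp _ (D.sign_permX x))
      have ho : Odd (orderOf (D.permX x)) := (odd_orderOf hR hx).of_dvd_nat (orderOf_map_dvd _ x)
      refine orderOf_dvd_iff_pow_eq_one.mp ?_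
      rw [show (30 : ℕ) = 15 * 2 by norm_num] at h30
      exact (Nat.coprime_two_right.mpr ho).dvd_of_dvd_mul_right h30
    obtain ⟨h, hh, w, hw, hw1, hw2⟩ := odd_word _ (D.sign_permX x) h15 hne _ (D.permX_dbl h1 hq1) _
      (D.permX_dbl h2 hq2) hne'
    obtain ⟨s, hs, hsR⟩ : ∃ s : X, D.permX s = h * D.permX x * h⁻¹ ∧ s ∈ R := by
      simp only [List.mem_cons, List.not_mem_nil, or_false] at hh
      rcases hh with rfl | rfl
      · exact ⟨_, by simp, hn1 x hx⟩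
      · exact ⟨_, by simp, hn2 x hx⟩
    obtain ⟨r, hr, hrR⟩ : ∃ r : X, D.permX r = w ∧ r ∈ R := by
      rw [← hs] at hw
      simp only [List.mem_cons, List.not_mem_nil, or_false] at hw
      rcases hw with rfl | rfl | rfl
      · exact ⟨x * x * s, by simp, mul_mem (mul_mem hx hx) hsR⟩
      · exact ⟨x * x * s⁻¹, by simp, mul_mem (mul_mem hx hx) (inv_mem hsR)⟩
      · exact ⟨x * s * x * s⁻¹, by simp, mul_mem (mul_mem (mul_mem hx hsR) hx) (inv_mem hsR)⟩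
    exact hw1 (eq_one_of_odd_sq hw2 (hr ▸ (odd_orderOf hR hrR).of_dvd_nat (orderOf_map_dvd _ r)))
  exact eq_one_of_two_odd (D.sub_pGroup _) hR (D.permX_eq_one_iff.mp hx1) hx

theorem odd_bot_A1 {R : Subgroup X} (hR : Odd (Nat.card R))
    (hn : ∀ a, W.IsA1 a → ∀ r ∈ R, D.ι a * r * (D.ι a)⁻¹ ∈ R) : R = ⊥ :=
  D.odd_bot hR W.u_facts.1.1 W.u_facts.2.1.1 W.u_facts.2.2.2.2.1 W.u_facts.2.2.2.2.2.1 W.u_facts.2.2.2.2.2.2
    (hn _ W.u_facts.1) (hn _ W.u_facts.2.1)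

/-- An element commuting with `v` normalises the unitriangular part. -/
theorem C0_le_norm : D.C0 ≤ Subgroup.normalizer (D.sub W.Ts : Set X) := by
  intro x hx
  obtain ⟨n, hn, o, ho, rfl⟩ := D.ctl_C0 x hx
  have hc : core D.C0 = ⊥ := D.odd_bot_A1 (core_odd _) fun a ha r hr =>
    core_conj_mem (D.Ts_le_C0 (D.mem_sub.mpr ha.1)) hr
  rw [hc, Subgroup.mem_bot] at ho
  rwa [ho, mul_one]

/-- A lift of an element of the stabiliser of the point of `v`: a translate of a Sylow element. -/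
theorem exists_T {p : Perm (Fin 5)} (hp : p ∈ (1 : Perm (Fin 5)) :: dbl) :
    ∃ t : W, W.IsT t ∧ D.permX (D.ι t) = p := by
  rcases List.mem_cons.mp hp with rfl | hp
  · exact ⟨1, W.T_one, by simp⟩
  · obtain ⟨h1, h2, -, -, q1, q2, q3⟩ := W.u_facts
    have a1 := D.permX_dbl h1.1 q1
    have a2 := D.permX_dbl h2.1 q2
    have a3 := D.permX_dbl (W.T_mul _ _ h1.1 h2.1) q3
    have a12 : D.permX (D.ι W.u₁) ≠ D.permX (D.ι W.u₂) := fun e => D.permX_ne q3 (by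
      rw [map_mul, map_mul, ← e]
      exact D.permX_sq h1.1)
    have a13 : D.permX (D.ι W.u₁) ≠ D.permX (D.ι (W.u₁ * W.u₂)) := fun e => D.permX_ne q2 (by
      rw [map_mul, map_mul] at e
      exact left_eq_mul.mp e)
    have a23 : D.permX (D.ι W.u₂) ≠ D.permX (D.ι (W.u₁ * W.u₂)) := fun e => D.permX_ne q1 (by
      rw [map_mul, map_mul] at e
      exact right_eq_mul.mp e)
    rcases (show ∀ a ∈ dbl, ∀ b ∈ dbl, ∀ c ∈ dbl, a ≠ b → a ≠ c → b ≠ c → ∀ q ∈ dbl, q = a ∨ q = b ∨ q = c by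
      decide +kernel) _ a1 _ a2 _ a3 a12 a13 a23 p hp with e | e | e
    · exact ⟨_, h1.1, e.symm⟩
    · exact ⟨_, h2.1, e.symm⟩
    · exact ⟨_, W.T_mul _ _ h1.1 h2.1, e.symm⟩

theorem mem_T_of_perm {x : X} (h : D.permX x ∈ (1 : Perm (Fin 5)) :: dbl) : x ∈ (D.T : Subgroup X) := by
  obtain ⟨t, -, ht⟩ := D.exists_T h
  have hQ : (D.ι t)⁻¹ * x ∈ D.sub W.Qs := D.permX_eq_one_iff.mp (by rw [map_mul, map_inv, ht, inv_mul_cancel])
  rw [show x = D.ι t * ((D.ι t)⁻¹ * x) by group]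
  exact mul_mem (D.mem_T t) (D.sub_le _ hQ)

theorem T_perm {x : X} (hx : x ∈ (D.T : Subgroup X)) (h0 : D.permX x 0 = 0) :
    D.permX x ∈ (1 : Perm (Fin 5)) :: dbl := by
  obtain ⟨w, rfl⟩ := D.exists_pre hx
  have hsq : D.permX (D.ι w) * D.permX (D.ι w) = 1 := by
    by_cases hw : W.IsT w
    · exact D.permX_sq hw
    · have hw' : W.IsT (W.σ * w) := (show ∀ y : W, ¬ W.IsT y → W.IsT (W.σ * y) by decide +kernel) w hw
      have e : D.permX (D.ι w) = D.permX (D.ι (W.σ * w)) := by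
        rw [map_mul, map_mul, D.permX_eq_one_iff.mpr (D.mem_sub.mpr W.σ_Q), one_mul]
      rw [e]
      exact D.permX_sq hw'
  rcases fix_sq_dbl _ (D.sign_permX _) h0 hsq with e | e
  · rw [e]; exact List.mem_cons_self
  · exact List.mem_cons_of_mem _ e

theorem T_fix {x : X} (hx : x ∈ (D.T : Subgroup X)) : D.permX x 0 = 0 := by
  obtain ⟨w, rfl⟩ := D.exists_pre hx
  by_cases hw : W.IsT w
  · exact D.permX_T hw
  · rw [show D.ι w = D.ι W.σ * D.ι (W.σ * w) by rw [← map_mul, ← mul_assoc, W.σ_sq, one_mul], map_mul,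
      D.permX_eq_one_iff.mpr (D.mem_sub.mpr W.σ_Q), one_mul]
    exact D.permX_T ((show ∀ y : W, ¬ W.IsT y → W.IsT (W.σ * y) by decide +kernel) w hw)

/-- An element of odd order fixing `v`, normalising the Sylow subgroup, generating the stabiliser with it. -/
theorem exists_d : ∃ g : X, Odd (orderOf g) ∧ g * D.ι W.v = D.ι W.v * g ∧
    g ∈ Subgroup.normalizer ((D.T : Subgroup X) : Set X) ∧ D.permX g ∉ (1 : Perm (Fin 5)) :: dbl ∧
    ∀ x : X, D.permX x 0 = 0 → x ∈ (D.T : Subgroup X) ⊔ Subgroup.zpowers g := by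
  obtain ⟨g, ho, hv, -, q, hq, -, hgq⟩ := D.exists_three
  have hne : D.permX g ∉ (1 : Perm (Fin 5)) :: dbl := by
    intro h
    have hT := D.mem_T_of_perm h
    have := eq_one_of_two_odd (O := Subgroup.zpowers g) D.T.2 (by rw [Nat.card_zpowers]; exact ho) hT
      (Subgroup.mem_zpowers g)
    exact hgq (by rw [this]; simp)
  have hn : g ∈ Subgroup.normalizer ((D.T : Subgroup X) : Set X) := mem_norm_of fun t ht => by
    refine D.mem_T_of_perm ?_
    have h1 := D.T_perm ht (D.T_fix ht)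
    rw [map_mul, map_mul, map_inv]
    rcases fix_sq_dbl (D.permX g * D.permX t * (D.permX g)⁻¹)
      (by rw [map_mul, map_mul, map_inv, D.sign_permX, D.sign_permX]; rfl)
      (by
        have h0 := D.permX_fix hv
        have h0' : (D.permX g)⁻¹ 0 = 0 := by rw [Perm.inv_eq_iff_eq, h0]
        simp [Perm.mul_apply, h0, h0', D.T_fix ht])
      (by
        have h2 : D.permX t * D.permX t = 1 :=
          (show ∀ p ∈ (1 : Perm (Fin 5)) :: dbl, p * p = 1 by decide +kernel) _ h1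
        rw [conj_mul, h2, mul_one, mul_inv_cancel]) with e | e
    · rw [e]; exact List.mem_cons_self
    · exact List.mem_cons_of_mem _ e
  refine ⟨g, ho, hv, hn, hne, fun x hx => ?_⟩
  simp only [List.mem_cons, not_or] at hne
  obtain ⟨h, hh, i, hi⟩ := stab_split _ (D.sign_permX g) (D.permX_fix hv) hne.2 hne.1 _ (D.sign_permX x) hx
  obtain ⟨t, -, ht⟩ := D.exists_T hh
  have hQ : (D.ι t * g ^ (i : ℕ))⁻¹ * x ∈ D.sub W.Qs := D.permX_eq_one_iff.mp (by
    rw [map_mul, map_inv, map_mul, map_pow, ht, ← hi, inv_mul_cancel])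
  rw [show x = D.ι t * g ^ (i : ℕ) * ((D.ι t * g ^ (i : ℕ))⁻¹ * x) by group]
  exact mul_mem (mul_mem (Subgroup.mem_sup_left (D.mem_T t))
    (Subgroup.mem_sup_right (pow_mem (Subgroup.mem_zpowers g) _))) (Subgroup.mem_sup_left (D.sub_le _ hQ))

/-- The stabiliser of a point and an element moving it generate. -/
theorem top_of_move {H : Subgroup X} (hT : (D.T : Subgroup X) ≤ H)
    (hst : ∀ x : X, D.permX x 0 = 0 → x ∈ H) {g : X} (hg : g ∈ H) (hgm : D.permX g 0 ≠ 0) : H = ⊤ := by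
  classical
  rw [eq_top_iff]
  intro x _
  by_cases hx : D.permX x 0 = 0
  · exact hst x hx
  -- a point stabiliser is a maximal subgroup
  set I := H.map D.permX
  have hker : D.permX.ker ≤ H := by
    rw [D.permX_ker]; exact (D.sub_le _).trans hT
  suffices hI : D.permX x ∈ I by
    obtain ⟨y, hy, e⟩ := hI
    have h1 : y⁻¹ * x ∈ H := hker (by rw [MonoidHom.mem_ker, map_mul, map_inv, e, inv_mul_cancel])
    have := mul_mem hy h1
    rwa [mul_inv_cancel_left] at this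
  have hstI : ∀ p : Perm (Fin 5), Perm.sign p = 1 → p 0 = 0 → p ∈ I := by
    intro p hp h0
    obtain ⟨y, rfl⟩ : p ∈ D.permX.range := D.permX_range.symm ▸ Perm.mem_alternatingGroup.mpr hp
    exact ⟨y, hst y h0, rfl⟩
  have hgI : D.permX g ∈ I := ⟨g, hg, rfl⟩
  obtain ⟨a, ha, b, hb, ha0, hb0, e⟩ := (show ∀ m : Perm (Fin 5), Perm.sign m = 1 → m 0 ≠ 0 →
      ∀ p : Perm (Fin 5), Perm.sign p = 1 → p 0 ≠ 0 →
      ∃ a : Perm (Fin 5), Perm.sign a = 1 ∧ ∃ b : Perm (Fin 5), Perm.sign b = 1 ∧ a 0 = 0 ∧ b 0 = 0 ∧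
        (p = a * m * b ∨ p = a * m⁻¹ * b) by
    intro m hm hm0 p hp hp0
    obtain ⟨a, hsa, ha0, ham⟩ := (show ∀ i j : Fin 5, i ≠ 0 → j ≠ 0 →
        ∃ a : Perm (Fin 5), Perm.sign a = 1 ∧ a 0 = 0 ∧ a i = j by decide +kernel) (m 0) (p 0) hm0 hp0
    refine ⟨a, hsa, (a * m)⁻¹ * p, ?_, ha0, ?_, Or.inl (by group)⟩
    · rw [map_mul, map_inv, map_mul, hsa, hm, hp]; rfl
    · rw [Perm.mul_apply, Perm.inv_eq_iff_eq, Perm.mul_apply, ham]) _ (D.sign_permX g) hgm _ (D.sign_permX x) hx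
  rcases e with e | e <;> rw [e]
  · exact mul_mem (mul_mem (hstI a ha ha0) hgI) (hstI b hb hb0)
  · exact mul_mem (mul_mem (hstI a ha ha0) (inv_mem hgI)) (hstI b hb hb0)

end Ctx

end CfsgJTwo
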