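import Cfsg.Agent.Lib.JTwoType.KGen
import Cfsg.Agent.Lib.JTwoType.CentQuot

/-!
`Star` trivial: the commutator of `D0` with `σ` is normalised by `K` and the normaliser of the four-group.

Blueprint: `blueprint/S1776.md`, part C.
-/

set_option autoImplicit false
set_option linter.unusedSectionVars false
set_option maxRecDepth 100000

namespace CfsgJTwo

open Cfsg CfsgA8C CfsgLib.Signalizer

universe u

namespace W

/-- The witnesses: an involution outside the centralisers of `v` and `σ` in the product of their common centraliser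
and `vσ`. -/
def wb : W := ⟨.e, .e, .w, false⟩
def wc : W := ⟨0, .e, 0, false⟩
def wr : W := ⟨.w, .w2, .w, false⟩
def we : W := ⟨.w, .w2, .w2, false⟩

theorem witness : wb * (v * σ) = wc * σ * wc⁻¹ ∧ wc * wr * wc⁻¹ * we = v ∧
    (IsQ wb ∧ wb * v = v * wb ∧ wb * σ = σ * wb) ∧ (IsQ we ∧ we * v = v * we ∧ we * σ = σ * we) ∧
    (IsQ wr ∧ wr * σ = σ * wr) := by decide

/-- The part of the extraspecial group commuting with `v` and `σ`. -/
def Bs : Subgroup W := Qs ⊓ Subgroup.centralizer ({v, σ} : Set W)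

theorem mem_Bs {w : W} : w ∈ Bs ↔ IsQ w ∧ w * v = v * w ∧ w * σ = σ * w := by
  simp only [Bs, Subgroup.mem_inf, Subgroup.mem_centralizer_iff, Set.mem_insert_iff, Set.mem_singleton_iff,
    forall_eq_or_imp, forall_eq, mem_Qs]
  exact and_congr Iff.rfl (and_congr eq_comm eq_comm)

end W

variable {G : Type u} [Group G] [Finite G] [IsSimpleGroup G] (D : Emb G)

namespace Emb

/-- The commutators of `D0` with `σ`. -/
def YS : Subgroup G :=
  Subgroup.closure ((fun x => x * D.ι W.σ * x⁻¹ * (D.ι W.σ)⁻¹) '' (D.DZero : Set G))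

theorem YS_le : D.YS ≤ D.DZero := by
  refine (Subgroup.closure_le _).mpr ?_
  rintro _ ⟨x, hx, rfl⟩
  show x * D.ι W.σ * x⁻¹ * (D.ι W.σ)⁻¹ ∈ D.DZero
  rw [show x * D.ι W.σ * x⁻¹ * (D.ι W.σ)⁻¹ = x * (D.ι W.σ * x⁻¹ * (D.ι W.σ)⁻¹) by group]
  exact mul_mem hx (DZero_sigma (inv_mem hx))

theorem YS_odd : Odd (Nat.card ↥D.YS) := odd_mono D.YS_le D.DZero_odd

theorem norm_YS {g : G} (h : ∀ x ∈ D.DZero, g * (x * D.ι W.σ * x⁻¹ * (D.ι W.σ)⁻¹) * g⁻¹ ∈ D.YS) :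
    g ∈ Subgroup.normalizer (D.YS : Set G) := by
  refine le_norm_of_map ?_
  unfold YS
  rw [MonoidHom.map_closure, Subgroup.closure_le]
  rintro _ ⟨_, ⟨x, hx, rfl⟩, rfl⟩
  exact h x hx

theorem YS_gen {x : G} (hx : x ∈ D.DZero) : x * D.ι W.σ * x⁻¹ * (D.ι W.σ)⁻¹ ∈ D.YS :=
  Subgroup.subset_closure ⟨x, hx, rfl⟩

variable {D}

theorem sigma_inv : (D.ι W.σ)⁻¹ = D.ι W.σ := by
  rw [← map_inv]; exact congrArg D.ι (by decide)

theorem YS_sigma_inverted {x : G} :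
    D.ι W.σ * (x * D.ι W.σ * x⁻¹ * (D.ι W.σ)⁻¹) * (D.ι W.σ)⁻¹ = (x * D.ι W.σ * x⁻¹ * (D.ι W.σ)⁻¹)⁻¹ := by
  have h2 : D.ι W.σ * D.ι W.σ = 1 := by rw [← map_mul, W.σ_sq, map_one]
  rw [mul_inv_rev, mul_inv_rev, mul_inv_rev, inv_inv, inv_inv]
  simp only [sigma_inv]
  rw [show D.ι W.σ * (x * D.ι W.σ * x⁻¹ * D.ι W.σ) * D.ι W.σ =
    D.ι W.σ * x * D.ι W.σ * x⁻¹ * (D.ι W.σ * D.ι W.σ) by group, h2, mul_one]
  group

theorem D0_norm_YS {g : G} (hg : g ∈ D.DZero) : g ∈ Subgroup.normalizer (D.YS : Set G) :=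
  D.norm_YS fun x hx => by
    rw [show g * (x * D.ι W.σ * x⁻¹ * (D.ι W.σ)⁻¹) * g⁻¹ =
      g * x * D.ι W.σ * (g * x)⁻¹ * (D.ι W.σ)⁻¹ * (g * D.ι W.σ * g⁻¹ * (D.ι W.σ)⁻¹)⁻¹ by group]
    exact mul_mem (D.YS_gen (mul_mem hg hx)) (inv_mem (D.YS_gen hg))

theorem sigma_norm_YS : D.ι W.σ ∈ Subgroup.normalizer (D.YS : Set G) :=
  D.norm_YS fun x hx => by rw [YS_sigma_inverted]; exact inv_mem (D.YS_gen hx)

section

variable (h : D.Two) {d : G} (hd : D.IsD d) (hS : D.Star = ⊥)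
include h hd hS

theorem DZero_hT : ∀ x ∈ D.K, x * D.ι W.v = D.ι W.v * x → ∀ t : W, W.IsT t → x * D.ι t = D.ι t * x :=
  fun _ hx hv _ ht => DZero_cent_Ts h hd hS (Subgroup.mem_inf.mpr ⟨hx, mem_cent.mpr hv⟩) ht

/-- The centraliser of `σ` in `K` normalises the commutator group. -/
theorem sig_norm_YS {y : G} (hy : y ∈ D.K) (hys : y * D.ι W.σ = D.ι W.σ * y) :
    y ∈ Subgroup.normalizer (D.YS : Set G) := by
  set O := D.K ⊓ Subgroup.centralizer (D.sub W.Bs : Set G) with hO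
  have hOodd : Odd (Nat.card O) := odd_mono inf_le_left (Kc_odd _)
  have hOmem : ∀ {x : G}, x ∈ D.K → (∀ b ∈ W.Bs, x * D.ι b = D.ι b * x) → x ∈ O := fun {x} hx hb =>
    Subgroup.mem_inf.mpr ⟨hx, Subgroup.mem_centralizer_iff.mpr (by rintro _ ⟨b, hb', rfl⟩; exact (hb b hb').symm)⟩
  have hOb : ∀ {x : G}, x ∈ O → ∀ {b : W}, b ∈ W.Bs → x * D.ι b = D.ι b * x := fun {x} hx b hb =>
    (Subgroup.mem_centralizer_iff.mp (Subgroup.mem_inf.mp hx).2 _ (D.mem_sub.mpr hb)).symm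
  have hconjO : ∀ a : W, (∀ b ∈ W.Bs, a * b = b * a) → ∀ x ∈ O, D.ι a * x * (D.ι a)⁻¹ ∈ O := by
    intro a ha x hx
    refine hOmem (D.T_conj_K (Subgroup.mem_inf.mp hx).1) fun b hb => ?_
    have h1 : Commute (D.ι a) (D.ι b) := D.comm_iff.mpr (ha b hb)
    exact (h1.mul_left (show Commute x _ from hOb hx hb)).mul_left h1.inv_left
  have hvB : ∀ b ∈ W.Bs, W.v * b = b * W.v := fun b hb => ((W.mem_Bs.mp hb).2.1).symm
  have hsB : ∀ b ∈ W.Bs, W.σ * b = b * W.σ := fun b hb => ((W.mem_Bs.mp hb).2.2).symm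
  have hDO : ∀ x ∈ D.DZero, x ∈ O := fun x hx => hOmem (Subgroup.mem_inf.mp hx).1 fun b hb =>
    DZero_cent_Ts h hd hS hx (W.v_cent_T b (W.mem_Bs.mp hb).2.1)
  have hyO : y ∈ O := hOmem hy fun b hb =>
    D.cent_sig_Q (DZero_hT h hd hS) hy hys (W.mem_Bs.mp hb).1 (W.mem_Bs.mp hb).2.2
  have haa : ∀ x ∈ O, D.ι W.v * (D.ι W.v * x * (D.ι W.v)⁻¹) * (D.ι W.v)⁻¹ = x := fun x _ => by
    rw [show D.ι W.v * (D.ι W.v * x * (D.ι W.v)⁻¹) * (D.ι W.v)⁻¹ = D.ι W.v * D.ι W.v * x *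
      (D.ι W.v * D.ι W.v)⁻¹ by group, ← map_mul, show W.v * W.v = 1 by decide, map_one]; group
  have hbb : ∀ x ∈ O, D.ι W.σ * (D.ι W.σ * x * (D.ι W.σ)⁻¹) * (D.ι W.σ)⁻¹ = x := fun x _ => by
    rw [show D.ι W.σ * (D.ι W.σ * x * (D.ι W.σ)⁻¹) * (D.ι W.σ)⁻¹ = D.ι W.σ * D.ι W.σ * x *
      (D.ι W.σ * D.ι W.σ)⁻¹ by group, ← map_mul, W.σ_sq, map_one]; group
  have hab : ∀ x ∈ O, D.ι W.v * (D.ι W.σ * x * (D.ι W.σ)⁻¹) * (D.ι W.v)⁻¹ =
      D.ι W.σ * (D.ι W.v * x * (D.ι W.v)⁻¹) * (D.ι W.σ)⁻¹ := by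
    intro x hx
    have hz : D.ι W.z * x * (D.ι W.z)⁻¹ = x :=
      mul_inv_eq_iff_eq_mul.mpr (D.z_comm_K (Subgroup.mem_inf.mp hx).1).symm
    rw [show D.ι W.v * (D.ι W.σ * x * (D.ι W.σ)⁻¹) * (D.ι W.v)⁻¹ =
      D.ι W.v * D.ι W.σ * x * (D.ι W.v * D.ι W.σ)⁻¹ by group, ← map_mul,
      show W.v * W.σ = W.σ * W.v * W.z by decide, map_mul, map_mul,
      show D.ι W.σ * D.ι W.v * D.ι W.z * x * (D.ι W.σ * D.ι W.v * D.ι W.z)⁻¹ =
        D.ι W.σ * (D.ι W.v * (D.ι W.z * x * (D.ι W.z)⁻¹) * (D.ι W.v)⁻¹) * (D.ι W.σ)⁻¹ by group, hz]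
  have hfix : ∀ x ∈ O, D.ι W.v * (D.ι W.σ * x * (D.ι W.σ)⁻¹) * (D.ι W.v)⁻¹ = x →
      D.ι W.v * x * (D.ι W.v)⁻¹ = x := by
    intro x hx hf
    obtain ⟨e1, e2, hb, he, hr, hrs⟩ := W.witness
    have hf' : Commute x (D.ι (W.v * W.σ)) := by
      have : D.ι W.v * D.ι W.σ * x * (D.ι W.v * D.ι W.σ)⁻¹ = x := by
        conv_rhs => rw [← hf]
        group
      rw [map_mul]
      exact (mul_inv_eq_iff_eq_mul.mp this).symm
    have hc : Commute x (D.ι (W.wb * (W.v * W.σ))) := by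
      rw [map_mul]
      exact (show Commute x _ from hOb hx (W.mem_Bs.mpr hb)).mul_right hf'
    rw [e1] at hc
    have hxc : (D.ι W.wc)⁻¹ * x * D.ι W.wc * D.ι W.σ = D.ι W.σ * ((D.ι W.wc)⁻¹ * x * D.ι W.wc) := by
      calc (D.ι W.wc)⁻¹ * x * D.ι W.wc * D.ι W.σ
          = (D.ι W.wc)⁻¹ * (x * D.ι (W.wc * W.σ * W.wc⁻¹)) * D.ι W.wc := by
            simp only [map_mul, map_inv]; group
        _ = (D.ι W.wc)⁻¹ * (D.ι (W.wc * W.σ * W.wc⁻¹) * x) * D.ι W.wc := by rw [hc.eq]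
        _ = _ := by simp only [map_mul, map_inv]; group
    have h1 : (D.ι W.wc)⁻¹ * x * D.ι W.wc * D.ι W.wr = D.ι W.wr * ((D.ι W.wc)⁻¹ * x * D.ι W.wc) :=
      D.cent_sig_Q (DZero_hT h hd hS) (by
        have := D.T_conj_K (w := W.wc⁻¹) (Subgroup.mem_inf.mp hx).1
        rwa [map_inv, inv_inv] at this) hxc hr hrs
    have h2 : Commute x (D.ι (W.wc * W.wr * W.wc⁻¹)) := by
      show x * D.ι (W.wc * W.wr * W.wc⁻¹) = D.ι (W.wc * W.wr * W.wc⁻¹) * x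
      simp only [map_mul, map_inv]
      calc x * (D.ι W.wc * D.ι W.wr * (D.ι W.wc)⁻¹)
          = D.ι W.wc * ((D.ι W.wc)⁻¹ * x * D.ι W.wc * D.ι W.wr) * (D.ι W.wc)⁻¹ := by group
        _ = D.ι W.wc * (D.ι W.wr * ((D.ι W.wc)⁻¹ * x * D.ι W.wc)) * (D.ι W.wc)⁻¹ := by rw [h1]
        _ = _ := by group
    have h3 : Commute x (D.ι W.v) := by
      rw [← e2, map_mul]
      exact h2.mul_right (show Commute x _ from hOb hx (W.mem_Bs.mpr he))
    exact mul_inv_eq_iff_eq_mul.mpr h3.eq.symm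
  obtain ⟨k, hk⟩ := inv_split hOodd (hconjO W.v hvB) haa hyO
  set t := (D.ι W.v * y * (D.ι W.v)⁻¹)⁻¹ * y with ht
  set i := t ^ k with hi
  obtain ⟨hiO, hvi, -, hvf⟩ := hk t i ht hi
  have hsy : D.ι W.σ * y * (D.ι W.σ)⁻¹ = y := mul_inv_eq_iff_eq_mul.mpr hys.symm
  have hsi : D.ι W.σ * i * (D.ι W.σ)⁻¹ = i := by
    rw [hi, ← conj_pow]
    congr 1
    rw [ht, ← conj_mul, hsy]
    congr 1
    have := hab y hyO
    rw [hsy] at this
    calc D.ι W.σ * (D.ι W.v * y * (D.ι W.v)⁻¹)⁻¹ * (D.ι W.σ)⁻¹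
        = (D.ι W.σ * (D.ι W.v * y * (D.ι W.v)⁻¹) * (D.ι W.σ)⁻¹)⁻¹ := by group
      _ = _ := by rw [← this]
  have hiY : i ∈ Subgroup.normalizer (D.YS : Set G) := by
    refine D.norm_YS fun x hx => ?_
    set s := x * D.ι W.σ * x⁻¹ * (D.ι W.σ)⁻¹ with hs
    have hsD : s ∈ D.DZero := D.YS_le (D.YS_gen hx)
    have hc : s * i = i * s := four_commute hOodd (a := D.ι W.v) (b := D.ι W.σ) (hconjO W.v hvB) (hconjO W.σ hsB) hbb
      hab hfix (hDO s hsD) hiO (mul_inv_eq_iff_eq_mul.mpr (mem_cent.mp (Subgroup.mem_inf.mp hsD).2).symm)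
      YS_sigma_inverted hsi hvi
    rw [← hc, mul_inv_cancel_right]
    exact D.YS_gen hx
  have hf : y * i⁻¹ ∈ D.DZero := Subgroup.mem_inf.mpr
    ⟨mul_mem hy (inv_mem (Subgroup.mem_inf.mp hiO).1), mem_cent.mpr (mul_inv_eq_iff_eq_mul.mp hvf).symm⟩
  have := mul_mem (D0_norm_YS hf) hiY
  rwa [inv_mul_cancel_right] at this

theorem T_norm_YS : (D.T : Subgroup G) ≤ Subgroup.normalizer (D.YS : Set G) := by
  intro t ht
  obtain ⟨w, rfl⟩ := D.exists_pre ht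
  have hT : ∀ w : W, W.IsT w → D.ι w ∈ Subgroup.normalizer (D.YS : Set G) := fun w hw => D.norm_YS fun x hx => by
    rw [← DZero_cent_Ts h hd hS (D.YS_le (D.YS_gen hx)) hw, mul_inv_cancel_right]
    exact D.YS_gen hx
  by_cases hw : W.IsT w
  · exact hT w hw
  · rw [show w = W.σ * (W.σ * w) by rw [← mul_assoc, W.σ_sq, one_mul], map_mul]
    exact mul_mem sigma_norm_YS
      (hT _ ((show ∀ y : W, ¬ W.IsT y → W.IsT (W.σ * y) by decide +kernel) w hw))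

/-- The automiser centralises `D0`. -/
theorem DZero_fixed {u : W} {n : G} (c : D.Cyc u n) {x : G} (hx : x ∈ D.DZero) : n * x * n⁻¹ = x := by
  have hnD : n * x * n⁻¹ ∈ D.DZero := by
    refine Subgroup.mem_inf.mpr ⟨?_, mem_cent.mpr ?_⟩
    · have h1 := Kc_conj (g := n) (DZero_le_Kw (show W.IsW0 W.v by decide) W.v_ne hx)
      rwa [c.nv] at h1
    · have h1 := DZero_comm hx (a := W.v * W.z) (by decide)
      rw [← c.nvz h, conj_mul, conj_mul, h1]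
  have hA : ∀ a ∈ D.A, x * a = a * x := fun a ha => DZero_cent_A h hd hS hx ha
  have hm : n * x * n⁻¹ * x⁻¹ ∈ D.DZero := mul_mem hnD (inv_mem hx)
  have h1 := c.field h (hA _ (D.mem_sub.mpr c.a1)) hA (odd_orderOf D.DZero_odd hx) (odd_orderOf D.DZero_odd hm)
  exact mul_inv_eq_one.mp (DZero_inf_Ku h hd hS c.a1 c.out hm h1)

theorem norm_W0_le_of {M : Subgroup G} {u : W} {n : G} (c : D.Cyc u n) (hT : (D.T : Subgroup G) ≤ M) (hdM : d ∈ M)
    (hnM : n ∈ M) (hDM : D.DZero ≤ M) : Subgroup.normalizer (D.sub W.W0s : Set G) ≤ M := by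
  refine hd.norm_W0_le hT hdM (fun a ha ha1 => ?_) fun o ho hov => hDM (Subgroup.mem_inf.mpr ⟨ho, mem_cent.mpr hov⟩)
  rcases W.W0_list a ha with e | e | e | e <;> subst e
  · exact absurd rfl ha1
  · exact ⟨1, one_mem _, by simp, one_mem _⟩
  · exact ⟨n, hnM, c.nv, c.mem⟩
  · exact ⟨n * n, mul_mem hnM hnM, by
      rw [show n * n * D.ι (W.v * W.z) * (n * n)⁻¹ = n * (n * D.ι (W.v * W.z) * n⁻¹) * n⁻¹ by group, c.nvz h, c.nv],
      mul_mem c.mem c.mem⟩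

/-- `Star` trivial: a proper subgroup containing the Sylow subgroup, `K` and the normaliser of the four-group. -/
theorem good_bot (hK : D.K ≠ ⊥) : ∃ M, D.Good M := by
  obtain ⟨n, c⟩ := exists_cyc hd W.u_facts.1 W.u_facts.2.2.1.2
  have hs : ∀ t ∈ W.reps, ∀ x ∈ D.K, x * D.ι (t * W.σ * t⁻¹) = D.ι (t * W.σ * t⁻¹) * x →
      (D.ι t)⁻¹ * x * D.ι t ∈ D.K ∧
        (D.ι t)⁻¹ * x * D.ι t * D.ι W.σ = D.ι W.σ * ((D.ι t)⁻¹ * x * D.ι t) := by
    intro t _ x hx hxs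
    constructor
    · have := D.T_conj_K (w := t⁻¹) hx
      rwa [map_inv, inv_inv] at this
    · calc (D.ι t)⁻¹ * x * D.ι t * D.ι W.σ = (D.ι t)⁻¹ * (x * D.ι (t * W.σ * t⁻¹)) * D.ι t := by
            simp only [map_mul, map_inv]; group
        _ = (D.ι t)⁻¹ * (D.ι (t * W.σ * t⁻¹) * x) * D.ι t := by rw [hxs]
        _ = _ := by simp only [map_mul, map_inv]; group
  by_cases hY : D.YS = ⊥
  · -- `K` is `D0`
    have hDs : ∀ x ∈ D.DZero, x * D.ι W.σ = D.ι W.σ * x := fun x hx => by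
      have h1 := D.YS_gen hx
      rw [hY, Subgroup.mem_bot] at h1
      exact mul_inv_eq_iff_eq_mul.mp (mul_inv_eq_one.mp h1)
    obtain ⟨g, hgz, hgv⟩ := D.exists_sig_v
    set S := D.K ⊓ Subgroup.centralizer ({D.ι W.σ} : Set G)
    have hle : D.DZero ≤ S := fun x hx => Subgroup.mem_inf.mpr ⟨(Subgroup.mem_inf.mp hx).1, mem_cent.mpr (hDs x hx)⟩
    have hmap : S.map (MulAut.conj g).toMonoidHom ≤ D.DZero := by
      rintro _ ⟨x, hx, rfl⟩
      obtain ⟨hxK, hxs⟩ := Subgroup.mem_inf.mp hx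
      refine Subgroup.mem_inf.mpr ⟨Kc_norm hgz hxK, mem_cent.mpr ?_⟩
      show g * x * g⁻¹ * D.ι W.v = D.ι W.v * (g * x * g⁻¹)
      rw [← hgv, conj_mul, conj_mul, mem_cent.mp hxs]
    have heq : D.DZero = S := Subgroup.eq_of_le_of_card_ge hle
      ((Subgroup.card_map_of_injective (MulAut.conj g).injective).symm.le.trans
        (Nat.le_of_dvd Nat.card_pos (Subgroup.card_dvd_of_le hmap)))
    have hKD : D.K ≤ D.DZero := D.K_le_of_cent (fun x hx hv => Subgroup.mem_inf.mpr ⟨hx, mem_cent.mpr hv⟩)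
      fun t ht x hx hxs => by
        obtain ⟨h1, h2⟩ := hs t ht x hx hxs
        have h3 : (D.ι t)⁻¹ * x * D.ι t ∈ D.DZero := heq ▸ Subgroup.mem_inf.mpr ⟨h1, mem_cent.mpr h2⟩
        have h4 := DZero_cent_Ts h hd hS h3 (W.reps_T t ht)
        have h5 : x = (D.ι t)⁻¹ * x * D.ι t := mul_left_cancel (a := D.ι t) (by
          rw [show D.ι t * ((D.ι t)⁻¹ * x * D.ι t) = x * D.ι t by group, ← mul_left_inj (D.ι t)⁻¹]
          have h6 : D.ι t * ((D.ι t)⁻¹ * x * D.ι t) * (D.ι t)⁻¹ = (D.ι t)⁻¹ * x * D.ι t := by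
            rw [← h4, mul_inv_cancel_right]
          rw [show D.ι t * ((D.ι t)⁻¹ * x * D.ι t) * (D.ι t)⁻¹ = x by group] at h6
          conv_lhs => rw [h6]
          group)
        rw [h5]; exact h3
    have hN : ∀ g : G, g * D.ι W.z = D.ι W.z * g → g ∈ Subgroup.normalizer (D.K : Set G) := fun g hg =>
      mem_norm_of fun x hx => Kc_norm hg hx
    have hnK : n ∈ Subgroup.normalizer (D.K : Set G) := mem_norm_of fun x hx => by
      rw [DZero_fixed h hd hS c (hKD hx)]; exact hx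
    have hTK : (D.T : Subgroup G) ≤ Subgroup.normalizer (D.K : Set G) := fun t ht => by
      obtain ⟨w, rfl⟩ := D.exists_pre ht
      exact hN _ (D.comm_iff.mpr (W.z_central w).symm)
    exact ⟨_, D.proper_norm (Kc_odd _) hK, hTK, Subgroup.le_normalizer, norm_W0_le_of h hd hS c hTK (hN d hd.cz) hnK
      ((inf_le_left : D.DZero ≤ D.K).trans Subgroup.le_normalizer)⟩
  · have hTY := T_norm_YS h hd hS
    have hnY : n ∈ Subgroup.normalizer (D.YS : Set G) := D.norm_YS fun x hx => by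
      rw [DZero_fixed h hd hS c (D.YS_le (D.YS_gen hx))]; exact D.YS_gen hx
    have hDY : D.DZero ≤ Subgroup.normalizer (D.YS : Set G) := fun x hx => D0_norm_YS hx
    have hdY : d ∈ Subgroup.normalizer (D.YS : Set G) := D.norm_YS fun x hx => by
      have hdx : d * x * d⁻¹ ∈ D.DZero := DZero_conj hd.cz hd.cv hx
      obtain ⟨w, hw⟩ := hd.nT W.σ
      have hwT : ¬ W.IsT w := fun hwt => by
        have h1 : w * W.v = W.v * w := (W.cent_v W.v w (Or.inl rfl)).mpr hwt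
        have h2 : D.ι W.σ * D.ι W.v = D.ι W.v * D.ι W.σ := by
          have h3 : Commute (d * D.ι W.σ * d⁻¹) (D.ι W.v) := hw ▸ D.comm_iff.mpr h1
          have h4 := ((show Commute d (D.ι W.v) from hd.cv).inv_left.mul_left h3).mul_left
            (show Commute d (D.ι W.v) from hd.cv)
          simpa [mul_assoc] using h4.eq
        exact absurd (D.comm_iff.mp h2) (by decide)
      set t := W.σ * w
      have ht : W.IsT t := (show ∀ y : W, ¬ W.IsT y → W.IsT (W.σ * y) by decide +kernel) w hwT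
      have hdw : d * D.ι W.σ * d⁻¹ = D.ι W.σ * D.ι t := by
        rw [hw, ← map_mul, ← mul_assoc, W.σ_sq, one_mul]
      have h5 : d * x * d⁻¹ * D.ι t = D.ι t * (d * x * d⁻¹) := DZero_cent_Ts h hd hS hdx ht
      rw [show d * (x * D.ι W.σ * x⁻¹ * (D.ι W.σ)⁻¹) * d⁻¹ = d * x * d⁻¹ * (d * D.ι W.σ * d⁻¹) * (d * x * d⁻¹)⁻¹ *
        (d * D.ι W.σ * d⁻¹)⁻¹ by group, hdw]
      have h6 : d * x * d⁻¹ * (D.ι W.σ * D.ι t) * (d * x * d⁻¹)⁻¹ * (D.ι W.σ * D.ι t)⁻¹ =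
          d * x * d⁻¹ * D.ι W.σ * (D.ι t * (d * x * d⁻¹)⁻¹) * (D.ι t)⁻¹ * (D.ι W.σ)⁻¹ := by group
      rw [h6, ← (show Commute (d * x * d⁻¹) (D.ι t) from h5).inv_left.eq, ← mul_assoc, mul_inv_cancel_right]
      exact D.YS_gen hdx
    refine ⟨_, D.proper_norm D.YS_odd hY, hTY, ?_, norm_W0_le_of h hd hS c hTY hdY hnY hDY⟩
    refine D.K_le_of_cent (fun x hx hv => hDY (Subgroup.mem_inf.mpr ⟨hx, mem_cent.mpr hv⟩)) fun t ht x hx hxs => ?_
    obtain ⟨h1, h2⟩ := hs t ht x hx hxs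
    have ht' := hTY (D.mem_T t)
    have := mul_mem (mul_mem ht' (sig_norm_YS h hd hS h1 h2)) (inv_mem ht')
    simpa [mul_assoc] using this

end

end Emb

end CfsgJTwo
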